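import Cfsg.Agent.H188.Der.GeoO_m3
import Cfsg.Agent.H503.BG.RowsL
import Cfsg.Agent.Lib.Refl
import Cfsg.Agent.H580.Der.Ntc_m3
import Cfsg.Agent.H921.M22.Facts2
import Cfsg.Agent.H380.AltSpec
import Cfsg.Agent.CpAut.Alt
import Cfsg.Agent.J4Type.Aut22
import Cfsg.Agent.BpSpor.RowAll
import Cfsg.Agent.H809.SelfCentPSU
import Cfsg.Agent.H341.ThreeList_m3
import Cfsg.Agent.H884.ElO8
import Cfsg.Agent.S0294
import Cfsg.Agent.H410.Three.Psl2_mg_m3
import Cfsg.Agent.H884.SaxU
import Cfsg.Agent.H278.ElCore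
import Cfsg.Agent.H997.PF.RowsTop
import Cfsg.Agent.H547.Der.OctK_m3
import Cfsg.Agent.H348.Der.Class
import Cfsg.Agent.SporadicA.FieldFour
import Mathlib.LinearAlgebra.BilinearForm.Orthogonal
import Mathlib.LinearAlgebra.Dual.Lemmas
import Cfsg.Agent.H251.Der.Facts
import Cfsg.Agent.Lib.FinFast
import Cfsg.Agent.H548.DerAlt
import Cfsg.Agent.Lib.FieldAutCard
import Cfsg.Agent.H372.FourList_m3
import Cfsg.Agent.S2474
import Cfsg.Agent.H833.RS.O73Res
import Cfsg.Agent.H503.El.O73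
import Cfsg.Agent.FastGrp
import Cfsg.Agent.Prune
set_option linter.all false

section
prune_inst 0x7f00000000000000000000000000000000000000000000000000000000000000000000000000000000000000000000000000000000000000000000000000000000000000000000000000000000000000003fffffffffffffffffffffffffffbeffbdffbffffd

section
prune_inst 0xf3bdfbdff83ddfffff7e7ffffcdffdffbdffffefdff9fb7fe4ffff2fdf6b0ecbc5fbafefeb50fc1ef6e23410f87b53fbfffeffea6fdc7ffffd5ff45ffbffdfffffbd08519f98b40fbe6ffff3f077ce7f000000000000000000000000000000000200400002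

-- part: H188/Der/O8mA
section
prune_inst 0xc420420070220000000000000200200400000100002008012000090209090303804001000a903600118ca080504ac04000000010001000002000820040000000040352460250ad04100000000080000000000000000000000000000000000004000000000
set_option linter.all false
open scoped Cfsg.Agent.FastGrp

/-!
# Subgroups of `Ω₈⁻(2)` of order divisible by `35` and not by `17` (helper188, S3502)
-/

set_option autoImplicit false
set_option linter.unusedSectionVars false

namespace Cfsg.Agent.H188.Der.O8m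

open Module QuadraticMap Cfsg Cfsg.Geo Cfsg.Agent.LieClassical.OrthCore Cfsg.Agent.H955 Cfsg.Agent.H954.TSing
  Cfsg.Agent.H884.El Cfsg.Agent.LieClassical.OmegaReindex Cfsg.Agent.H938.Sax Cfsg.Agent.H320.Der
  Cfsg.Agent.H188.Der.GeoO Cfsg.Agent.H188.Der.AutNo Subgroup Cfsg.Agent.OrdDiv
open Cfsg.Agent.H951 (fx cm)
open scoped MatrixGroups Matrix

universe u v

section lin

variable {F : Type u} [Field F] [Fintype F] {V : Type v} [AddCommGroup V] [Module F V] [FiniteDimensional F V]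
  {Q : QuadraticForm F V}

theorem pp5 (hF : Fintype.card F = 2) : PP (Nat.card F) 4 5 := pp_of_card hF (by norm_num) (by
  refine (orderOf_eq_iff (by norm_num)).2 ⟨by decide, fun m hm hm0 => ?_⟩
  interval_cases m <;> decide)

theorem no_35 (hF : Fintype.card F = 2) {g : Module.End F V} (hQ : Nondeg Q) (hg : ∀ v, Q (g v) = Q v)
    (ho : orderOf g = 35) (hd : finrank F V ≤ 8) : False := by
  have hgo : g ^ 35 = 1 := by rw [← ho]; exact pow_orderOf_eq_one g
  have hne : ∀ n : ℕ, ¬ 35 ∣ n → g ^ n ≠ 1 := fun n hn h => hn (by rw [← ho]; exact orderOf_dvd_of_pow_eq_one h)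
  have hx : Iso Q (g ^ 5) 7 := Iso.mk' (pp7 hF) (by omega) (by rw [← pow_mul, hgo]) (iso_pow hg 5)
  have hy : Iso Q (g ^ 7) 5 := Iso.mk' (pp5 hF) (by omega) (by rw [← pow_mul, hgo]) (iso_pow hg 7)
  have hx1 : g ^ 5 ≠ 1 := hne 5 (by decide)
  have hy1 : g ^ 7 ≠ 1 := hne 7 (by decide)
  have hxy : g ^ 5 * g ^ 7 = g ^ 7 * g ^ 5 := by rw [← pow_add, ← pow_add]
  have h6 := (hx.odd_case hQ hx1 (pp7 hF) (by decide) (by omega)).1
  have h3 := hx.dvd (pp7 hF) (W := cm (g ^ 7)) (Typ.inv_cm_of_comm hxy.symm)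
  have h4 := hy.dvd (pp5 hF) (W := cm (g ^ 5)) (Typ.inv_cm_of_comm hxy)
  rw [inf_comm] at h3
  have h5 : finrank F ↥(cm (g ^ 5) ⊓ cm (g ^ 7)) ≤ finrank F (cm (g ^ 5)) := Submodule.finrank_mono inf_le_left
  have h0 : cm (g ^ 5) ⊓ cm (g ^ 7) = ⊥ := Submodule.finrank_eq_zero.1 (by omega)
  have h7 := Typ.cm_le_fx hQ hx hy (le_fx_of_inf hy hxy h0)
  have h8 := hx.finrank_add
  have h9 : finrank F (cm (g ^ 7)) ≤ finrank F (fx (g ^ 5)) := Submodule.finrank_mono h7
  have h10 := hy.dvd_cm (pp5 hF)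
  have h11 : finrank F (cm (g ^ 7)) ≠ 0 := fun h0 => cm_ne_bot hy1 (Submodule.finrank_eq_zero.1 h0)
  omega

end lin

/-- a prime `r` not joined to `p` divides the order of the normal subgroup `L` -/
theorem dvd_of_cent {G : Type*} [Group G] [Finite G] {p r : ℕ} (hp : p.Prime) (hr : r.Prime) (hpr : p ≠ r)
    {L : Subgroup G} (hL : L.Normal) (hpL : p ∣ Nat.card L) (hp2 : ¬ p ^ 2 ∣ Nat.card G) (hrG : r ∣ Nat.card G)
    (hrp : ¬ r ∣ p - 1) (hno : ∀ x : G, orderOf x ≠ p * r) : r ∣ Nat.card L := by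
  by_contra hrL
  have hpf : Fact p.Prime := ⟨hp⟩
  obtain ⟨y, hy⟩ := exists_prime_orderOf_dvd_card' p hpL
  obtain ⟨s, hs, hc⟩ := exists_cent (N := 1) hr hp hrG hL hrL
    (fun h => hp2 (h.trans (card_subgroup_dvd_card L))) (by
      intro k hk j hj h
      have h1 : k = 0 ∨ k = 1 := by omega
      rcases h1 with rfl | rfl
      · omega
      · by_contra hne
        have hj0 : j = 0 := by omega
        subst hj0
        rw [pow_one, pow_zero] at h
        exact hrp ((Nat.modEq_iff_dvd' hp.one_lt.le).1 h.symm)) y.2 (n := 1) (by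
      rw [pow_one, ← hy, ← Subgroup.orderOf_coe, pow_orderOf_eq_one])
  apply hno (y * s)
  rw [hc.symm.orderOf_mul_eq_mul_orderOf_of_coprime, hs, Subgroup.orderOf_coe, hy]
  rw [hs, Subgroup.orderOf_coe, hy]
  exact (Nat.coprime_primes hp hr).2 hpr

/-- elements of order `n` of a quotient lift -/
theorem no_quot {R : Type*} [Group R] [Finite R] {K : Subgroup R} [K.Normal] {n : ℕ} (hno : ∀ x : R, orderOf x ≠ n)
    (x : R ⧸ K) : orderOf x ≠ n := by
  intro hx
  obtain ⟨g, rfl⟩ := QuotientGroup.mk'_surjective K x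
  have h1 : n ∣ orderOf g := by
    rw [← hx]
    exact orderOf_map_dvd _ g
  exact hno _ (orderOf_pow_orderOf_div (orderOf_pos g).ne' h1)

/-- elements of order `n` prime to `|K|` -/
theorem no_of_quot {R : Type*} [Group R] [Finite R] {K : Subgroup R} [K.Normal] {n : ℕ}
    (hn : n.Coprime (Nat.card K)) (hno : ∀ x : R ⧸ K, orderOf x ≠ n) (x : R) : orderOf x ≠ n := by
  intro hx
  apply hno (QuotientGroup.mk' K x)
  apply Nat.dvd_antisymm
  · rw [← hx]
    exact orderOf_map_dvd _ x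
  · have h1 : x ^ orderOf (QuotientGroup.mk' K x) ∈ K := by
      rw [← QuotientGroup.eq_one_iff]
      exact pow_orderOf_eq_one (QuotientGroup.mk' K x)
    have h2 : orderOf (x ^ orderOf (QuotientGroup.mk' K x)) ∣ Nat.card K := by
      have := orderOf_dvd_natCard (⟨_, h1⟩ : K)
      rwa [← Subgroup.orderOf_coe] at this
    have h3 : orderOf (x ^ orderOf (QuotientGroup.mk' K x)) ∣ n := by
      rw [← hx]
      exact orderOf_pow_dvd _
    have h4 : orderOf (x ^ orderOf (QuotientGroup.mk' K x)) = 1 := Nat.Coprime.eq_one_of_dvd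
      (Nat.Coprime.coprime_dvd_left h3 hn) h2
    rw [← hx]
    exact orderOf_dvd_of_pow_eq_one (orderOf_eq_one_iff.1 h4)

theorem noAut_psp32 {S : Type} [Group S] (h : Real (.psp 3 2) S) : Blk S 1 21 := by
  obtain ⟨F, _, _, hF, ⟨e⟩⟩ := h
  have : Fact (Nat.Prime 2) := ⟨Nat.prime_two⟩
  have := charP_of Nat.prime_two le_rfl (show Fintype.card F = 2 ^ 1 by rw [hF, pow_one])
  have h1 := Cfsg.Agent.S0814.result (F := F) 2 1 le_rfl (by rw [hF, pow_one]) 3 (by omega) (fun h => by omega)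
  rw [if_neg (fun h => by omega), one_mul] at h1
  refine Blk.congr e ⟨_, ?_, h1, psp_of_lm (by omega) (lm21 hF) (by norm_num)⟩
  exact Nat.mul_dvd_mul_right ((Nat.gcd_dvd_left _ _).trans (by decide)) 1

end Cfsg.Agent.H188.Der.O8m
end

-- part: H205/Der/L33
section
prune_inst 0x40004c2200000000000012002004200001000040000090000000010e12400000000048001810000802000008000000100040020000000a000000000000000008000000000000000000009080000000000000000000000000000000041004000000000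
set_option linter.all false
open scoped Cfsg.Agent.FastGrp

/-!
# `L3(3)` (helper205, S3502)

A subgroup of `L3(3)` missing `13` with elements of order `8`, transvections and regular unipotent elements has order
`432`.
-/

set_option autoImplicit false

namespace Cfsg.Agent.H205.DerPsl

open Subgroup Matrix Cfsg Cfsg.Agent.H39.DerPsl Cfsg.Agent.H439.Der Cfsg.Agent.OrdDiv Cfsg.Agent.H938.Sax
  Cfsg.Agent.ClassicalGeometry.AutPSL.Root Cfsg.Agent.ClassicalGeometry.AutPSL.Auto Cfsg.Agent.H199.PslAut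

abbrev S3 := Matrix.SpecialLinearGroup (Fin 3) (ZMod 3)

/-- an element of order eight -/
def gz : S3 := ⟨!![0, 1, 0; 1, 1, 0; 0, 0, 2], by decide +kernel⟩

theorem card_S3 : Nat.card S3 = 5616 := by
  have h2 := Cfsg.Agent.S0242.result (F := ZMod 3) (ZMod.card 3) 3 (by norm_num)
  have e1 : ∏ i : Fin 3, (3 ^ 3 - 3 ^ (i : ℕ)) = 11232 := by rfl
  rw [e1] at h2
  have h3 : (3 - 1) * Nat.card S3 = 11232 := h2
  omega

def inC (v : Fin 3 → ZMod 3) : Bool := decide (v 2 ≠ 0) && (decide (v 0 ≠ 0) || decide (v 1 ≠ 0))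

theorem dec_B : ∀ v w : Fin 3 → ZMod 3, v 2 = 0 → v ≠ 0 → w 2 = 0 → w ≠ 0 →
    ∃ k < 8, (gz.1 ^ k) *ᵥ v = w := by
  (set_option synthInstance.maxSize 100000 in exact Cfsg.Agent.Lib.Refl.of (by decide +kernel))

theorem dec_C : ∀ v w : Fin 3 → ZMod 3, inC v = true → inC w = true →
    ∃ k < 8, (gz.1 ^ k) *ᵥ v = w ∨ (gz.1 ^ k) *ᵥ v = -w := by
  (delta Cfsg.Agent.H205.DerPsl.inC; set_option synthInstance.maxSize 100000 in exact Cfsg.Agent.Lib.Refl.of (by decide +kernel))

/-- **The orbit of the fixed point of `gz`.** -/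
theorem orbit_alt (R : Subgroup S3) (h13 : ¬ 13 ∣ Nat.card R) (hg : gz ∈ R) :
    (∀ r ∈ R, r.1 0 2 = 0 ∧ r.1 1 2 = 0) ∨ (∀ r ∈ R, r.1 2 0 = 0 ∧ r.1 2 1 = 0) := by
  classical
  let act : MulAction R (Fin 3 → ZMod 3) :=
    { smul := fun u w => ((u : S3) : Matrix (Fin 3) (Fin 3) (ZMod 3)) *ᵥ w
      one_smul := fun w => Matrix.one_mulVec w
      mul_smul := fun a b w => (Matrix.mulVec_mulVec _ _ _).symm }
  set e3 : Fin 3 → ZMod 3 := ![0, 0, 1] with he3
  set O : Set (Fin 3 → ZMod 3) := MulAction.orbit R e3 with hO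
  have hmem : ∀ v, v ∈ O ↔ ∃ r ∈ R, r.1 *ᵥ e3 = v := by
    intro v
    constructor
    · rintro ⟨r, rfl⟩
      exact ⟨r, r.2, rfl⟩
    · rintro ⟨r, hr, rfl⟩
      exact ⟨⟨r, hr⟩, rfl⟩
  have hdvd : O.ncard ∣ Nat.card R := by
    rw [hO, ← MulAction.index_stabilizer]
    exact Subgroup.index_dvd_card _
  have hRS : Nat.card R ∣ 5616 := by rw [← card_S3]; exact Subgroup.card_subgroup_dvd_card R
  have hmul : ∀ r ∈ R, ∀ v ∈ O, r.1 *ᵥ v ∈ O := by
    intro r hr v hv
    obtain ⟨u, hu, rfl⟩ := (hmem v).1 hv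
    exact (hmem _).2 ⟨r * u, R.mul_mem hr hu, by rw [Matrix.mulVec_mulVec]; rfl⟩
  have hge3 : gz.1 *ᵥ e3 = -e3 := by decide
  have hneg : ∀ v ∈ O, -v ∈ O := by
    intro v hv
    obtain ⟨u, hu, rfl⟩ := (hmem v).1 hv
    exact (hmem _).2 ⟨u * gz, R.mul_mem hu hg, by
      change (u.1 * gz.1) *ᵥ e3 = _
      rw [← Matrix.mulVec_mulVec, hge3, Matrix.mulVec_neg]⟩
  have hpow : ∀ k : ℕ, ∀ v ∈ O, gz.1 ^ k *ᵥ v ∈ O := by
    intro k v hv
    have h1 := hmul (gz ^ k) (R.pow_mem hg k) v hv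
    rwa [Matrix.SpecialLinearGroup.coe_pow] at h1
  have hne0 : ∀ v ∈ O, v ≠ 0 := by
    intro v hv h0
    obtain ⟨u, hu, rfl⟩ := (hmem v).1 hv
    have h1 : (u⁻¹ : S3).1 *ᵥ (u.1 *ᵥ e3) = e3 := by
      rw [Matrix.mulVec_mulVec]
      change (u⁻¹ * u : S3).1 *ᵥ e3 = e3
      rw [inv_mul_cancel]
      exact Matrix.one_mulVec _
    rw [h0, Matrix.mulVec_zero] at h1
    exact absurd h1 (by decide)
  have he3O : e3 ∈ O := MulAction.mem_orbit_self _
  have hBall : ∀ v ∈ O, v 2 = 0 → ∀ w : Fin 3 → ZMod 3, w 2 = 0 → w ≠ 0 → w ∈ O := by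
    intro v hv hv2 w hw2 hw0
    obtain ⟨k, -, rfl⟩ := dec_B v w hv2 (hne0 v hv) hw2 hw0
    exact hpow k v hv
  have hCall : ∀ v ∈ O, inC v = true → ∀ w : Fin 3 → ZMod 3, inC w = true → w ∈ O := by
    intro v hv hvC w hwC
    obtain ⟨k, -, h | h⟩ := dec_C v w hvC hwC
    · rw [← h]
      exact hpow k v hv
    · have h1 := hneg _ (hpow k v hv)
      rw [h, neg_neg] at h1
      exact h1
  have hA : ∀ w : Fin 3 → ZMod 3, w 0 = 0 → w 1 = 0 → w ≠ 0 → w ∈ O := by
    intro w h0 h1 hw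
    have h2 : w = e3 ∨ w = -e3 := by
      revert w
      decide
    rcases h2 with rfl | rfl
    · exact he3O
    · exact hneg _ he3O
  -- third columns
  have hcol : ∀ r ∈ R, r.1 *ᵥ e3 = fun i => r.1 i 2 := by
    intro r _
    ext i
    simp [he3, Matrix.mulVec, dotProduct, Fin.sum_univ_three]
  by_cases hb : ∃ v ∈ O, v 2 = 0
  · exfalso
    obtain ⟨v, hv, hv2⟩ := hb
    by_cases hc : ∃ v ∈ O, inC v = true
    · obtain ⟨v', hv', hv'C⟩ := hc
      have h1 : O = ((Finset.univ.filter fun w : Fin 3 → ZMod 3 => w ≠ 0 : Finset (Fin 3 → ZMod 3)) :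
          Set (Fin 3 → ZMod 3)) := by
        ext w
        rw [Finset.coe_filter]
        refine ⟨fun h => ⟨Finset.mem_univ _, hne0 w h⟩, fun ⟨_, h⟩ => ?_⟩
        by_cases h2 : w 2 = 0
        · exact hBall v hv hv2 w h2 h
        · by_cases h3 : inC w = true
          · exact hCall v' hv' hv'C w h3
          · simp only [inC, ne_eq, Bool.and_eq_true, decide_eq_true_eq, Bool.or_eq_true, not_and, not_or, not_not] at h3
            exact hA w (h3 h2).1 (h3 h2).2 h
      rw [h1, Set.ncard_coe_finset, show (Finset.univ.filter fun w : Fin 3 → ZMod 3 => w ≠ 0).card = 26 by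
        decide +kernel] at hdvd
      exact h13 ((by norm_num : 13 ∣ 26).trans hdvd)
    · push Not at hc
      have h1 : O = ((Finset.univ.filter fun w : Fin 3 → ZMod 3 => w ≠ 0 ∧ (w 2 = 0 ∨ (w 0 = 0 ∧ w 1 = 0)) :
          Finset (Fin 3 → ZMod 3)) : Set (Fin 3 → ZMod 3)) := by
        ext w
        rw [Finset.coe_filter]
        refine ⟨fun h => ⟨Finset.mem_univ _, hne0 w h, ?_⟩, fun ⟨_, h, h2⟩ => ?_⟩
        · by_contra hcon
          apply hc w h
          simp only [inC, ne_eq, Bool.and_eq_true, decide_eq_true_eq, Bool.or_eq_true]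
          (clear * - hcon; tauto)
        · rcases h2 with h2 | ⟨h2, h3⟩
          · exact hBall v hv hv2 w h2 h
          · exact hA w h2 h3 h
      rw [h1, Set.ncard_coe_finset, show (Finset.univ.filter fun w : Fin 3 → ZMod 3 =>
        w ≠ 0 ∧ (w 2 = 0 ∨ (w 0 = 0 ∧ w 1 = 0))).card = 10 by decide +kernel] at hdvd
      have h2 := hdvd.trans hRS
      norm_num at h2
  · push Not at hb
    by_cases hc : ∃ v ∈ O, inC v = true
    · right
      obtain ⟨v', hv', hv'C⟩ := hc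
      have key : ∀ r ∈ R, ∀ w : Fin 3 → ZMod 3, w 2 = 0 → w ≠ 0 → (r.1 *ᵥ w) 2 = 0 := by
        intro r hr w hw2 hw0
        by_contra hcon
        have h1 : w ∉ O := fun h => hb w h hw2
        apply h1
        have h2 : r.1 *ᵥ w ∈ O := by
          by_cases h3 : inC (r.1 *ᵥ w) = true
          · exact hCall v' hv' hv'C _ h3
          · simp only [inC, ne_eq, Bool.and_eq_true, decide_eq_true_eq, Bool.or_eq_true, not_and, not_or, not_not] at h3
            exact hA _ (h3 hcon).1 (h3 hcon).2 (fun h4 => hcon (by rw [h4]; rfl))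
        have h3 := hmul r⁻¹ (R.inv_mem hr) _ h2
        have h4 : (r⁻¹ : S3).1 *ᵥ (r.1 *ᵥ w) = w := by
          rw [Matrix.mulVec_mulVec]
          change (r⁻¹ * r : S3).1 *ᵥ w = w
          rw [inv_mul_cancel]
          exact Matrix.one_mulVec _
        rwa [h4] at h3
      intro r hr
      have h1 := key r hr ![1, 0, 0] (by decide) (by decide)
      have h2 := key r hr ![0, 1, 0] (by decide) (by decide)
      simp only [Matrix.mulVec, dotProduct, Fin.sum_univ_three, _root_.Matrix.mulVec, _root_.dotProduct, _root_.Fin.isValue, _root_.Fin.sum_univ_three, _root_.Matrix.cons_val_zero, _root_.mul_one, _root_.Matrix.cons_val_one, _root_.MulZeroClass.mul_zero, _root_.add_zero, _root_.Matrix.cons_val, _root_.zero_add] at h1 h2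
      exact ⟨h1, h2⟩
    · left
      push Not at hc
      intro r hr
      have h1 : r.1 *ᵥ e3 ∈ O := hmul r hr e3 he3O
      have h2 := hb _ h1
      have h3 := hc _ h1
      rw [hcol r hr] at h2 h3
      simp only [inC, ne_eq, Bool.and_eq_true, decide_eq_true_eq, Bool.or_eq_true, not_and, not_or, not_not] at h3
      exact h3 h2

abbrev M2 := Matrix (Fin 2) (Fin 2) (ZMod 3)

/-- the element of order eight of `GL₂(3)` -/
def bz : M2 := !![0, 1; 1, 1]

theorem dec_words : ∀ Y : M2, Y ^ 3 = 1 → Y ≠ 1 →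
    25 ≤ (((Finset.range 8) ×ˢ (Finset.range 4)).image fun a : ℕ × ℕ => bz ^ a.1 * Y * bz ^ a.2).card := by
  decide +kernel

theorem dec_conj : ∀ X : M2, X ^ 3 = 1 → X ≠ 1 → ∃ C : M2, C.det ≠ 0 ∧ C * X = !![1, 1; 0, 1] * C := by
  (set_option synthInstance.maxSize 100000 in exact Cfsg.Agent.Lib.Refl.of (by decide +kernel))

/-- the upper left block of the matrices with third column `(0, 0, *)` -/
def blkHom (R : Subgroup S3) (hR : ∀ r ∈ R, r.1 0 2 = 0 ∧ r.1 1 2 = 0) : R →* M2 where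
  toFun r := !![(r : S3).1 0 0, (r : S3).1 0 1; (r : S3).1 1 0, (r : S3).1 1 1]
  map_one' := by
    ext i j
    fin_cases i <;> fin_cases j <;> rfl
  map_mul' r s := by
    have h := hR r r.2
    ext i j
    (revert i j; simp only [Matrix.mul_apply, Fin.sum_univ_three, Fin.sum_univ_two, h.1, h.2, _root_.Fin.forall_fin_succ, _root_.Subgroup.coe_mul, Fin.isValue, _root_.Matrix.SpecialLinearGroup.coe_mul, _root_.MulZeroClass.zero_mul, _root_.add_zero, _root_.Matrix.of_apply, _root_.Matrix.cons_val', _root_.Matrix.cons_val_fin_one, _root_.Matrix.cons_val_zero, _root_.Matrix.cons_val_one, _root_.Matrix.cons_val_succ, _root_.forall_const, _root_.and_self, _root_.implies_true])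

/-- the kernel of the block map -/
theorem blk_ker {R : Subgroup S3} {hR : ∀ r ∈ R, r.1 0 2 = 0 ∧ r.1 1 2 = 0} {r : R} (h : blkHom R hR r = 1) :
    (r : S3).1 = !![1, 0, 0; 0, 1, 0; (r : S3).1 2 0, (r : S3).1 2 1, 1] := by
  have h1 := congrFun (congrFun h 0) 0
  have h2 := congrFun (congrFun h 0) 1
  have h3 := congrFun (congrFun h 1) 0
  have h4 := congrFun (congrFun h 1) 1
  simp only [blkHom, _root_.Cfsg.Agent.H205.DerPsl.blkHom, _root_.Fin.isValue, _root_.MonoidHom.coe_mk, _root_.OneHom.coe_mk, _root_.Matrix.of_apply, _root_.Matrix.cons_val', _root_.Matrix.cons_val_zero, _root_.Matrix.cons_val_fin_one, _root_.Matrix.one_apply_eq, _root_.Matrix.cons_val_one, _root_.ne_eq, _root_.zero_ne_one, _root_.not_false_eq_true, _root_.Matrix.one_apply_ne, _root_.one_ne_zero] at h1 h2 h3 h4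
  obtain ⟨h5, h6⟩ := hR r r.2
  have h7 : (r : S3).1 2 2 = 1 := by
    have h8 := (r : S3).2
    rw [Matrix.det_fin_three] at h8
    rw [h1, h2, h3, h4, h5, h6] at h8
    simpa only [_root_.Fin.isValue, _root_.mul_one, _root_.one_mul, _root_.MulZeroClass.mul_zero, _root_.MulZeroClass.zero_mul, _root_.sub_zero, _root_.add_zero] using h8
  ext i j
  (revert i j; simp only [h1, h2, h3, h4, h5, h6, h7, _root_.Fin.forall_fin_succ, Fin.isValue, _root_.Matrix.of_apply, _root_.Matrix.cons_val', _root_.Matrix.cons_val_fin_one, _root_.Matrix.cons_val_zero, _root_.Matrix.cons_val_succ, _root_.Fin.succ_zero_eq_one, _root_.Fin.succ_one_eq_two, _root_.IsEmpty.forall_iff, _root_.and_true, _root_.and_self])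

theorem dec_g : ∀ u v : ZMod 3,
    ((gz.1 * !![1, 0, 0; 0, 1, 0; u, v, 1] * !![2, 1, 0; 1, 0, 0; 0, 0, 2] : Matrix (Fin 3) (Fin 3) (ZMod 3)) 2 0,
      (gz.1 * !![1, 0, 0; 0, 1, 0; u, v, 1] * !![2, 1, 0; 1, 0, 0; 0, 0, 2] : Matrix (Fin 3) (Fin 3) (ZMod 3)) 2 1) =
      (u + 2 * v, 2 * u) := by
  decide +kernel

theorem dec_id : (!![1, 0, 0; 0, 1, 0; 0, 0, 1] : Matrix (Fin 3) (Fin 3) (ZMod 3)) = (1 : S3).1 := by
  decide

theorem mk_pow_one {G : Type*} [Group G] {R : Subgroup G} {y : G} (hy : y ∈ R) {k : ℕ} (h : y ^ k = 1) :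
    (⟨y, hy⟩ : R) ^ k = 1 :=
  Subtype.ext (by rw [SubmonoidClass.coe_pow]; exact h)

theorem card_of_point (R : Subgroup S3) (hR : ∀ r ∈ R, r.1 0 2 = 0 ∧ r.1 1 2 = 0) (hg : gz ∈ R)
    {y : S3} (hy : y ∈ R) (hy3 : y ^ 3 = 1) (hy2 : (y.1 - 1) ^ 2 ≠ 0)
    {t : S3} (ht : t ∈ R) (ht3 : t ^ 3 = 1) (ht1 : t ≠ 1) (ht2 : (t.1 - 1) ^ 2 = 0) : 432 ∣ Nat.card R := by
  classical
  set θ := blkHom R hR with hθ
  set f : R →* (M2)ˣ := θ.toHomUnits with hf
  have hfθ : ∀ r : R, ((f r : (M2)ˣ) : M2) = θ r := fun r => rfl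
  have hcardGL : Nat.card (M2)ˣ = 48 := by
    have h := Matrix.card_GL_field (𝔽 := ZMod 3) 2
    rw [ZMod.card 3] at h
    have e1 : ∏ i : Fin 2, (3 ^ 2 - 3 ^ (i : ℕ)) = 48 := by rfl
    rw [e1] at h
    exact h
  -- elements of the kernel
  have hker1 : ∀ r : R, f r = 1 ↔ θ r = 1 := by
    intro r
    rw [← hfθ]
    exact ⟨fun h => by rw [h]; rfl, fun h => Units.ext h⟩
  have hsq : ∀ r : R, θ r = 1 → ((r : S3).1 - 1) ^ 2 = 0 := by
    intro r h
    rw [blk_ker h]
    ext i j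
    fin_cases i <;> fin_cases j <;> simp [pow_two, Matrix.mul_apply, Fin.sum_univ_three]
  have hY1 : θ ⟨y, hy⟩ ≠ 1 := fun h => hy2 (hsq ⟨y, hy⟩ h)
  have hY3 : θ ⟨y, hy⟩ ^ 3 = 1 := by
    rw [← map_pow, mk_pow_one hy hy3, map_one]
  have hB : θ ⟨gz, hg⟩ = bz := by
    change (!![gz.1 0 0, gz.1 0 1; gz.1 1 0, gz.1 1 1] : M2) = bz
    decide
  -- the range
  have hrange : f.range = ⊤ := by
    have h1 := dec_words _ hY3 hY1
    set W := (((Finset.range 8) ×ˢ (Finset.range 4)).image fun a : ℕ × ℕ => bz ^ a.1 * θ ⟨y, hy⟩ * bz ^ a.2) with hW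
    have h2 : (W : Set M2) ⊆ (fun u : (M2)ˣ => (u : M2)) '' (f.range : Set (M2)ˣ) := by
      intro w hw
      rw [hW, Finset.coe_image] at hw
      obtain ⟨a, -, rfl⟩ := hw
      refine ⟨f (⟨gz, hg⟩ ^ a.1 * ⟨y, hy⟩ * ⟨gz, hg⟩ ^ a.2), ⟨_, rfl⟩, ?_⟩
      change θ (⟨gz, hg⟩ ^ a.1 * ⟨y, hy⟩ * ⟨gz, hg⟩ ^ a.2) = _
      rw [map_mul, map_mul, map_pow, map_pow, hB]
    have h3 := Set.ncard_le_ncard h2 (Set.toFinite _)
    rw [Set.ncard_coe_finset, Set.ncard_image_of_injective _ Units.val_injective] at h3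
    have h4 : (f.range : Set (M2)ˣ).ncard = Nat.card f.range := rfl
    rw [h4] at h3
    have h5 : Nat.card f.range ∣ 48 := by rw [← hcardGL]; exact Subgroup.card_subgroup_dvd_card _
    apply Subgroup.eq_top_of_card_eq
    rw [hcardGL]
    obtain ⟨k, hk⟩ := h5
    have h6 : k < 2 := by
      by_contra hcon
      push Not at hcon
      have := Nat.mul_le_mul (h1.trans h3) hcon
      omega
    have h7 : k ≠ 0 := by
      rintro rfl
      omega
    have h8 : k = 1 := by omega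
    rw [h8, mul_one] at hk
    exact hk.symm
  have hsurj : ∀ C : M2, C.det ≠ 0 → ∃ r : R, θ r = C := by
    intro C hC
    have hu : IsUnit C := (Matrix.isUnit_iff_isUnit_det C).2 (isUnit_iff_ne_zero.2 hC)
    obtain ⟨u, rfl⟩ := hu
    have h1 : u ∈ f.range := by rw [hrange]; trivial
    obtain ⟨r, rfl⟩ := h1
    exact ⟨r, rfl⟩
  -- a nontrivial element of the kernel
  obtain ⟨k, hk1, hkθ⟩ : ∃ k : R, k ≠ 1 ∧ θ k = 1 := by
    by_cases hT : θ ⟨t, ht⟩ = 1
    · exact ⟨⟨t, ht⟩, fun h => ht1 (congrArg Subtype.val h), hT⟩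
    · have hT3 : θ ⟨t, ht⟩ ^ 3 = 1 := by
        rw [← map_pow, mk_pow_one ht ht3, map_one]
      obtain ⟨C₁, hC₁, h1⟩ := dec_conj _ hT3 hT
      obtain ⟨C₂, hC₂, h2⟩ := dec_conj _ hY3 hY1
      obtain ⟨r₁, rfl⟩ := hsurj C₁ hC₁
      obtain ⟨r₂, rfl⟩ := hsurj C₂ hC₂
      have h3 : θ (r₁ * ⟨t, ht⟩ * r₁⁻¹) = θ (r₂ * ⟨y, hy⟩ * r₂⁻¹) := by
        rw [map_mul, map_mul θ r₁, h1, map_mul θ (r₂ * _), map_mul θ r₂, h2, mul_assoc, mul_assoc, ← map_mul, ← map_mul,
          mul_inv_cancel, mul_inv_cancel]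
      refine ⟨(r₂ * ⟨y, hy⟩ * r₂⁻¹)⁻¹ * (r₁ * ⟨t, ht⟩ * r₁⁻¹), ?_, ?_⟩
      · intro h
        rw [inv_mul_eq_one] at h
        apply hy2
        have h4 : (⟨y, hy⟩ : R) = (r₂⁻¹ * r₁) * ⟨t, ht⟩ * (r₂⁻¹ * r₁)⁻¹ := by
          calc (⟨y, hy⟩ : R) = r₂⁻¹ * (r₂ * ⟨y, hy⟩ * r₂⁻¹) * r₂ := by group
            _ = _ := by rw [h]; group
        have h5 : y = ((r₂⁻¹ * r₁ : R) : S3) * t * ((r₂⁻¹ * r₁ : R) : S3)⁻¹ := congrArg Subtype.val h4
        set w : S3 := ((r₂⁻¹ * r₁ : R) : S3) with hw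
        have h6 : w.1 * (w⁻¹ : S3).1 = 1 := by
          change (w * w⁻¹ : S3).1 = 1
          rw [mul_inv_cancel]
          rfl
        have h7 : (w⁻¹ : S3).1 * w.1 = 1 := by
          change (w⁻¹ * w : S3).1 = 1
          rw [inv_mul_cancel]
          rfl
        have h8 : y.1 - 1 = w.1 * (t.1 - 1) * (w⁻¹ : S3).1 := by
          rw [h5]
          change w.1 * t.1 * (w⁻¹ : S3).1 - 1 = _
          rw [mul_sub, sub_mul, mul_one, h6]
        rw [h8, pow_two]
        calc w.1 * (t.1 - 1) * (w⁻¹ : S3).1 * (w.1 * (t.1 - 1) * (w⁻¹ : S3).1) =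
            w.1 * ((t.1 - 1) * ((w⁻¹ : S3).1 * w.1) * (t.1 - 1)) * (w⁻¹ : S3).1 := by simp only [mul_assoc]
          _ = 0 := by rw [h7, mul_one, ← pow_two, ht2, mul_zero, zero_mul]
      · have h4 : θ ((r₂ * ⟨y, hy⟩ * r₂⁻¹)⁻¹ * (r₂ * ⟨y, hy⟩ * r₂⁻¹)) = 1 := by rw [inv_mul_cancel, map_one]
        rw [map_mul] at h4 ⊢
        rw [h3]
        exact h4
  -- the order of the kernel
  let ψ : f.ker →* Multiplicative (ZMod 3 × ZMod 3) :=
    { toFun := fun r => Multiplicative.ofAdd (((r : R) : S3).1 2 0, ((r : R) : S3).1 2 1)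
      map_one' := rfl
      map_mul' := by
        intro a b
        have ha := blk_ker ((hker1 _).1 (MonoidHom.mem_ker.1 a.2))
        have hb := blk_ker ((hker1 _).1 (MonoidHom.mem_ker.1 b.2))
        have hm : (((a * b : f.ker) : R) : S3).1 = ((a : R) : S3).1 * ((b : R) : S3).1 := rfl
        rw [← ofAdd_add]
        congr 1
        rw [hm, ha, hb]
        simp only [Matrix.mul_apply, Fin.sum_univ_three, _root_.Fin.isValue, _root_.Matrix.mul_apply, _root_.Matrix.of_apply, _root_.Matrix.cons_val', _root_.Matrix.cons_val_fin_one, _root_.Matrix.cons_val, _root_.Matrix.cons_val_one, _root_.Matrix.cons_val_zero, _root_.Fin.sum_univ_three, _root_.mul_one, _root_.MulZeroClass.mul_zero, _root_.add_zero, _root_.one_mul, _root_.zero_add, _root_.Prod.mk_add_mk] }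
  have hψ : Function.Injective ψ := by
    intro a b h
    have ha := blk_ker ((hker1 _).1 (MonoidHom.mem_ker.1 a.2))
    have hb := blk_ker ((hker1 _).1 (MonoidHom.mem_ker.1 b.2))
    have h1 : (((a : R) : S3).1 2 0, ((a : R) : S3).1 2 1) = (((b : R) : S3).1 2 0, ((b : R) : S3).1 2 1) := h
    rw [Prod.mk.injEq] at h1
    apply Subtype.ext
    apply Subtype.ext
    apply Subtype.ext
    rw [ha, hb, h1.1, h1.2]
  have h9 : Nat.card f.ker ∣ 9 := by
    have h1 := Subgroup.card_dvd_of_injective ψ hψ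
    have h2 : Nat.card (Multiplicative (ZMod 3 × ZMod 3)) = 9 := by
      rw [Nat.card_eq_fintype_card]
      rfl
    rwa [h2] at h1
  have h4 : 4 ≤ Nat.card f.ker := by
    have hkk : k ∈ f.ker := MonoidHom.mem_ker.2 ((hker1 k).2 hkθ)
    have hgk : (⟨gz, hg⟩ : R) * k * (⟨gz, hg⟩ : R)⁻¹ ∈ f.ker := f.normal_ker.conj_mem k hkk _
    have hkm := blk_ker hkθ
    obtain ⟨u, hu⟩ : ∃ u, u = (k : S3).1 2 0 := ⟨_, rfl⟩
    obtain ⟨v, hv⟩ : ∃ v, v = (k : S3).1 2 1 := ⟨_, rfl⟩
    rw [← hu, ← hv] at hkm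
    have huv : ¬ (u = 0 ∧ v = 0) := by
      rintro ⟨rfl, rfl⟩
      apply hk1
      apply Subtype.ext
      apply Subtype.ext
      rw [hkm]
      exact dec_id
    have hginv : (gz⁻¹ : S3).1 = !![2, 1, 0; 1, 0, 0; 0, 0, 2] := by decide +kernel
    have e1 : ψ ⟨k, hkk⟩ = Multiplicative.ofAdd (u, v) := by
      change Multiplicative.ofAdd ((k : S3).1 2 0, (k : S3).1 2 1) = _
      rw [← hu, ← hv]
    have e2 : ψ ⟨_, hgk⟩ = Multiplicative.ofAdd (u + 2 * v, 2 * u) := by
      change Multiplicative.ofAdd ((gz.1 * (k : S3).1 * (gz⁻¹ : S3).1) 2 0, (gz.1 * (k : S3).1 * (gz⁻¹ : S3).1) 2 1) = _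
      rw [hkm, hginv]
      exact congrArg Multiplicative.ofAdd (dec_g u v)
    have h5 : ({Multiplicative.ofAdd (0, 0), Multiplicative.ofAdd (u, v), Multiplicative.ofAdd (2 * u, 2 * v),
        Multiplicative.ofAdd (u + 2 * v, 2 * u)} : Finset (Multiplicative (ZMod 3 × ZMod 3))).card = 4 := by
      clear e1 e2 hkm hu hv
      revert u v
      decide
    have h6 : (({Multiplicative.ofAdd (0, 0), Multiplicative.ofAdd (u, v), Multiplicative.ofAdd (2 * u, 2 * v),
        Multiplicative.ofAdd (u + 2 * v, 2 * u)} : Finset (Multiplicative (ZMod 3 × ZMod 3))) :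
        Set (Multiplicative (ZMod 3 × ZMod 3))) ⊆ (ψ.range : Set (Multiplicative (ZMod 3 × ZMod 3))) := by
      intro w hw
      rw [Finset.mem_coe, Finset.mem_insert, Finset.mem_insert, Finset.mem_insert, Finset.mem_singleton] at hw
      rcases hw with rfl | rfl | rfl | rfl
      · exact ⟨1, map_one ψ⟩
      · exact ⟨⟨k, hkk⟩, e1⟩
      · refine ⟨⟨k, hkk⟩ ^ 2, ?_⟩
        rw [map_pow, e1, pow_two, ← ofAdd_add]
        congr 1
        rw [Prod.mk_add_mk, two_mul, two_mul]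
      · exact ⟨⟨_, hgk⟩, e2⟩
    have h7 := Set.ncard_le_ncard h6 (Set.toFinite _)
    rw [Set.ncard_coe_finset, h5] at h7
    have h8 : Nat.card f.ker = Nat.card ψ.range := Nat.card_congr (MonoidHom.ofInjective hψ).toEquiv
    rw [h8]
    exact h7
  have h9' : Nat.card f.ker = 9 := by
    have h1 : Nat.card f.ker ∈ Nat.divisors 9 := Nat.mem_divisors.2 ⟨h9, by norm_num⟩
    rw [show Nat.divisors 9 = {1, 3, 9} by decide] at h1
    simp only [Finset.mem_insert, Finset.mem_singleton] at h1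
    omega
  have hfinal := Subgroup.card_mul_index f.ker
  rw [Subgroup.index_ker, hrange, Subgroup.card_top, hcardGL, h9'] at hfinal
  rw [← hfinal]

end Cfsg.Agent.H205.DerPsl

private theorem dce_501789913f37 : _root_.True := by
  try have : _root_.True := by simp only [_root_.Cfsg.Agent.H205.DerPsl.blkHom.eq_1]
  try have : _root_.True := by simp only [_root_.Cfsg.Agent.H205.DerPsl.inC.eq_1]
  exact _root_.True.intro
end

-- part: H205/Der/L33b
section
prune_inst 0xc00002003c000000000000001000000420000102006008009000090200071342000401004ab03c10008c26004800004000000000020000000a008800000000000408500202000104000000c00080000000000000000000000000000000041004000000000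
set_option linter.all false
open scoped Cfsg.Agent.FastGrp

/-!
# `L3(3)`, continued (helper205, S3502)
-/

set_option autoImplicit false

namespace Cfsg.Agent.H205.DerPsl

open Subgroup Matrix Cfsg Cfsg.Agent.H39.DerPsl Cfsg.Agent.H439.Der Cfsg.Agent.OrdDiv Cfsg.Agent.H938.Sax
  Cfsg.Agent.ClassicalGeometry.AutPSL.Root Cfsg.Agent.ClassicalGeometry.AutPSL.Auto Cfsg.Agent.H199.PslAut

theorem itr_gz : (itr gz : S3) = gz⁻¹ := by
  apply Subtype.ext
  change ((gz⁻¹ : S3).1)ᵀ = (gz⁻¹ : S3).1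
  decide +kernel

theorem sq_itr {n : ℕ} {F : Type*} [Field F] {x : Matrix.SpecialLinearGroup (Fin n) F}
    (hsq : ((x : Matrix (Fin n) (Fin n) F) - 1) ^ 2 = 0) :
    (((itr x : Matrix.SpecialLinearGroup (Fin n) F) : Matrix (Fin n) (Fin n) F) - 1) ^ 2 = 0 := by
  have h1 : ((itr x : Matrix.SpecialLinearGroup (Fin n) F) : Matrix (Fin n) (Fin n) F) =
      ((x⁻¹ : Matrix.SpecialLinearGroup (Fin n) F) : Matrix (Fin n) (Fin n) F)ᵀ := rfl
  have h3 : ((x⁻¹ : Matrix.SpecialLinearGroup (Fin n) F) : Matrix (Fin n) (Fin n) F) *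
      (x : Matrix (Fin n) (Fin n) F) = 1 := by
    rw [← Matrix.SpecialLinearGroup.coe_mul, inv_mul_cancel, Matrix.SpecialLinearGroup.coe_one]
  set X := (x : Matrix (Fin n) (Fin n) F) with hX
  set Y := ((x⁻¹ : Matrix.SpecialLinearGroup (Fin n) F) : Matrix (Fin n) (Fin n) F) with hY
  rw [h1]
  have h4 : (Yᵀ - 1) ^ 2 = ((Y - 1) ^ 2)ᵀ := by
    rw [Matrix.transpose_pow, Matrix.transpose_sub, Matrix.transpose_one]
  have h5 : (Y - 1) ^ 2 = Y * Y * (X - 1) ^ 2 := by
    have h6 : (X - 1) ^ 2 = X * X - X - X + 1 := by noncomm_ring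
    rw [h6]
    calc (Y - 1) ^ 2 = Y * Y - Y - Y + 1 := by noncomm_ring
      _ = Y * (Y * X) * X - Y * (Y * X) - Y * (Y * X) + Y * Y := by rw [h3, mul_one, h3]; abel
      _ = _ := by noncomm_ring
  rw [h4, h5, hsq, mul_zero, Matrix.transpose_zero]

theorem itr_itr {n : ℕ} {F : Type*} [Field F] (x : Matrix.SpecialLinearGroup (Fin n) F) : itr (itr x) = x := by
  have h := itr_mul_itr (ι := Fin n) (F := F)
  exact DFunLike.congr_fun h x

/-- both alternatives -/
theorem card_of_gz (R : Subgroup S3) (h13 : ¬ 13 ∣ Nat.card R) (hg : gz ∈ R)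
    {y : S3} (hy : y ∈ R) (hy3 : y ^ 3 = 1) (hy2 : (y.1 - 1) ^ 2 ≠ 0)
    {t : S3} (ht : t ∈ R) (ht3 : t ^ 3 = 1) (ht1 : t ≠ 1) (ht2 : (t.1 - 1) ^ 2 = 0) : Nat.card R = 432 := by
  have h432 : 432 ∣ Nat.card R := by
    rcases orbit_alt R h13 hg with hR | hR
    · exact card_of_point R hR hg hy hy3 hy2 ht ht3 ht1 ht2
    · have hcard : Nat.card (R.map (itr : MulAut S3).toMonoidHom) = Nat.card R :=
        (Nat.card_congr (R.equivMapOfInjective _ (by exact (itr : MulAut S3).injective)).toEquiv).symm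
      rw [← hcard]
      refine card_of_point _ ?_ ?_ (y := itr y) ⟨y, hy, rfl⟩ (by rw [← map_pow, hy3, map_one]) ?_ (t := itr t)
        ⟨t, ht, rfl⟩ (by rw [← map_pow, ht3, map_one]) ?_ (sq_itr ht2)
      · rintro _ ⟨r, hr, rfl⟩
        have h1 := hR _ (R.inv_mem hr)
        exact h1
      · exact ⟨gz⁻¹, R.inv_mem hg, by
          change itr gz⁻¹ = gz
          rw [map_inv, itr_gz, inv_inv]⟩
      · intro h
        apply hy2
        have h1 := sq_itr h
        rwa [itr_itr] at h1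
      · intro h
        apply ht1
        rw [← itr_itr t, h, map_one]
  have h2 : Nat.card R ∣ 432 := by
    have h3 : Nat.card R ∣ 13 * 432 := by
      have := Subgroup.card_subgroup_dvd_card R
      rwa [card_S3] at this
    exact (Nat.Coprime.symm ((Nat.Prime.coprime_iff_not_dvd (by norm_num)).2 h13)).dvd_of_dvd_mul_left h3
  exact Nat.dvd_antisymm h2 h432

abbrev P3 := Matrix.ProjectiveSpecialLinearGroup (Fin 3) (ZMod 3)

theorem pr_inj : Function.Injective (pr : S3 → P3) := by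
  intro x y h
  have hz : x⁻¹ * y ∈ Subgroup.center S3 := by
    rw [← pr_eq_one_iff, map_mul, map_inv, h, inv_mul_cancel]
  have h1 := smul_pow_gcd (by norm_num) hz
  rw [ZMod.card, show Nat.gcd 3 (3 - 1) = 1 from rfl, pow_one] at h1
  exact inv_mul_eq_one.1 (by exact h1)

theorem card_P3 : Nat.card P3 = 5616 := by
  rw [← card_S3]
  exact (Nat.card_congr (Equiv.ofBijective _ ⟨pr_inj, pr_surjective⟩)).symm

theorem l33_hex : (3, Fintype.card (ZMod 3)) ∉ ({(3, 2), (3, 4), (4, 2)} : Finset (ℕ × ℕ)) := by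
  rw [ZMod.card]
  decide

/-- **Subgroups of `L3(3)` missing `13`.** -/
theorem three_l33 (M : Subgroup P3) (h13 : ¬ 13 ∣ Nat.card M) (h432 : Nat.card M ≠ 432) : Three P3 M := by
  have hfin : Finite P3 := Nat.finite_of_card_ne_zero (by rw [card_P3]; norm_num)
  by_contra hcon
  have hSC : ¬ SC P3 13 := nsc_psl (by norm_num) l33_hex 13 (by norm_num) (by rw [card_P3]; norm_num)
  have key : ∀ z : P3, ¬ 13 ∣ orderOf z → ∃ φ : P3 ≃* P3, φ z ∈ M := by
    intro z hz
    by_contra h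
    push Not at h
    exact hcon (Three.of_not_SC h13 hSC h hz)
  have hco : Nat.Coprime 3 (Nat.gcd 3 (Fintype.card (ZMod 3) - 1)) := by
    rw [ZMod.card]
    decide
  have hreg : (regU (ZMod 3)) ^ 3 = 1 := by decide +kernel
  have htr : (transU (ZMod 3)) ^ 3 = 1 := by decide +kernel
  have hg8 : gz ^ 8 = 1 := by decide +kernel
  have htsq : ((transU (ZMod 3)).1 - 1) ^ 2 = 0 := by decide +kernel
  have hrsq : ((regU (ZMod 3)).1 - 1) ^ 2 ≠ 0 := by decide
  have htne : transU (ZMod 3) ≠ 1 := by decide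
  have h13' : ∀ {z : P3} {k : ℕ}, z ^ k = 1 → ¬ 13 ∣ k → ¬ 13 ∣ orderOf z := by
    intro z k hz hk h
    exact hk (h.trans (orderOf_dvd_of_pow_eq_one hz))
  obtain ⟨φ₁, h1⟩ := key (pr gz) (h13' (k := 8) (by rw [← map_pow, hg8, map_one]) (by norm_num))
  obtain ⟨φ₂, h2⟩ := key (pr (regU (ZMod 3))) (h13' (k := 3) (by rw [← map_pow, hreg, map_one]) (by norm_num))
  obtain ⟨φ₃, h3⟩ := key (pr (transU (ZMod 3))) (h13' (k := 3) (by rw [← map_pow, htr, map_one]) (by norm_num))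
  obtain ⟨y, hy⟩ := pr_surjective (φ₁.symm (φ₂ (pr (regU (ZMod 3)))))
  obtain ⟨t, ht⟩ := pr_surjective (φ₁.symm (φ₃ (pr (transU (ZMod 3)))))
  set R : Subgroup S3 := (M.comap φ₁.toMonoidHom).comap (pr : S3 →* P3) with hR
  have hcard : Nat.card R = Nat.card M := by
    refine Nat.card_congr (Equiv.ofBijective (fun r : R => (⟨φ₁ (pr (r : S3)), r.2⟩ : M)) ⟨?_, ?_⟩)
    · intro a b h
      exact Subtype.ext (pr_inj (φ₁.injective (congrArg Subtype.val h)))
    · rintro ⟨m, hm⟩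
      obtain ⟨x, hx⟩ := pr_surjective (φ₁.symm m)
      have hxm : φ₁ (pr x) = m := by rw [hx]; exact φ₁.apply_symm_apply m
      exact ⟨⟨x, by
        change φ₁ (pr x) ∈ M
        rwa [hxm]⟩, Subtype.ext hxm⟩
  apply h432
  rw [← hcard]
  have hy3 : y ^ 3 = 1 := by
    apply pr_inj
    rw [map_pow, hy, ← map_pow, ← map_pow, ← map_pow, hreg, map_one, map_one, map_one]
  have ht3 : t ^ 3 = 1 := by
    apply pr_inj
    rw [map_pow, ht, ← map_pow, ← map_pow, ← map_pow, htr, map_one, map_one, map_one]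
  refine card_of_gz R (by rwa [hcard]) h1 (y := y) ?_ hy3 ?_ (t := t) ?_ ht3 ?_ ?_
  · change φ₁ (pr y) ∈ M
    rw [hy]
    simpa using h2
  · intro h
    apply hrsq
    refine sq_of_aut (by norm_num) hco hy3 hreg (φ₁.trans φ₂.symm) ?_ h
    rw [hy]
    simp
  · change φ₁ (pr t) ∈ M
    rw [ht]
    simpa using h3
  · rintro rfl
    apply htne
    apply pr_inj
    apply φ₃.injective
    apply φ₁.symm.injective
    rw [← ht, map_one, map_one, map_one]
  · refine sq_of_aut (by norm_num) hco htr ht3 (φ₃.trans φ₁.symm) ?_ htsq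
    rw [ht]
    rfl

theorem P3.row (h : ∀ M : Subgroup P3, IsCoatom M → PGap P3 M) : RowS P3 := by
  have hfin : Finite P3 := Nat.finite_of_card_ne_zero (by rw [card_P3]; norm_num)
  have hnsc : NSC P3 := nsc_psl (by norm_num) l33_hex
  refine RowS.of_coatoms fun M hM => ?_
  obtain ⟨v, hv, hd, hnd⟩ := h M hM
  by_cases hv13 : v = 13
  · subst hv13
    by_cases h432 : Nat.card M = 432
    · refine Or.inr ⟨Two.of_pgap hnsc (h M hM), fun R hR => three_l33 R ?_ ?_⟩
      · exact fun h1 => hnd (h1.trans (Subgroup.card_dvd_of_le hR.le))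
      · intro h1
        have h2 := Subgroup.eq_of_le_of_card_ge hR.le (by rw [h1, h432])
        exact hR.ne h2
    · exact Or.inl (three_l33 M hnd h432)
  · left
    refine three_of_gap (by norm_num) l33_hex hv hd ?_ M hnd
    rw [ZMod.card]
    simp [hv13]

end Cfsg.Agent.H205.DerPsl
end

-- part: H320/Der/Pair_mg
section

end

-- part: H788/Der/TenGeo
section
prune_inst 0xc42042007c2200000000000030002000200000020060080080000900090901030000010002b0221011c0aca0504ac04000000019001000002000820040000000040372c60250ad04100000808800000000000000000000000000000000000000000000000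
set_option linter.all false
open scoped Cfsg.Agent.FastGrp

/-!
# Commuting elements of orders 11, 7, 3 of ten-dimensional orthogonal groups over `F_2` (helper788, S3502)

* `no_77` : no commuting elements of orders 11 and 7
* `no_comm` : an element of order 3 centralized by an element of order 11 is not centralized by an element of order 7
* `exists_rep` : the isometries of `POmega`, trivial centre
-/

set_option autoImplicit false
set_option linter.unusedSectionVars false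

namespace Cfsg.Agent.H788.Der.Ten

open Module QuadraticMap Cfsg Cfsg.Geo Cfsg.Agent.LieClassical.OrthCore Cfsg.Agent.H955 Cfsg.Agent.H954.TSing
  Cfsg.Agent.H884.El Cfsg.Agent.H938.Sax Cfsg.Agent.H320.Der
open Cfsg.Agent.H951 (fx cm)
open scoped MatrixGroups Matrix

universe u v

section geo

variable {F : Type u} [Field F] [Fintype F] {V : Type v} [AddCommGroup V] [Module F V] [FiniteDimensional F V]
  {Q : QuadraticForm F V} {x s c : Module.End F V}

theorem cm_top (hF : Fintype.card F = 2) (hd : finrank F V = 10) (hx : Iso Q x 11) (hx1 : x ≠ 1) :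
    finrank F (cm x) = 2 * 5 ∧ cm x = ⊤ := by
  have h1 := Typ.finrank_cm_eq (b := 5) hx (Typ.pp_ten hF) hx1 (by omega)
  exact ⟨h1, Submodule.eq_top_of_finrank_eq (by omega)⟩

theorem fx_cases (hF : Fintype.card F = 2) (hd : finrank F V = 10) (hx : Iso Q x 11) (hx1 : x ≠ 1)
    {y : Module.End F V} (hxy : x * y = y * x) : fx y = ⊥ ∨ fx y = ⊤ := by
  obtain ⟨h1, h2⟩ := cm_top hF hd hx hx1
  have h3 := Typ.inf_cm_cases (b := 5) hx (Typ.pp_ten hF) h1 (W := fx y) (Typ.inv_fx_of_comm hxy.symm)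
    (by rw [h2]; exact le_top)
  rwa [h2] at h3

theorem eq_one_of_fx {y : Module.End F V} (h : fx y = ⊤) : y = 1 := by
  refine LinearMap.ext fun v => ?_
  have h1 : v ∈ fx y := by rw [h]; exact Submodule.mem_top
  exact H951.mem_fx.1 h1

/-- no commuting elements of orders 11 and 7 -/
theorem no_77 (hF : Fintype.card F = 2) (hQ : Nondeg Q) (hd : finrank F V = 10) (hx : Iso Q x 11) (hx1 : x ≠ 1)
    (hs : Iso Q s 7) (hs1 : s ≠ 1) (hxs : x * s = s * x) : False := by
  have h1 := (hs.odd_case hQ hs1 (pp7 hF) (by decide) (by omega)).1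
  have h2 := hs.finrank_add
  rcases fx_cases hF hd hx hx1 hxs with h | h
  · rw [h, finrank_bot] at h2
    omega
  · exact hs1 (eq_one_of_fx h)

/-- an element of order 3 centralized by an element of order 11 is not centralized by an element of order 7 -/
theorem no_comm (hF : Fintype.card F = 2) (hQ : Nondeg Q) (hd : finrank F V = 10) (hx : Iso Q x 11) (hx1 : x ≠ 1)
    (hc : Iso Q c 3) (hc1 : c ≠ 1) (hxc : x * c = c * x) (hs : Iso Q s 7) (hs1 : s ≠ 1) (hsc : s * c = c * s) :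
    False := by
  rcases fx_cases hF hd hx hx1 hxc with h | h
  · obtain ⟨h1, h2, -⟩ := hs.odd_case hQ hs1 (pp7 hF) (by decide) (by omega)
    have h3 := (Typ.isPlus_res_iff hc (pp3 hF) (by decide) (W := cm s) (Typ.inv_cm_of_comm hsc)
      (nondeg_cm hQ hs.iso hs.ne0 hs.pow) (by rw [h]; exact inf_bot_eq _) (A := 3) (by rw [h1])).1 h2
    exact absurd h3 (by decide)
  · exact hc1 (eq_one_of_fx h)

end geo

section rep

variable {ι : Type} [Fintype ι] [DecidableEq ι] {F : Type u} [Field F] [Fintype F] {Q : QuadraticForm F (ι → F)}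

omit [Fintype F] in
/-- `POmega` as a group of isometries -/
theorem exists_rep (hb : Subgroup.center (Cfsg.Omega F (⇑Q)) = ⊥) :
    ∃ ρ : Cfsg.POmega F (⇑Q) →* Module.End F (ι → F), Function.Injective ρ ∧ ∀ g v, Q (ρ g v) = Q v := by
  have hinj : Function.Injective (QuotientGroup.mk' (Subgroup.center (Cfsg.Omega F (⇑Q)))) := by
    rw [← MonoidHom.ker_eq_bot_iff, QuotientGroup.ker_mk', hb]
  let e : Cfsg.Omega F (⇑Q) ≃* Cfsg.POmega F (⇑Q) := MulEquiv.ofBijective
    (QuotientGroup.mk' (Subgroup.center (Cfsg.Omega F (⇑Q)))) ⟨hinj, QuotientGroup.mk'_surjective _⟩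
  let f : GL ι F →* Module.End F (ι → F) :=
    { toFun := fun g => H884.El.lin g
      map_one' := lin_one
      map_mul' := fun g h => by
        show Matrix.toLin' ((g * h : GL ι F) : Matrix ι ι F) = _
        rw [Units.val_mul, Matrix.toLin'_mul]
        rfl }
  have hf : Function.Injective f := fun g h hgh => lin_injective hgh
  refine ⟨((f.comp (isometryGroup F (⇑Q)).subtype).comp (Omega F (⇑Q)).subtype).comp e.symm.toMonoidHom, ?_, ?_⟩
  · exact ((hf.comp (isometryGroup F (⇑Q)).subtype_injective).comp (Omega F (⇑Q)).subtype_injective).comp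
      e.symm.injective
  · intro g v
    exact lin_iso le_rfl ((e.symm g : Omega F (⇑Q)) : isometryGroup F (⇑Q)).2 v

end rep

section grp

open Subgroup

variable {F : Type u} [Field F] [Fintype F] {V : Type v} [AddCommGroup V] [Module F V] [FiniteDimensional F V]
  {Q : QuadraticForm F V} {T : Type*} [Group T]

/-- `T` is a group of isometries of a ten-dimensional nondegenerate space over `F_2` -/
structure Rep (Q : QuadraticForm F V) (T : Type*) [Group T] (ρ : T →* Module.End F V) : Prop where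
  card : Fintype.card F = 2
  nondeg : Nondeg Q
  dim : finrank F V = 10
  inj : Function.Injective ρ
  iso : ∀ g v, Q (ρ g v) = Q v

variable {ρ : T →* Module.End F V}

theorem Rep.mk_iso (h : Rep Q T ρ) {e r : ℕ} (hr : PP (Nat.card F) e r) (he : 2 ≤ e) {g : T} (hg : orderOf g = r) :
    Iso Q (ρ g) r ∧ ρ g ≠ 1 := by
  refine ⟨Iso.mk' hr he (by rw [← map_pow, ← hg, pow_orderOf_eq_one, map_one]) (h.iso g), fun h1 => ?_⟩
  have h2 : g = 1 := h.inj (h1.trans (map_one ρ).symm)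
  rw [h2, orderOf_one] at hg
  exact hr.prime.one_lt.ne hg

theorem Rep.no_77 (h : Rep Q T ρ) (g : T) : orderOf g ≠ 77 := by
  intro hg
  have h1 : orderOf (g ^ 7) = 11 := by rw [orderOf_pow_of_dvd (by norm_num) (by rw [hg]; norm_num), hg]
  have h2 : orderOf (g ^ 11) = 7 := by rw [orderOf_pow_of_dvd (by norm_num) (by rw [hg]; norm_num), hg]
  obtain ⟨h3, h4⟩ := h.mk_iso (Typ.pp_ten h.card) (by norm_num) h1
  obtain ⟨h5, h6⟩ := h.mk_iso (pp7 h.card) (by norm_num) h2
  refine Ten.no_77 h.card h.nondeg h.dim h3 h4 h5 h6 ?_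
  rw [← map_mul, ← map_mul, ← pow_add, ← pow_add]

theorem Rep.no_comm (h : Rep Q T ρ) {x c s : T} (hx : orderOf x = 11) (hc : orderOf c = 3) (hs : orderOf s = 7)
    (hxc : Commute x c) (hsc : Commute s c) : False := by
  obtain ⟨h3, h4⟩ := h.mk_iso (Typ.pp_ten h.card) (by norm_num) hx
  obtain ⟨h5, h6⟩ := h.mk_iso (pp3 h.card) (by norm_num) hc
  obtain ⟨h7, h8⟩ := h.mk_iso (pp7 h.card) (by norm_num) hs
  refine Ten.no_comm h.card h.nondeg h.dim h3 h4 h5 h6 ?_ h7 h8 ?_
  · rw [← map_mul, ← map_mul, hxc.eq]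
  · rw [← map_mul, ← map_mul, hsc.eq]

end grp

end Cfsg.Agent.H788.Der.Ten
end
end

-- part: H788/Der/TenGrp
section
prune_inst 0x400002
set_option linter.all false
open scoped Cfsg.Agent.FastGrp

/-!
# Almost simple groups of order dividing `2^20 3^6 5^2 7 11` without elements of order 33 (helper788, S3502)

* `kill` : `L ⊲ G` simple nonabelian with trivial centralizer, `77 ∣ |L|` : no elements of order 33
-/

set_option autoImplicit false

namespace Cfsg.Agent.H788.Der.Ten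

open Cfsg Subgroup Cfsg.Agent.OrdDiv Cfsg.Agent.CpAut

theorem mem_of_autInner {G : Type*} [Group G] {L : Subgroup G} [L.Normal] (hC : centralizer (L : Set G) = ⊥) {p : ℕ}
    (hp : p.Prime) (hI : AutInner p L) {c : G} (hc : orderOf c = p) : c ∈ L := by
  have hpf : Fact p.Prime := ⟨hp⟩
  have h1 : (MulAut.conjNormal c : MulAut L) ^ p = 1 := by rw [← map_pow, ← hc, pow_orderOf_eq_one, map_one]
  have hα : ∃ g : L, (MulAut.conjNormal c : MulAut L) = MulAut.conj g := by
    by_cases h : (MulAut.conjNormal c : MulAut L) = 1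
    · exact ⟨1, by rw [h, map_one]⟩
    · exact hI _ (orderOf_eq_prime h1 h)
  obtain ⟨g, hg⟩ := hα
  have h2 : (g : G)⁻¹ * c ∈ centralizer (L : Set G) := by
    rw [mem_centralizer_iff]
    intro l hl
    have h3 := congrArg (fun φ : MulAut L => ((φ ⟨l, hl⟩ : L) : G)) hg
    simp only [MulAut.conjNormal_apply, MulAut.conj_apply, Subgroup.coe_mul, Subgroup.coe_inv] at h3
    calc l * ((g : G)⁻¹ * c) = (g : G)⁻¹ * ((g : G) * l * (g : G)⁻¹) * c := by group
      _ = (g : G)⁻¹ * (c * l * c⁻¹) * c := by rw [h3]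
      _ = (g : G)⁻¹ * c * l := by group
  rw [hC, mem_bot] at h2
  rw [← inv_mul_eq_one.1 h2]
  exact g.2

theorem mem_of_index {G : Type*} [Group G] {L : Subgroup G} [L.Normal] {p : ℕ} (hp : p.Prime)
    (hi : ¬ p ∣ L.index) {c : G} (hc : orderOf c = p) : c ∈ L := by
  have h1 : orderOf ((QuotientGroup.mk' L) c) ∣ p := by rw [← hc]; exact orderOf_map_dvd _ _
  have h2 : orderOf ((QuotientGroup.mk' L) c) ∣ L.index := orderOf_dvd_natCard _
  rcases (Nat.dvd_prime hp).1 h1 with h | h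
  · exact (QuotientGroup.eq_one_iff c).1 (orderOf_eq_one_iff.1 h)
  · rw [h] at h2
    exact absurd h2 hi

theorem not_dvd_index {G : Type*} [Group G] [Finite G] {L : Subgroup G} {p a : ℕ} (hL : p ^ a ∣ Nat.card L)
    (hG : ¬ p ^ (a + 1) ∣ Nat.card G) : ¬ p ∣ L.index := by
  intro h
  apply hG
  rw [← L.card_mul_index, pow_succ]
  exact Nat.mul_dvd_mul hL h

/-! ### no elements of order 33 -/

theorem t11 : ∀ x ∈ H380.AltSpec.T 11 11, x.1 ≠ 33 := by decide +kernel
theorem t12 : ∀ x ∈ H380.AltSpec.T 12 12, x.1 ≠ 33 := by decide +kernel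

theorem alt11 (x : alternatingGroup (Fin 11)) : orderOf x ≠ 33 := t11 _ (H380.AltSpec.orderOf_mem_T x)
theorem alt12 (x : alternatingGroup (Fin 12)) : orderOf x ≠ 33 := t12 _ (H380.AltSpec.orderOf_mem_T x)

theorem m22_33 (x : Spor.M22) : orderOf x ≠ 33 := by
  intro h
  have := H921.M22.Facts.odd (g := x) (by rw [h]; norm_num)
  omega

theorem order_eq_of_selfcent {X : Type*} [Group X] [Finite X] {r : ℕ} (hr : r.Prime) (h2 : ¬ r ^ 2 ∣ Nat.card X)
    (hR : ∃ R : Subgroup X, Nat.card R = r ∧ centralizer (R : Set X) = R) {g : X} (hg : r ∣ orderOf g) :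
    orderOf g = r := by
  obtain ⟨R, hR, hC⟩ := hR
  obtain ⟨k, hk⟩ := hg
  have ho := orderOf_pos g
  have hk0 : k ≠ 0 := by
    rintro rfl
    omega
  have h5 : orderOf (g ^ k) = r := by
    rw [orderOf_pow' _ hk0, hk, Nat.gcd_eq_right (Nat.dvd_mul_left _ _), Nat.mul_div_cancel _ (Nat.pos_of_ne_zero hk0)]
  obtain ⟨u, hu⟩ := H843.Syl.exists_conj hr h2 R (zpowers (g ^ k)) hR (by rw [Nat.card_zpowers, h5])
  have h6 : u⁻¹ * g * u ∈ R := by
    rw [← SetLike.mem_coe, ← hC, SetLike.mem_coe, mem_centralizer_iff]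
    intro y hy
    have h7 : u * y * u⁻¹ ∈ zpowers (g ^ k) := by
      rw [← hu]
      exact ⟨y, hy, by simp⟩
    obtain ⟨j, hj⟩ := mem_zpowers_iff.1 h7
    have h8 : g * (u * y * u⁻¹) = (u * y * u⁻¹) * g := by
      rw [← hj]
      exact (((Commute.refl g).pow_right k).zpow_right j).eq
    calc y * (u⁻¹ * g * u) = u⁻¹ * ((u * y * u⁻¹) * g) * u := by group
      _ = u⁻¹ * (g * (u * y * u⁻¹)) * u := by rw [h8]
      _ = u⁻¹ * g * u * y := by group
  have h9 : orderOf (u⁻¹ * g * u) ∣ r := by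
    rw [← hR]
    exact Subgroup.orderOf_dvd_natCard _ h6
  have h10 : orderOf (u⁻¹ * g * u) = orderOf g := by
    have := orderOf_injective (MulAut.conj u⁻¹).toMonoidHom (MulAut.conj u⁻¹).injective g
    rw [← this]
    simp
  rw [h10] at h9
  rcases (Nat.dvd_prime hr).1 h9 with h | h
  · exfalso
    have h1 : r ∣ 1 := by rw [← h, hk]; exact dvd_mul_right _ _
    exact hr.one_lt.ne' (Nat.dvd_one.1 h1)
  · exact h

theorem oddInn_m22 : BpSpor.Inn.OddInn Spor.M22 := by
  refine BpSpor.Inn.of_pow fun φ => ?_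
  obtain ⟨d, hd, hφ⟩ := J4Type.Aut22.exists_conj φ
  have hsq : d * d ∈ Spor.M22 := by
    obtain ⟨hM, h⟩ := (J4Type.Aut22.mem_D22_iff d).1 hd
    refine (SporadicA.MathieuRecog.mem_M22_iff _).2 ⟨M24.mul_mem hM hM, ?_⟩
    rcases h with h | h
    · exact ⟨by rw [Equiv.Perm.mul_apply, h.1, h.1], by rw [Equiv.Perm.mul_apply, h.2, h.2]⟩
    · exact ⟨by rw [Equiv.Perm.mul_apply, h.1, h.2], by rw [Equiv.Perm.mul_apply, h.2, h.1]⟩
  refine ⟨⟨d * d, hsq⟩, ?_⟩
  ext1 x
  apply Subtype.ext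
  show d * d * (x : Equiv.Perm GolayPt) * (d * d)⁻¹ = (((φ ^ 2) x : ↥Spor.M22) : Equiv.Perm GolayPt)
  rw [pow_two, MulAut.mul_apply, hφ, hφ]
  group

/-! ### the main lemma -/

theorem order_equiv {X Y : Type*} [Group X] [Group Y] (e : X ≃* Y) {n : ℕ} (h : ∀ y : Y, orderOf y ≠ n) (x : X) :
    orderOf x ≠ n := by
  rw [← MulEquiv.orderOf_eq e x]
  exact h _

/-- no elements of order 33 -/
theorem kill (OT : OrderTable.{0}) (hS : ∀ (X : Type) [Group X] [Finite X] [IsSimpleGroup X], IsKnownSimple' X)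
    {G : Type} [Group G] [Finite G] (hd : Nat.card G ∣ 1471492915200) {L : Subgroup G} (hLn : L.Normal)
    (hs : IsSimpleGroup L) (hna : ¬ IsMulCommutative L) (hC : centralizer (L : Set G) = ⊥) (h7 : 7 ∣ Nat.card L)
    (h11 : 11 ∣ Nat.card L) (g : G) : orderOf g ≠ 33 := by
  intro hg
  have hdL : Nat.card L ∣ 1471492915200 := (card_subgroup_dvd_card L).trans hd
  have h77 : Nat.card L % 77 = 0 := by
    have h1 : 7 * 11 ∣ Nat.card L := Nat.Coprime.mul_dvd_of_dvd_of_dvd (by norm_num) h7 h11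
    exact Nat.mod_eq_zero_of_dvd h1
  obtain ⟨n, hn, hreal, hcard⟩ := exists_good OT (S := L) (hS L) (fun h => hna ⟨⟨h⟩⟩)
    (l := [(2, 20), (3, 6), (5, 2), (7, 1), (11, 1)]) (N := 1471492915200) (by decide +kernel) hdL
  have hx : g ^ 3 ∈ L := by
    refine mem_of_index (p := 11) (by norm_num) (not_dvd_index (a := 1) (by rwa [pow_one]) fun h => ?_) ?_
    · exact absurd (h.trans hd) (by norm_num)
    · rw [orderOf_pow_of_dvd (by norm_num) (by rw [hg]; norm_num), hg]
  have hc3 : orderOf (g ^ 11) = 3 := by rw [orderOf_pow_of_dvd (by norm_num) (by rw [hg]; norm_num), hg]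
  suffices h : g ^ 11 ∈ L ∧ ∀ y : L, orderOf y ≠ 33 by
    have h1 : g ∈ L := by
      have h2 : g = (g ^ 3) ^ 4 * (g ^ 11) ^ 2 := by
        rw [← pow_mul, ← pow_mul, ← pow_add, show 3 * 4 + 11 * 2 = 33 + 1 by norm_num, pow_succ, ← hg,
          pow_orderOf_eq_one, one_mul]
      rw [h2]
      exact L.mul_mem (L.pow_mem hx _) (L.pow_mem h.1 _)
    exact h.2 ⟨g, h1⟩ (by rw [Subgroup.orderOf_mk, hg])
  have hj : ((cands [(2, 20), (3, 6), (5, 2), (7, 1), (11, 1)] 1471492915200).filter fun g => ordN g % 77 == 0).all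
      (fun g => match g with
        | .alt n => n == 11 || n == 12
        | .psu n q => n == 6 && q == 2 && ordN (.psu 6 2) == 9196830720
        | .m22 => true
        | _ => false) = true := by decide +kernel
  rw [List.all_eq_true] at hj
  have hj' := hj n (List.mem_filter.2 ⟨hn, by rw [← hcard, h77]; rfl⟩)
  cases n with
  | alt n =>
    have hn : n = 11 ∨ n = 12 := by
      have : (n == 11 || n == 12) = true := hj'
      simpa using this
    obtain ⟨e⟩ := hreal
    rcases hn with rfl | rfl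
    · exact ⟨mem_of_autInner hC (by norm_num) ((autInner_alt (by norm_num) (by norm_num) (by norm_num)).congr e.symm)
        hc3, order_equiv e alt11⟩
    · exact ⟨mem_of_autInner hC (by norm_num) ((autInner_alt (by norm_num) (by norm_num) (by norm_num)).congr e.symm)
        hc3, order_equiv e alt12⟩
  | psu n q =>
    have hmq : (n == 6 && q == 2 && ordN (.psu 6 2) == 9196830720) = true := hj'
    rw [Bool.and_eq_true, Bool.and_eq_true, beq_iff_eq, beq_iff_eq] at hmq
    obtain ⟨⟨rfl, rfl⟩, h6⟩ := hmq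
    rw [beq_iff_eq] at h6
    rw [h6] at hcard
    obtain ⟨F, _, _, hF, ⟨e⟩⟩ := hreal
    refine ⟨mem_of_index (p := 3) (by norm_num) (not_dvd_index (a := 6) (by rw [hcard]; norm_num) fun h => ?_) hc3,
      order_equiv e fun y hy => ?_⟩
    · exact absurd (h.trans hd) (by norm_num)
    · have hc' : Nat.card (PSU 6 F 2) = 9196830720 := by rw [← hcard]; exact (Nat.card_congr e.toEquiv).symm
      have : Finite (PSU 6 F 2) := Nat.finite_of_card_ne_zero (by rw [hc']; norm_num)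
      have h1 := order_eq_of_selfcent (X := PSU 6 F 2) (r := 11) (by norm_num) (by rw [hc']; norm_num)
        (H809.SelfCent.psu_selfcent 6 2 11 (by decide) F hF) (g := y) (by rw [hy]; norm_num)
      omega
  | m22 =>
    obtain ⟨e⟩ := hreal
    exact ⟨mem_of_autInner hC (by norm_num) ((oddInn_m22 3 (by norm_num) (by norm_num)).congr e.symm) hc3,
      order_equiv e m22_33⟩
  | _ => exact absurd hj' Bool.false_ne_true

end Cfsg.Agent.H788.Der.Ten
end

section
prune_inst 0xfeebffebfdb9dfffff7e7ff69ccdfdfbbd3fffe6dff9cbffe069ffabff7b98cbcdf38d8beb50fc1eb6e21410e87bc3fbfffeffe26ff87ffffdbff41ffbffcfedf7b50151d48c340fbe0ff703f0778e7f000000000000000000000000000000000200400002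

-- part: H788/Der/TenRow
section
prune_inst 0x114001002022000000000096132020440c00009000230001c960014008006303008227400ab0321491caa2a150014040000001990040000024000400400101208083c202b318ad0416008f808884000000000000000000000000000000000004000000000
set_option linter.all false
open scoped Cfsg.Agent.FastGrp

/-!
# Three classes of derangements for `PΩ⁻_10(2)` (helper788, S3502)

* `no33` : a subgroup of order divisible by 77 and not by 17 has no elements of order 33
* `three_o10m2` : `Three` from `PGap`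
-/

set_option autoImplicit false

namespace Cfsg.Agent.H788.Der.Ten

open Cfsg Subgroup Cfsg.Agent.OrdDiv Cfsg.Agent.H439.Der Cfsg.Agent.H320.Der Cfsg.Agent.H72.AdjOrth
  Cfsg.Agent.LieClassical.OrthCore Cfsg.Agent.LieClassical.OmegaReindex Cfsg.Agent.H884.El Cfsg.Agent.H955
  Cfsg.Agent.H377
open Cfsg.Agent.H188.Der (exists_factor exists_cent not_dvd_core)
open Cfsg.Agent.H938.Sax (PGap)

/-- `3` divides the order of `L` -/
theorem three_dvd (OT : OrderTable.{0}) (hS : ∀ (X : Type) [Group X] [Finite X] [IsSimpleGroup X], IsKnownSimple' X)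
    {L : Type} [Group L] [Finite L] (hs : IsSimpleGroup L) (hna : ¬ IsMulCommutative L)
    (hd : Nat.card L ∣ 1471492915200) (h7 : 7 ∣ Nat.card L) (h11 : 11 ∣ Nat.card L) : 3 ∣ Nat.card L := by
  have h77 : Nat.card L % 77 = 0 := by
    have h1 : 7 * 11 ∣ Nat.card L := Nat.Coprime.mul_dvd_of_dvd_of_dvd (by norm_num) h7 h11
    exact Nat.mod_eq_zero_of_dvd h1
  obtain ⟨n, hn, -, hcard⟩ := exists_good OT (S := L) (hS L) (fun h => hna ⟨⟨h⟩⟩)
    (l := [(2, 20), (3, 6), (5, 2), (7, 1), (11, 1)]) (N := 1471492915200) (by decide +kernel) hd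
  have hj : ((cands [(2, 20), (3, 6), (5, 2), (7, 1), (11, 1)] 1471492915200).filter fun g => ordN g % 77 == 0).all
      (fun g => ordN g % 3 == 0) = true := by decide +kernel
  rw [List.all_eq_true] at hj
  have hj' := hj n (List.mem_filter.2 ⟨hn, by rw [← hcard, h77]; rfl⟩)
  rw [← hcard, beq_iff_eq] at hj'
  exact Nat.dvd_of_mod_eq_zero hj'

theorem hnum3 : ∀ k ≤ 5, ∀ j ≤ k, 3 ^ k ≡ 3 ^ j [MOD 7] → j = k := by
  intro k hk
  interval_cases k <;> intro j hj <;> interval_cases j <;> decide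

section abs

variable {F : Type} [Field F] [Fintype F] {V : Type} [AddCommGroup V] [Module F V] [FiniteDimensional F V]
  {Q : QuadraticForm F V} {T : Type} [Group T] [Finite T] {ρ : T →* Module.End F V}

/-- no elements of order 33 -/
theorem no33 (OT : OrderTable.{0}) (hS : ∀ (X : Type) [Group X] [Finite X] [IsSimpleGroup X], IsKnownSimple' X)
    (hρ : Rep Q T ρ) (hcT : Nat.card T = 25015379558400) {M : Subgroup T} (h7 : 7 ∣ Nat.card M)
    (h11 : 11 ∣ Nat.card M) (h17 : ¬ 17 ∣ Nat.card M) (g : M) : orderOf g ≠ 33 := by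
  intro hg
  have hno : ∀ x : M, orderOf x ≠ 11 * 7 := fun x hx => hρ.no_77 (x : T) (by rw [Subgroup.orderOf_coe, hx])
  have hdM : Nat.card M ∣ 25015379558400 := hcT ▸ card_subgroup_dvd_card M
  have h49 : ¬ 7 ^ 2 ∣ Nat.card M := fun h => absurd (h.trans hdM) (by norm_num)
  have h121 : ¬ 11 ^ 2 ∣ Nat.card M := fun h => absurd (h.trans hdM) (by norm_num)
  obtain ⟨K, hKn, hpK, hrK, L, hLn, hpL, hsL, hnaL, hCL⟩ := exists_factor (R := M) (p := 11) (r := 7) (by norm_num)
    (by norm_num) (by norm_num) h11 h121 h7 h49 (by norm_num) (by norm_num) hno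
  have hcQ := Subgroup.card_eq_card_quotient_mul_card_subgroup K
  have hdQ : Nat.card (M ⧸ K) ∣ Nat.card M := by rw [hcQ]; exact dvd_mul_right _ _
  have h7Q : 7 ∣ Nat.card (M ⧸ K) := by
    rw [hcQ] at h7
    exact ((Nat.Prime.dvd_mul (by norm_num)).1 h7).resolve_right hrK
  have hnoQ : ∀ x : M ⧸ K, orderOf x ≠ 7 * 11 := by
    intro x hx
    obtain ⟨y, rfl⟩ := QuotientGroup.mk'_surjective K x
    have h1 : 7 * 11 ∣ orderOf y := by
      rw [← hx]
      exact orderOf_map_dvd _ y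
    refine hno (y ^ (orderOf y / 77)) ?_
    exact orderOf_pow_orderOf_div (orderOf_pos y).ne' h1
  have h7L : 7 ∣ Nat.card L := by
    by_contra h
    exact not_dvd_core (R := M ⧸ K) (p := 7) (r := 11) (by norm_num) (by norm_num) (by norm_num) h7Q
      (fun h1 => h121 (h1.trans hdQ)) (by norm_num) hnoQ hLn h hpL
  have hdQ17 : Nat.card (M ⧸ K) ∣ 1471492915200 := by
    have h1 : Nat.card (M ⧸ K) ∣ 17 * 1471492915200 := hdQ.trans hdM
    refine Nat.Coprime.dvd_of_dvd_mul_left ?_ h1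
    exact ((Nat.Prime.coprime_iff_not_dvd (by norm_num)).2 fun h => h17 (h.trans hdQ)).symm
  have hdL : Nat.card L ∣ Nat.card (M ⧸ K) := card_subgroup_dvd_card L
  have h3L := three_dvd OT hS (L := L) hsL hnaL (hdL.trans hdQ17) h7L hpL
  have h3K : ¬ 3 ^ (5 + 1) ∣ Nat.card K := by
    intro h
    have h1 : 3 ^ 1 * 3 ^ (5 + 1) ∣ Nat.card M := by
      rw [hcQ]
      exact Nat.mul_dvd_mul (by rw [pow_one]; exact h3L.trans hdL) h
    exact absurd (h1.trans hdM) (by norm_num)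
  have hx : orderOf (g ^ 3) = 11 := by rw [orderOf_pow_of_dvd (by norm_num) (by rw [hg]; norm_num), hg]
  have hc : orderOf (g ^ 11) = 3 := by rw [orderOf_pow_of_dvd (by norm_num) (by rw [hg]; norm_num), hg]
  have hcK : g ^ 11 ∉ K := by
    intro h
    obtain ⟨s, hs, hcom⟩ := exists_cent (R := M) (p := 7) (t := 3) (N := 5) (by norm_num) (by norm_num) h7 hKn hrK h3K
      hnum3 h (n := 1) (by rw [pow_one, ← hc, pow_orderOf_eq_one])
    refine hρ.no_comm (x := ((g ^ 3 : M) : T)) (c := ((g ^ 11 : M) : T)) (s := (s : T)) (by rw [Subgroup.orderOf_coe, hx])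
      (by rw [Subgroup.orderOf_coe, hc]) (by rw [Subgroup.orderOf_coe, hs]) ?_ ?_
    · have h1 : Commute (g ^ 3) (g ^ 11) := (Commute.refl g).pow_pow 3 11
      exact congrArg Subtype.val h1.eq
    · exact congrArg Subtype.val hcom.eq
  have hxK : g ^ 3 ∉ K := by
    intro h
    apply hpK
    rw [← hx]
    exact Subgroup.orderOf_dvd_natCard K h
  refine kill OT hS (G := M ⧸ K) hdQ17 hLn hsL hnaL hCL h7L hpL (QuotientGroup.mk' K g) ?_
  have h1 : orderOf (QuotientGroup.mk' K g) ∣ 33 := by rw [← hg]; exact orderOf_map_dvd _ g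
  have h2 : ¬ orderOf (QuotientGroup.mk' K g) ∣ 3 := by
    intro h
    have h3 := orderOf_dvd_iff_pow_eq_one.1 h
    rw [← map_pow] at h3
    exact hxK ((QuotientGroup.eq_one_iff _).1 h3)
  have h4 : ¬ orderOf (QuotientGroup.mk' K g) ∣ 11 := by
    intro h
    have h3 := orderOf_dvd_iff_pow_eq_one.1 h
    rw [← map_pow] at h3
    exact hcK ((QuotientGroup.eq_one_iff _).1 h3)
  have h5 : orderOf (QuotientGroup.mk' K g) ∈ Nat.divisors 33 := Nat.mem_divisors.2 ⟨h1, by norm_num⟩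
  rw [show Nat.divisors 33 = {1, 3, 11, 33} by decide] at h5
  simp only [Finset.mem_insert, Finset.mem_singleton] at h5
  rcases h5 with h | h | h | h
  · rw [h] at h2
    exact absurd (one_dvd 3) h2
  · rw [h] at h2
    exact absurd dvd_rfl h2
  · rw [h] at h4
    exact absurd dvd_rfl h4
  · exact h

end abs

section row

variable {F : Type} [Field F] [Fintype F] {a b : F}

theorem card_T (hF : Fintype.card F = 2) (hab : ∀ z₁ z₂ : F, z₁ ^ 2 + a * z₁ * z₂ + b * z₂ ^ 2 = 0 → z₁ = 0 ∧ z₂ = 0) :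
    Nat.card (POmega F (quadFormMinus 4 F a b)) = 25015379558400 := by
  have h := S0294.result (F := F) hF 5 (by norm_num) a b hab
  norm_num [Finset.prod_range_succ] at h
  exact h

theorem exists_rep_T (hF : Fintype.card F = 2)
    (hab : ∀ z₁ z₂ : F, z₁ ^ 2 + a * z₁ * z₂ + b * z₂ ^ 2 = 0 → z₁ = 0 ∧ z₂ = 0) :
    ∃ ρ : POmega F (quadFormMinus 4 F a b) →* Module.End F ((Fin 4 ⊕ Fin 4) ⊕ Fin 2 → F),
      Rep (quadMinus 4 F a b) (POmega F (quadFormMinus 4 F a b)) ρ := by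
  rw [← coe_quadMinus]
  have hD := data_minus (F := F) (m := 5) (by norm_num) hab
  have h2 : (2 : F) = 0 := by
    have h1 : ((Fintype.card F : ℕ) : F) = 0 := Nat.cast_card_eq_zero F
    rw [hF] at h1
    exact_mod_cast h1
  obtain ⟨ρ, h3, h4⟩ := exists_rep (Q := quadMinus 4 F a b)
    (Cfsg.Agent.LieClassical.OrthCenter.center_omega_eq_bot_char_two h2 hD.nd hD.dim hD.iso)
  exact ⟨ρ, hF, nondeg_iff.2 (quadMinus_nondegenerate hab), by
    rw [Module.finrank_fintype_fun_eq_card]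
    exact card_minus (m := 5) (by norm_num), h3, h4⟩

/-- **`Three` from `PGap`** -/
theorem three_o10m2 (OT : OrderTable.{0}) (hS : ∀ (X : Type) [Group X] [Finite X] [IsSimpleGroup X], IsKnownSimple' X)
    (hF : Fintype.card F = 2) (hab : ∀ z₁ z₂ : F, z₁ ^ 2 + a * z₁ * z₂ + b * z₂ ^ 2 = 0 → z₁ = 0 ∧ z₂ = 0)
    {M : Subgroup (POmega F (quadFormMinus 4 F a b))} (hM : PGap (POmega F (quadFormMinus 4 F a b)) M) :
    Three (POmega F (quadFormMinus 4 F a b)) M := by
  have hq : Nat.card F = 2 := by rw [Nat.card_eq_fintype_card, hF]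
  have hcT := card_T hF hab
  have hfin : Finite (POmega F (quadFormMinus 4 F a b)) := Nat.finite_of_card_ne_zero (by rw [hcT]; norm_num)
  have G : Gp F 5 (-1) 1 (POmega F (quadFormMinus 4 F a b)) := gp_minus_all (m := 5) (by norm_num) hab
  have hth : ∀ v : ℕ, v.Prime → v ∣ Nat.card (POmega F (quadFormMinus 4 F a b)) → v ≠ 17 →
      Th (POmega F (quadFormMinus 4 F a b)) v := by
    intro v hv hd hv17
    refine th_one G (by omega) hv hd ?_ (by omega)
    rintro ⟨-, hv2, h3, h4⟩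
    have hη : eta (ee (Nat.card F) v) = 4 := by omega
    apply hv17
    rw [hq] at hη
    rcases ee_unique hη (by norm_num) with ⟨-, h⟩ | ⟨ho, h⟩
    · exact odd_prime_17 hv (ee_eq_dvd (by norm_num) h) h
    · rw [h] at ho
      exact absurd ho (by decide)
  have hmiss : ∀ v : ℕ, v.Prime → v ∣ Nat.card (POmega F (quadFormMinus 4 F a b)) → v ≠ 17 → ¬ v ∣ Nat.card M →
      Three (POmega F (quadFormMinus 4 F a b)) M := by
    intro v hv hd hv17 hvM
    have : Fact v.Prime := ⟨hv⟩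
    obtain ⟨x, hx⟩ := exists_prime_orderOf_dvd_card' v hd
    exact Three.of_not_dvd hvM (hth v hv hd hv17).not_SCC ⟨x, by rw [hx]⟩
  obtain ⟨v, hv, hvT, hvM⟩ := hM
  by_cases hv17 : v = 17
  swap
  · exact hmiss v hv hvT hv17 hvM
  subst hv17
  by_cases h7 : 7 ∣ Nat.card M
  swap
  · exact hmiss 7 (by norm_num) (by rw [hcT]; norm_num) (by norm_num) h7
  by_cases h11 : 11 ∣ Nat.card M
  swap
  · exact hmiss 11 (by norm_num) (by rw [hcT]; norm_num) (by norm_num) h11
  have hf : Nat.card (F ≃+* F) = 1 :=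
    Cfsg.Agent.Lib.FieldAutCard.card_ringAut (p := 2) (f := 1) le_rfl (by rw [hF, pow_one])
  have h6 : Tw (POmega F (quadFormMinus 4 F a b)) 17 := G.two (k := 4) (ε := -1) (by norm_num)
    (Or.inl (by norm_num)) (Or.inr rfl) (by decide) (by norm_num)
    (eltS_minus (by norm_num) (by decide) (by rw [hq]; norm_num)) (by
      rw [hf, Nat.totient_prime (by norm_num)]
      norm_num)
  have h33 : ∃ x : POmega F (quadFormMinus 4 F a b), orderOf x = 33 :=
    G.of_odd (by decide) (elt_tor_minus (F := F) (k := 5) (N := 33) (by norm_num) (by rw [hq]; norm_num))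
  refine Tw.three h6 (fun x hx ho => hvM ?_) h33 (fun x hx ho => ?_) (by norm_num)
  · rw [← ho]
    exact Subgroup.orderOf_dvd_natCard M hx
  · obtain ⟨ρ, hρ⟩ := exists_rep_T hF hab
    exact no33 OT hS hρ hcT h7 h11 hvM ⟨x, hx⟩ (by rw [Subgroup.orderOf_mk, ho])

end row

end Cfsg.Agent.H788.Der.Ten
end

-- part: H372/DerU/Psu
section
set_option linter.all false

/-!
# S3502, the row `PSU_n(q)`, `n ≥ 4` (helper372)
-/

set_option autoImplicit false

namespace Cfsg.Agent.H372.DerU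

open Cfsg Cfsg.Agent.OrdDiv
open Cfsg.Agent.H439.Der Cfsg.Agent.LieClassical.HermBasic
open Cfsg.Agent.H948.UBase Cfsg.Agent.H948.UProd Cfsg.Agent.H948.UTorus Cfsg.Agent.H948.UMain

/-- the row `PSU_n(q)`, `n ≥ 4`; `PSU_5(4)` is a hypothesis -/
theorem rowS_psu_of (tab : OrderTable.{0}) (hK : ∀ (X : Type) [Group X] [Finite X] [IsSimpleGroup X],
    Cfsg.IsKnownSimple' X) {F : Type} [Field F] [Fintype F] {n q : ℕ} (hF : Fintype.card F = q ^ 2) (hn : 4 ≤ n)
    (hex : (n, q) ∉ ({(4, 2), (4, 3), (5, 2), (6, 2)} : Finset (ℕ × ℕ)))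
    (h54 : n = 5 → q = 4 → RowS (Cfsg.PSU n F q)) : RowS (Cfsg.PSU n F q) := by
  classical
  by_cases h : n = 5 ∧ q = 4
  · exact h54 h.1 h.2
  have hq : IsPrimePow q := by
    obtain ⟨p, k, hp, -, hk, hk0⟩ := exists_prime_pow hF
    exact (isPrimePow_nat_iff q).2 ⟨p, k, hp, hk0, hk.symm⟩
  have hfin : Finite (Cfsg.PSU n F q) := Quotient.finite _
  have h2 : ¬ (q = 2 ∧ n ≤ 6) := by
    rintro ⟨rfl, h6⟩
    have h7 : n = 4 ∨ n = 5 ∨ n = 6 := by omega
    rcases h7 with rfl | rfl | rfl <;> exact hex (by decide)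
  have h3 : ¬ (n = 4 ∧ q = 3) := by
    rintro ⟨rfl, rfl⟩
    exact hex (by decide)
  exact RowS.of_pgap (ntc_psu hF hn hex h) fun M hM => H884.Sax.miss_psu tab hK hF hq hn h2 h3 hM.1

end Cfsg.Agent.H372.DerU
end

-- part: H372/DerU/Fin
section
set_option linter.all false

/-!
# S3502, the row `PSU_n(q)`, `n ≥ 4`: all cases (helper372)
-/

set_option autoImplicit false

namespace Cfsg.Agent.H372.DerU

open Cfsg Cfsg.Agent.OrdDiv
open Cfsg.Agent.H439.Der

/-- **The row `PSU_n(q)`, `n ≥ 4`.** -/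
theorem rowS_psu (tab : OrderTable.{0}) (hK : ∀ (X : Type) [Group X] [Finite X] [IsSimpleGroup X],
    Cfsg.IsKnownSimple' X) {F : Type} [Field F] [Fintype F] {n q : ℕ} (hF : Fintype.card F = q ^ 2) (hn : 4 ≤ n)
    (hex : (n, q) ∉ ({(4, 2), (4, 3), (5, 2), (6, 2)} : Finset (ℕ × ℕ))) : RowS (Cfsg.PSU n F q) := by
  refine rowS_psu_of tab hK hF hn hex ?_
  rintro rfl rfl
  exact H104.U54.rowS_psu54 tab hK hF

end Cfsg.Agent.H372.DerU
end

-- part: H188/Der/O8m
section
prune_inst 0x114001002440000008000096112020442c00009200230001f960014000067343008227404a803a1411cea22110414000000000990040000024008c00400101208482e282b308a10406008f808884000000000000000000000000000000041004000000000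
set_option linter.all false
open scoped Cfsg.Agent.FastGrp

/-!
# `RowS` for `Ω₈⁻(2)` (helper188, S3502)
-/

set_option autoImplicit false
set_option linter.unusedSectionVars false

namespace Cfsg.Agent.H188.Der.O8m

open Module QuadraticMap Cfsg Cfsg.Geo Cfsg.Agent.LieClassical.OrthCore Cfsg.Agent.H955 Cfsg.Agent.H954.TSing
  Cfsg.Agent.H884.El Cfsg.Agent.LieClassical.OmegaReindex Cfsg.Agent.H938.Sax Cfsg.Agent.H320.Der
  Cfsg.Agent.H188.Der.GeoO Cfsg.Agent.H188.Der.AutNo Subgroup Cfsg.Agent.OrdDiv Cfsg.Agent.H439.Der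
  Cfsg.Agent.H377 Cfsg.Agent.H72.AdjOrth Cfsg.Agent.H970.StabNum Cfsg.Agent.H278.El Cfsg.Agent.H503.El
open Cfsg.Agent.H278.El.Asm (Kn)
open scoped MatrixGroups Matrix

theorem cands35 : (cands [(2, 12), (3, 4), (5, 1), (7, 1)] 11612160).filter (fun g => ordN g % 35 == 0) =
    [.alt 7, .alt 8, .alt 9, .psl 4 2, .psl 3 4, .psp 3 2] := by decide +kernel

theorem valid35 : valid [(2, 12), (3, 4), (5, 1), (7, 1)] 11612160 = true := by decide +kernel

theorem simple_cases (tab : OrderTable.{0}) (hK : Kn) {S : Type} [Group S] [Finite S] [IsSimpleGroup S]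
    (hna : ¬ IsMulCommutative S) (hd : Nat.card S ∣ 11612160) (h35 : 35 ∣ Nat.card S) :
    (NoAut S 9) ∨ ((81 ∣ Nat.card S) ∧ (NoAut S 21 ∨ Blk S 1 21)) := by
  obtain ⟨g, hg, hR⟩ := exists_real_filter tab (hK S) (fun h => hna ⟨⟨h⟩⟩) valid35 hd
    (fun n => n == Nat.card S && n % 35 == 0) (bandI (beq_self_eq_true _) (by
      rw [beq_iff_eq]; exact Nat.mod_eq_zero_of_dvd h35))
  rw [List.mem_filter, Bool.and_eq_true, beq_iff_eq] at hg
  obtain ⟨hg1, hgS, hg3⟩ := hg
  have hg : g ∈ (cands [(2, 12), (3, 4), (5, 1), (7, 1)] 11612160).filter (fun g => ordN g % 35 == 0) :=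
    List.mem_filter.2 ⟨hg1, hg3⟩
  rw [cands35] at hg
  simp only [List.mem_cons, List.not_mem_nil, or_false] at hg
  rcases hg with rfl | rfl | rfl | rfl | rfl | rfl
  · obtain ⟨e⟩ := hR
    exact Or.inl ((noAut_alt_nine le_rfl (by norm_num)).congr e)
  · obtain ⟨e⟩ := hR
    exact Or.inl ((noAut_alt_nine (by norm_num) le_rfl).congr e)
  · obtain ⟨e⟩ := hR
    refine Or.inr ⟨?_, Or.inl (noAut_alt_twentyone.congr e)⟩
    rw [← hgS, show ordN (.alt 9) = 181440 by decide +kernel]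
    norm_num
  · obtain ⟨F, _, _, hF, ⟨e⟩⟩ := hR
    exact Or.inl ((noAut_psl42 hF).congr e)
  · obtain ⟨F, _, _, hF, ⟨e⟩⟩ := hR
    exact Or.inl ((noAut_psl34 hF).congr e)
  · refine Or.inr ⟨?_, Or.inr (noAut_psp32 hR)⟩
    rw [← hgS, show ordN (.psp 3 2) = 1451520 by decide +kernel]
    norm_num

theorem three_four : ∀ k ≤ 4, ∀ j ≤ k, 3 ^ k ≡ 3 ^ j [MOD 7] → j = k := by decide

theorem dvd_three : ∀ n ≤ 9, n ∣ 9 → n ≠ 9 → n ∣ 3 := by decide

/-- **The subgroups of order divisible by `35`.** -/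
theorem case_abs (tab : OrderTable.{0}) (hK : Kn) {R : Type} [Group R] [Finite R]
    (hd : Nat.card R ∣ 11612160) (h7 : 7 ∣ Nat.card R) (h5 : 5 ∣ Nat.card R) (h35 : ∀ x : R, orderOf x ≠ 35)
    (h97 : ∀ s z : R, orderOf s = 7 → orderOf z = 9 → ¬ Commute s (z ^ 3)) :
    (∀ x : R, orderOf x ≠ 21) ∨ ∀ x : R, orderOf x ≠ 9 := by
  have hno : ∀ x : R, orderOf x ≠ 7 * 5 := h35
  have h49 : ¬ 7 ^ 2 ∣ Nat.card R := fun h => by
    have := h.trans hd
    norm_num at this
  have h25 : ¬ 5 ^ 2 ∣ Nat.card R := fun h => by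
    have := h.trans hd
    norm_num at this
  obtain ⟨K, hKn, h7K, h5K, L, hLn, h7L, hLs, hLc, hLC⟩ := exists_factor (p := 7) (r := 5) (by norm_num)
    (by norm_num) (by norm_num) h7 h49 h5 h25 (by norm_num) (by norm_num) hno
  have hcard := Subgroup.card_eq_card_quotient_mul_card_subgroup K
  have h5Q : 5 ∣ Nat.card (R ⧸ K) := by
    rw [hcard] at h5
    exact ((Nat.Prime.dvd_mul (by norm_num)).1 h5).resolve_right h5K
  have h5L : 5 ∣ Nat.card L := dvd_of_cent (p := 7) (r := 5) (by norm_num) (by norm_num) (by norm_num) hLn h7L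
    (not_sq_quot h49) h5Q (by norm_num) (no_quot hno)
  have h35L : 35 ∣ Nat.card L := Nat.Coprime.mul_dvd_of_dvd_of_dvd (by norm_num : Nat.Coprime 5 7) h5L h7L
  have hLQ : Nat.card L ∣ Nat.card (R ⧸ K) := card_subgroup_dvd_card L
  have hLR : Nat.card L * Nat.card K ∣ Nat.card R := by
    rw [hcard]
    exact Nat.mul_dvd_mul_right hLQ _
  have hKR : Nat.card K ∣ 11612160 := (Subgroup.card_subgroup_dvd_card K).trans hd
  rcases simple_cases tab hK hLc ((Dvd.intro _ rfl).trans (hLR.trans hd)) h35L with h | ⟨h81, h⟩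
  · right
    intro z hz
    have h9 := h.no L hLC (QuotientGroup.mk' K z)
    have hdv : orderOf (QuotientGroup.mk' K z) ∣ 9 := hz ▸ orderOf_map_dvd (QuotientGroup.mk' K) z
    have h3 : orderOf (QuotientGroup.mk' K z) ∣ 3 := dvd_three _ (Nat.le_of_dvd (by norm_num) hdv) hdv h9
    have hzK : z ^ 3 ∈ K := by
      rw [← QuotientGroup.eq_one_iff]
      exact orderOf_dvd_iff_pow_eq_one.1 h3
    have hz9 : (z ^ 3) ^ 3 ^ 1 = 1 := by
      rw [← pow_mul, show 3 * 3 ^ 1 = 9 by norm_num, ← hz, pow_orderOf_eq_one]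
    have h243 : ¬ 3 ^ (4 + 1) ∣ Nat.card K := fun h => by
      have := h.trans hKR
      norm_num at this
    obtain ⟨s, hs, hcm⟩ := exists_cent (p := 7) (t := 3) (N := 4) (by norm_num) (by norm_num) h7 hKn h7K
      h243 three_four hzK hz9
    exact h97 s z hs hz hcm
  · left
    have h3K : ¬ 3 ∣ Nat.card K := by
      intro h3
      have h1 : 81 * 3 ∣ 11612160 := (Nat.mul_dvd_mul h81 h3).trans (hLR.trans hd)
      norm_num at h1
    have hcop : Nat.Coprime 21 (Nat.card K) := by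
      rw [show 21 = 3 * 7 by norm_num]
      exact Nat.Coprime.mul_left ((Nat.Prime.coprime_iff_not_dvd (by norm_num)).2 h3K)
        ((Nat.Prime.coprime_iff_not_dvd (by norm_num)).2 h7K)
    have hq : ∀ x : R ⧸ K, orderOf x ≠ 21 := by
      rcases h with h | h
      · exact h.no L hLC
      · exact no_of_blk L hLC (by norm_num) h
    exact no_of_quot hcop hq

variable {F : Type} [Field F] [Fintype F]

/-- **The subgroups of order divisible by `35` and not by `17`.** -/
theorem case_b (tab : OrderTable.{0}) (hK : Kn) (hF : Fintype.card F = 2) {a b : F}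
    (hab : ∀ z₁ z₂ : F, z₁ ^ 2 + a * z₁ * z₂ + b * z₂ ^ 2 = 0 → z₁ = 0 ∧ z₂ = 0)
    (hc : Nat.card (POmega F (quadFormMinus 3 F a b)) = 197406720)
    {R : Subgroup (POmega F (quadFormMinus 3 F a b))} (h17 : ¬ 17 ∣ Nat.card R) (h7 : 7 ∣ Nat.card R)
    (h5 : 5 ∣ Nat.card R) : (∀ x ∈ R, orderOf x ≠ 21) ∨ ∀ x ∈ R, orderOf x ≠ 9 := by
  have hfin : Finite (POmega F (quadFormMinus 3 F a b)) := Quotient.finite _
  have hQ : Nondeg (quadMinus 3 F a b) := nondeg_iff.2 (quadMinus_nondegenerate hab)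
  have hD : H390.Lift.Data (quadMinus 3 F a b) := data_minus (m := 4) le_rfl hab
  have hd : Nat.card R ∣ 11612160 := by
    have h1 : Nat.card R ∣ 17 * 11612160 := by
      have := Subgroup.card_subgroup_dvd_card R
      rwa [hc] at this
    exact ((Nat.Prime.coprime_iff_not_dvd (by norm_num)).2 h17).symm.dvd_of_dvd_mul_left h1
  have h35 : ∀ x : POmega F (quadFormMinus 3 F a b), orderOf x ≠ 35 := by
    have h : ∀ x : POmega F (⇑(quadMinus 3 F a b)), orderOf x ≠ 35 := by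
      intro x hx
      obtain ⟨g, h1, h2⟩ := exists_lin_iso hD (by decide) hx
      exact no_35 hF hQ h1 h2 (by rw [finrank_V]; simp)
    rw [coe_quadMinus] at h
    exact h
  have h97 : ∀ s z : POmega F (quadFormMinus 3 F a b), orderOf s = 7 → orderOf z = 9 → ¬ Commute s (z ^ 3) := by
    have h : ∀ s z : POmega F (⇑(quadMinus 3 F a b)), orderOf s = 7 → orderOf z = 9 → ¬ Commute s (z ^ 3) := by
      intro s z hs hz hcm
      exact no_nine_pomega hF hQ hD (by simp) hs hz hcm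
    rw [coe_quadMinus] at h
    exact h
  rcases case_abs tab hK hd h7 h5 (fun x hx => h35 x (by rw [Subgroup.orderOf_coe, hx]))
    (fun s z hs hz hcm => h97 s z (by rw [Subgroup.orderOf_coe, hs]) (by rw [Subgroup.orderOf_coe, hz])
      (congrArg Subtype.val hcm.eq)) with h | h
  · exact Or.inl fun x hx ho => h ⟨x, hx⟩ (by simp only [← ho, ← Subgroup.orderOf_coe])
  · exact Or.inr fun x hx ho => h ⟨x, hx⟩ (by simp only [← ho, ← Subgroup.orderOf_coe])

theorem sub17 : ((divs [(2, 12), (3, 4), (5, 1), (7, 1), (17, 1)]).filter fun h => h % 17 == 0 &&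
    (feasAll [(17, 1, 4)] [2, 3, 5, 7, 17] [60, 168, 360, 504, 2448, 2520, 4080, 6048, 20160, 25920, 181440, 1451520,
      197406720] h)).all (fun h => (h == 197406720) || (h % 7 != 0 && h % 9 != 0)) = true := by decide +kernel

/-- **The row of `Ω₈⁻(2)`.** -/
theorem rowS_o8m2 (tab : OrderTable.{0}) (hK : Kn) {F : Type} [Field F] [Fintype F] (hF : Fintype.card F = 2) {a b : F}
    (hab : ∀ z₁ z₂ : F, z₁ ^ 2 + a * z₁ * z₂ + b * z₂ ^ 2 = 0 → z₁ = 0 ∧ z₂ = 0) :
    RowS (Cfsg.POmega F (Cfsg.quadFormMinus 3 F a b)) := by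
  have hc : Nat.card (POmega F (quadFormMinus 3 F a b)) = 197406720 := card_o8m hF a b hab
  have hfin : Finite (POmega F (quadFormMinus 3 F a b)) := Quotient.finite _
  have hsim : IsSimpleGroup (POmega F (quadFormMinus 3 F a b)) := S0297.result 4 le_rfl a b hab
  have hcF : Nat.card F = 2 := by rw [Nat.card_eq_fintype_card, hF]
  have hf1 : Nat.card (F ≃+* F) = 1 := Cfsg.Agent.Lib.FieldAutCard.card_ringAut (p := 2) (f := 1) le_rfl (by rw [hF, pow_one])
  have G : Gp F 4 (-1) 1 (POmega F (quadFormMinus 3 F a b)) := gp_minus_all (m := 4) le_rfl hab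
  have hD : Data (POmega F (quadFormMinus 3 F a b)) [(17, 1, 4)] [2, 3, 5, 7, 17] [60, 168, 360, 504, 2448, 2520, 4080,
      6048, 20160, 25920, 181440, 1451520, 197406720] := by
    refine mk_data tab hK (l := [(2, 12), (3, 4), (5, 1), (7, 1), (17, 1)]) hc (by decide +kernel) fun x hx => ?_
    rw [List.mem_singleton] at hx
    subst hx
    exact entry_of_ex (by norm_num) hc (by norm_num) (by norm_num) (by decide +kernel)
      (H732.SelfCent.omega8minus_selfcent hF a b hab)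
  have htw : Tw (POmega F (quadFormMinus 3 F a b)) 17 :=
    G.two (k := 4) (ε := -1) (by norm_num) (Or.inr ⟨rfl, rfl⟩) (Or.inr rfl) (by decide) (by norm_num)
      (eltS_minus (by norm_num) (by decide) (by rw [hcF]; norm_num)) (by
        rw [hf1, Nat.totient_prime (by norm_num)]
        norm_num)
  have h9 : ∃ x : POmega F (quadFormMinus 3 F a b), orderOf x = 9 :=
    G.of_odd (by decide) (by
      have h1 := (elt_tor_minus (F := F) (k := 3) (N := 9) (by norm_num) (by rw [hcF]; norm_num)).add le_rfl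
        (ε' := 1) (Or.inl rfl)
      simpa using h1)
  have h21 : ∃ x : POmega F (quadFormMinus 3 F a b), orderOf x = 21 :=
    G.of_odd (by decide) (by
      have h1 := (elt_tor_plus (F := F) (k := 3) (N := 7) (by norm_num) (by rw [hcF]; norm_num)).prod
        (elt_tor_minus (F := F) (k := 1) (N := 3) (by norm_num) (by rw [hcF]; norm_num))
      have h2 : Nat.lcm 7 3 = 21 := by decide
      rw [h2] at h1
      simpa using h1)
  have h7 : ∃ x : POmega F (quadFormMinus 3 F a b), orderOf x = 7 := by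
    have : Fact (Nat.Prime 7) := ⟨by norm_num⟩
    exact exists_prime_orderOf_dvd_card' 7 (by rw [hc]; norm_num)
  have h5 : ∃ x : POmega F (quadFormMinus 3 F a b), orderOf x = 5 := by
    have : Fact (Nat.Prime 5) := ⟨by norm_num⟩
    exact exists_prime_orderOf_dvd_card' 5 (by rw [hc]; norm_num)
  refine RowS.of_three fun M hM => ?_
  have hmiss : ∀ v n : ℕ, v ∣ n → ¬ v ∣ Nat.card M → ∀ x ∈ M, orderOf x ≠ n := by
    intro v n hvn hv x hx ho
    apply hv
    refine hvn.trans ?_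
    rw [← ho]
    have := orderOf_dvd_natCard (⟨x, hx⟩ : M)
    rwa [← Subgroup.orderOf_coe] at this
  by_cases h17 : 17 ∣ Nat.card M
  · have h1 := sub17
    rw [List.all_eq_true] at h1
    have h2 := h1 (Nat.card M) (by
      rw [List.mem_filter]
      refine ⟨mem_divs_of_valid (by decide +kernel : valid _ 197406720 = true)
        (hc ▸ Subgroup.card_subgroup_dvd_card M), bandI ?_ (hD.feas M)⟩
      rw [beq_iff_eq]
      exact Nat.mod_eq_zero_of_dvd h17)
    have h3 : Nat.card M ≠ 197406720 := fun h => hM.1 (Subgroup.eq_top_of_card_eq M (by rw [h, hc]))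
    have h4 : ¬ 7 ∣ Nat.card M ∧ ¬ 9 ∣ Nat.card M := by
      simp only [Bool.or_eq_true, beq_iff_eq, Bool.and_eq_true, bne_iff_ne, bne_iff_ne] at h2
      rcases h2 with h2 | h2
      · exact absurd h2 h3
      · exact ⟨fun h => h2.1 (Nat.mod_eq_zero_of_dvd h), fun h => h2.2 (Nat.mod_eq_zero_of_dvd h)⟩
    obtain ⟨x, hx⟩ := h7
    obtain ⟨y, hy⟩ := h21
    obtain ⟨z, hz⟩ := h9
    exact Three.of_orders (by norm_num) (by norm_num) (by norm_num) hx hy hz (hmiss 7 7 dvd_rfl h4.1)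
      (hmiss 7 21 (by norm_num) h4.1) (hmiss 9 9 dvd_rfl h4.2)
  · have h17' := hmiss 17 17 dvd_rfl h17
    by_cases h7M : 7 ∣ Nat.card M
    swap
    · exact htw.three h17' h7 (hmiss 7 7 dvd_rfl h7M) (by norm_num)
    by_cases h5M : 5 ∣ Nat.card M
    swap
    · exact htw.three h17' h5 (hmiss 5 5 dvd_rfl h5M) (by norm_num)
    rcases case_b tab hK hF hab hc h17 h7M h5M with h | h
    · exact htw.three h17' h21 h (by norm_num)
    · exact htw.three h17' h9 h (by norm_num)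

end Cfsg.Agent.H188.Der.O8m
end

-- part: H788/Der/OmMinus
section
prune_inst 0x10000000040000000000012102000040000000000030000286001000000400000c22640082010041000800100010040000000100000000000000000000001000000c2029308a000060088000080000000000000000000000000000000000000000000000
set_option linter.all false
open scoped Cfsg.Agent.FastGrp

-- part: H788/Der/OmCos
section
/-!
# Elements of even order of `PΩ` over the field of three elements (helper788, S3502)

* `exists_coset` : every isometry is, modulo `E Q`, a product of two given orthogonal reflections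
* `exists_order_four_mul` : elements of order `N`, `4 ∣ N`, in `PΩ(W ⊥ H)` from isometries of order `N` of `W`
-/

set_option autoImplicit false

namespace Cfsg.Agent.H788.Der.Om

open Module Subgroup QuadraticMap
open Cfsg.Agent.LieClassical.OrthCore Cfsg.Agent.LieClassical.OrthTrans Cfsg.Agent.AutOrth.SemiSim
  Cfsg.Agent.AutOrth.Gen Cfsg.Agent.ClassicalGeometry.OrthAut1 Cfsg.Agent.AutOrth.Main Cfsg.Agent.H320.Der
  Cfsg.Agent.H377

section coset

variable {F V : Type*} [Field F] [AddCommGroup V] [Module F V] {Q : QuadraticForm F V}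

/-- products of the two reflections -/
def IsS (Q : QuadraticForm F V) (v w : V) (hv : Q v ≠ 0) (hw : Q w ≠ 0) (s : V ≃ₗ[F] V) : Prop :=
  s = 1 ∨ s = refl Q v hv ∨ s = refl Q w hw ∨ s = refl Q v hv * refl Q w hw

theorem four_mul {G : Type*} [Group G] {a b : G} (ha : a * a = 1) (hb : b * b = 1) (hab : a * b = b * a) {s t : G}
    (hs : s = 1 ∨ s = a ∨ s = b ∨ s = a * b) (ht : t = 1 ∨ t = a ∨ t = b ∨ t = a * b) :
    s * t = 1 ∨ s * t = a ∨ s * t = b ∨ s * t = a * b := by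
  have h1 : ∀ x, a * (a * x) = x := fun x => by rw [← mul_assoc, ha, one_mul]
  have h3 : b * a = a * b := hab.symm
  have h4 : ∀ x, b * (a * x) = a * (b * x) := fun x => by rw [← mul_assoc, h3, mul_assoc]
  rcases hs with rfl | rfl | rfl | rfl <;> rcases ht with rfl | rfl | rfl | rfl <;>
    simp [mul_assoc, h1, h3, h4, ha, hb]

theorem four_inv {G : Type*} [Group G] {a b : G} (ha : a * a = 1) (hb : b * b = 1) (hab : a * b = b * a) {s : G}
    (hs : s = 1 ∨ s = a ∨ s = b ∨ s = a * b) : s * s = 1 := by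
  rcases hs with rfl | rfl | rfl | rfl
  · exact one_mul 1
  · exact ha
  · exact hb
  · rw [mul_assoc, ← mul_assoc b a b, ← hab, mul_assoc a b b, hb, mul_one, ha]

/-- every isometry is, modulo `E Q`, a product of two given orthogonal reflections -/
theorem exists_coset [FiniteDimensional F V] (hG : Good Q) {v w : V} (hv : Q v ≠ 0) (hw : Q w ≠ 0)
    (hvw : polar Q v w = 0) (hc : ∀ x : V, Q x ≠ 0 → Q x = Q v ∨ Q x = Q w) {g : V ≃ₗ[F] V} (hg : g ∈ O Q) :
    ∃ s : V ≃ₗ[F] V, IsS Q v w hv hw s ∧ g * s ∈ E Q := by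
  have ha := refl_mul_self (Q := Q) hv
  have hb := refl_mul_self (Q := Q) hw
  have hab := refl_comm hv hw hvw
  have hSO : ∀ s, IsS Q v w hv hw s → s ∈ O Q := by
    rintro s (rfl | rfl | rfl | rfl)
    · exact (O Q).one_mem
    · exact refl_mem_O hv
    · exact refl_mem_O hw
    · exact (O Q).mul_mem (refl_mem_O hv) (refl_mem_O hw)
  rw [O_eq_closure hG.nondeg] at hg
  induction hg using Subgroup.closure_induction with
  | mem x hx =>
    rcases hx with hx | hx
    · obtain ⟨u, hu, rfl⟩ := hx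
      rcases hc u hu with h1 | h1
      · exact ⟨refl Q v hv, Or.inr (Or.inl rfl), hG.refl_mul_refl_mem hv hu h1.symm⟩
      · exact ⟨refl Q w hw, Or.inr (Or.inr (Or.inl rfl)), hG.refl_mul_refl_mem hw hu h1.symm⟩
    · exact ⟨1, Or.inl rfl, by rw [mul_one]; exact Subgroup.subset_closure hx⟩
  | one => exact ⟨1, Or.inl rfl, by rw [mul_one]; exact (E Q).one_mem⟩
  | mul x y _ _ hx hy =>
    obtain ⟨s, hs, hxs⟩ := hx
    obtain ⟨t, ht, hyt⟩ := hy
    refine ⟨t * s, four_mul ha hb hab ht hs, ?_⟩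
    have h1 := conj_mem_E ((O Q).inv_mem (hSO s hs)) hyt
    have h2 := (E Q).mul_mem hxs h1
    have h3 : x * s * (s⁻¹ * (y * t) * s⁻¹⁻¹) = x * y * (t * s) := by group
    rwa [h3] at h2
  | inv x _ hx =>
    obtain ⟨s, hs, hxs⟩ := hx
    refine ⟨s, hs, ?_⟩
    have h1 := (E Q).inv_mem hxs
    have h2 := conj_mem_E (hSO s hs) h1
    have h3 : s * (x * s)⁻¹ * s⁻¹ = x⁻¹ * s⁻¹ := by group
    have h4 : s⁻¹ = s := inv_eq_of_mul_eq_one_right (four_inv ha hb hab hs)
    rwa [h3, h4] at h2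

end coset

section order

variable {F : Type*} [Field F] [Finite F]

/-- **elements of order `N`, `4 ∣ N`** -/
theorem exists_order_four_mul {ι : Type} [Fintype ι] [DecidableEq ι] {Q : QuadraticForm F (ι → F)} (hG : Good Q)
    {W : Type*} [AddCommGroup W] [Module F W] {Q' : QuadraticForm F W} {g : Module.End F W}
    (hg : ∀ x, Q' (g x) = Q' x) {N : ℕ} (hN0 : 0 < N) (hN : 4 ∣ N) (ho : orderOf g = N)
    (e : (ι → F) ≃ₗ[F] W × (F × F)) (he : ∀ u, sumQ Q' (hypQ F) (e u) = Q u)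
    (h3 : ∀ x : F, x ≠ 0 → x = 1 ∨ x = -1) : ∃ x : Cfsg.POmega F ⇑Q, orderOf x = N := by
  have hgN : g ^ N = 1 := by rw [← ho]; exact pow_orderOf_eq_one g
  have hgN1 : g * g ^ (N - 1) = 1 := by rw [← pow_succ', Nat.sub_add_cancel hN0, hgN]
  have hgN2 : g ^ (N - 1) * g = 1 := by rw [← pow_succ, Nat.sub_add_cancel hN0, hgN]
  let gE : W ≃ₗ[F] W := LinearEquiv.ofLinearMap g (g ^ (N - 1)) hgN1 hgN2
  have hgE : ∀ x, gE x = g x := fun x => rfl
  let G : (ι → F) ≃ₗ[F] (ι → F) := e.trans ((gE.prodCongr (LinearEquiv.refl F (F × F))).trans e.symm)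
  have hGa : ∀ x y, G (e.symm (x, y)) = e.symm (g x, y) := by
    intro x y
    show e.symm ((gE.prodCongr (LinearEquiv.refl F (F × F))) (e (e.symm (x, y)))) = _
    rw [e.apply_symm_apply]
    rfl
  have hQs : ∀ x y, Q (e.symm (x, y)) = Q' x + hypQ F y := by
    intro x y
    rw [← he, e.apply_symm_apply, sumQ_apply]
  have hdec : ∀ u : ι → F, ∃ x y, u = e.symm (x, y) := fun u => ⟨(e u).1, (e u).2, by simp⟩
  have hGO : G ∈ O Q := by
    rw [mem_O]
    intro u
    obtain ⟨x, y, rfl⟩ := hdec u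
    rw [hGa, hQs, hQs, hg]
  have hpol : ∀ x y x' y', polar Q (e.symm (x, y)) (e.symm (x', y')) = polar Q' x x' + polar (hypQ F) y y' := by
    intro x y x' y'
    rw [polar, polar, polar, ← map_add, Prod.mk_add_mk, hQs, hQs, hQs]
    ring
  obtain ⟨v, hvd⟩ : ∃ v, v = e.symm (0, ((1 : F), (1 : F))) := ⟨_, rfl⟩
  obtain ⟨w, hwd⟩ : ∃ w, w = e.symm (0, ((1 : F), (-1 : F))) := ⟨_, rfl⟩
  have hv1 : Q v = 1 := by rw [hvd, hQs, hypQ_apply, map_zero]; simp
  have hw1 : Q w = -1 := by rw [hwd, hQs, hypQ_apply, map_zero]; simp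
  have hvw : polar Q v w = 0 := by
    rw [hvd, hwd, hpol, polar, polar, hypQ_apply, hypQ_apply, hypQ_apply]
    simp
  have hv : Q v ≠ 0 := by rw [hv1]; exact one_ne_zero
  have hw : Q w ≠ 0 := by rw [hw1]; exact neg_ne_zero.2 one_ne_zero
  obtain ⟨s, hs, hE⟩ := exists_coset hG hv hw hvw (fun x hx => by rw [hv1, hw1]; exact h3 _ hx) hGO
  have hvx : ∀ x, polar Q v (e.symm (x, 0)) = 0 := by
    intro x
    rw [hvd, hpol]
    simp [polar]
  have hwx : ∀ x, polar Q w (e.symm (x, 0)) = 0 := by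
    intro x
    rw [hwd, hpol]
    simp [polar]
  -- `s` fixes `W`
  have hrv : ∀ x, refl Q v hv (e.symm (x, 0)) = e.symm (x, 0) := fun x => by
    rw [refl_apply, hvx, mul_zero, zero_smul, sub_zero]
  have hrw : ∀ x, refl Q w hw (e.symm (x, 0)) = e.symm (x, 0) := fun x => by
    rw [refl_apply, hwx, mul_zero, zero_smul, sub_zero]
  have hsW : ∀ x, s (e.symm (x, 0)) = e.symm (x, 0) := by
    intro x
    rcases hs with rfl | rfl | rfl | rfl
    · rfl
    · exact hrv x
    · exact hrw x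
    · rw [LinearEquiv.mul_apply, hrw, hrv]
  have hGv : G v = v := by rw [hvd, hGa, map_zero]
  have hGw : G w = w := by rw [hwd, hGa, map_zero]
  have hss : s * s = 1 := four_inv (refl_mul_self hv) (refl_mul_self hw) (refl_comm hv hw hvw) hs
  -- `G` commutes with `s`
  have hcr : ∀ (u : ι → F) (hu : Q u ≠ 0), G u = u → G * refl Q u hu = refl Q u hu * G := by
    intro u hu hGu
    ext1 x
    rw [LinearEquiv.mul_apply, LinearEquiv.mul_apply, refl_apply, refl_apply, map_sub, map_smul, hGu]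
    have h4 : polar Q u (G x) = polar Q u x := by
      have h5 := polar_map hGO u x
      rwa [hGu] at h5
    rw [h4]
  have hGs : Commute G s := by
    rcases hs with rfl | rfl | rfl | rfl
    · exact Commute.one_right G
    · exact hcr v hv hGv
    · exact hcr w hw hGw
    · exact Commute.mul_right (hcr v hv hGv) (hcr w hw hGw)
  obtain ⟨z, hz⟩ : ∃ z : ↥(E Q), z = ⟨G * s, hE⟩ := ⟨_, rfl⟩
  have hzc : ∀ j : ℕ, ((z ^ j : ↥(E Q)) : (ι → F) ≃ₗ[F] (ι → F)) = G ^ j * s ^ j := by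
    intro j
    rw [hz, SubmonoidClass.coe_pow]
    exact hGs.mul_pow j
  have hGj : ∀ (j : ℕ) x y, (G ^ j) (e.symm (x, y)) = e.symm ((g ^ j) x, y) := by
    intro j
    induction j with
    | zero => intro x y; rfl
    | succ j ih => intro x y; rw [pow_succ, LinearEquiv.mul_apply, hGa, ih, pow_succ, Module.End.mul_apply]
  have hsj : ∀ (j : ℕ) x, (s ^ j) (e.symm (x, 0)) = e.symm (x, 0) := by
    intro j
    induction j with
    | zero => intro x; rfl
    | succ j ih => intro x; rw [pow_succ, LinearEquiv.mul_apply, hsW, ih]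
  have hzW : ∀ (j : ℕ) x, ((z ^ j : ↥(E Q)) : (ι → F) ≃ₗ[F] (ι → F)) (e.symm (x, 0)) = e.symm ((g ^ j) x, 0) := by
    intro j x
    rw [hzc, LinearEquiv.mul_apply, hsj, hGj]
  have hzN : z ^ N = 1 := by
    apply Subtype.ext
    rw [hzc]
    obtain ⟨k, hk⟩ := (show 2 ∣ N from (by norm_num : 2 ∣ 4).trans hN)
    have h5 : s ^ N = 1 := by rw [hk, pow_mul, pow_two, hss, one_pow]
    rw [h5, mul_one]
    ext1 u
    obtain ⟨x, y, rfl⟩ := hdec u
    rw [hGj, hgN]
    rfl
  have key : orderOf ((z : ↥(E Q)) : P Q) = N := by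
    refine orderOf_eq_of_forall fun j => ⟨fun h => ?_, fun h => ?_⟩
    · have h5 : ((z ^ j : ↥(E Q)) : P Q) = 1 := h
      have h6 : z ^ j ∈ center ↥(E Q) := (QuotientGroup.eq_one_iff _).1 h5
      obtain ⟨c, hcs⟩ := scalar_of_center hG h6
      have h7 := center_sq hG h6
      rw [← pow_mul] at h7
      have h8 : g ^ (j * 2) = 1 := by
        refine LinearMap.ext fun x => ?_
        have h9 := hzW (j * 2) x
        rw [h7] at h9
        have h10 := e.symm.injective h9
        exact (congrArg Prod.fst h10).symm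
      have h9 : N ∣ j * 2 := by rw [← ho]; exact orderOf_dvd_of_pow_eq_one h8
      have h10 : 2 ∣ j := by
        have := hN.trans h9
        omega
      obtain ⟨k, rfl⟩ := h10
      have h11 := hcs v
      rw [hzc, LinearEquiv.mul_apply, pow_mul s, pow_two s, hss, one_pow] at h11
      have h12 : (G ^ (2 * k)) v = v := by
        rw [hvd, hGj, map_zero]
      have h13 : v = c • v := by
        rw [← h11]
        exact h12.symm
      have hv0 : v ≠ 0 := by
        rintro h0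
        rw [h0, map_zero] at hv
        exact hv rfl
      have hc1 : c = 1 := by
        have h14 : (1 - c) • v = 0 := by rw [sub_smul, one_smul, ← h13, sub_self]
        rcases smul_eq_zero.1 h14 with h15 | h15
        · exact (sub_eq_zero.1 h15).symm
        · exact absurd h15 hv0
      rw [← ho]
      apply orderOf_dvd_of_pow_eq_one
      refine LinearMap.ext fun x => ?_
      have h14 := hzW (2 * k) x
      rw [hcs, hc1, one_smul] at h14
      exact (congrArg Prod.fst (e.symm.injective h14)).symm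
    · obtain ⟨k, rfl⟩ := h
      show ((z ^ (N * k) : ↥(E Q)) : P Q) = 1
      rw [pow_mul, hzN, one_pow]
      rfl
  exact ⟨(pe hG).symm ((z : ↥(E Q)) : P Q), by rw [MulEquiv.orderOf_eq, key]⟩

end order

end Cfsg.Agent.H788.Der.Om
end

-- part: H788/Der/OmNtc
section
set_option autoImplicit false

namespace Cfsg.Agent.H788.Der.Om

open Polynomial Module Subgroup QuadraticMap Cfsg.Agent.H439.Der
open Cfsg.Agent.LieClassical.OrthCore Cfsg.Agent.LieClassical.OrthTrans
  Cfsg.Agent.H403.Classify Cfsg.Agent.H377 Cfsg.Agent.AutOrth.Main Cfsg.Agent.ClassicalGeometry.OrthAut1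
  Cfsg.Agent.LieClassical.QuadForms Cfsg.Agent.H72.AdjOrth Cfsg.Agent.H320.Der

universe u

theorem ne_zero_cases {F : Type*} [Field F] [Fintype F] (hF : Fintype.card F = 3) (x : F) (hx : x ≠ 0) :
    x = 1 ∨ x = -1 := by
  have h1 : x ^ 2 = 1 := by
    have := FiniteField.pow_card_sub_one_eq_one x hx
    rwa [hF] at this
  exact mul_self_eq_one_iff.1 (by rw [← pow_two]; exact h1)

/-- elements of order `N`, `4 ∣ N`, in `PΩ⁻_{2m}(3)` from the minus space of dimension `2m - 2` -/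
theorem exists_minus_four_mul {F : Type u} [Field F] [Fintype F] (hF : Fintype.card F = 3) {m : ℕ} (hm : 3 ≤ m)
    {a b : F} (hab : ∀ z₁ z₂ : F, z₁ ^ 2 + a * z₁ * z₂ + b * z₂ ^ 2 = 0 → z₁ = 0 ∧ z₂ = 0) {N : ℕ} (hN : 4 ∣ N)
    (h : Elt F (m - 1) (-1) N) : ∃ x : Cfsg.POmega F (Cfsg.quadFormMinus (m - 1) F a b), orderOf x = N := by
  obtain ⟨hN0, Q1, g, hQ1, hs, hg, ho⟩ := h
  have hs' := hs.prod (hasSign_mul (F := F))
  rw [mul_one, Nat.sub_add_cancel (by omega : 1 ≤ m)] at hs'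
  obtain ⟨e, he⟩ := exists_minus (m := m) (by omega) (V := (Fin (2 * (m - 1)) → F) × (F × F)) (by
    rw [Module.finrank_prod, Module.finrank_prod, Module.finrank_fin_fun, Module.finrank_self]; omega)
    (sumQ Q1 (hypQ F)) (sumQ_nondeg hQ1 hypQ_nondeg) hs' hab
  rw [← coe_minusForm]
  exact exists_order_four_mul (good_minus (F := F) (m := m - 1) (by omega) hab) hg hN0 hN ho e
    (fun u => by rw [he, coe_minusForm]) (ne_zero_cases hF)

theorem aut_three {F : Type*} [Field F] [Fintype F] (hF : Fintype.card F = 3) : Nat.card (F ≃+* F) = 1 :=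
  Cfsg.Agent.Lib.FieldAutCard.card_ringAut (p := 3) (f := 1) le_rfl (by rw [hF, pow_one])

/-- **`NTC` for `PΩ⁻_8(3)`** -/
theorem th_o8m3 {F : Type u} [Field F] [Fintype F] (hF : Fintype.card F = 3) {a b : F}
    (hab : ∀ z₁ z₂ : F, z₁ ^ 2 + a * z₁ * z₂ + b * z₂ ^ 2 = 0 → z₁ = 0 ∧ z₂ = 0) {v : ℕ} (hv : v.Prime)
    (hd : v ∣ Nat.card (Cfsg.POmega F (Cfsg.quadFormMinus 3 F a b))) :
    Th (Cfsg.POmega F (Cfsg.quadFormMinus 3 F a b)) v := by
  have G : Gp F 4 (-1) 1 (Cfsg.POmega F (Cfsg.quadFormMinus 3 F a b)) := gp_minus_all (m := 4) le_rfl hab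
  have hfin := G.fin
  have hc : Nat.card F = 3 := by rw [Nat.card_eq_fintype_card, hF]
  by_cases h2 : Nat.card F = 3 ∧ v ≠ 2 ∧ v ≠ 3 ∧ 4 ≤ eta (ee (Nat.card F) v) + 1 ∧ eta (ee (Nat.card F) v) = 3
  · obtain ⟨-, hv2, hv3, -, hη⟩ := h2
    rw [hc] at hη
    have hv' : v = 7 ∨ v = 13 := by
      rcases ee_unique hη (by norm_num) with ⟨-, he⟩ | ⟨-, he⟩
      · have h1 : v ∣ 3 ^ 6 - 1 := ee_eq_dvd (by norm_num) he
        have h2 : v ∣ (2 ^ 3 * 7) * 13 := h1
        rcases mem_of_dvd_prod hv h2 with h3 | h3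
        · rcases mem_of_dvd_prod hv h3 with h4 | h4
          · exact absurd ((Nat.prime_dvd_prime_iff_eq hv Nat.prime_two).1 (hv.dvd_of_dvd_pow h4)) hv2
          · exact Or.inl ((Nat.prime_dvd_prime_iff_eq hv (by norm_num)).1 h4)
        · exact Or.inr ((Nat.prime_dvd_prime_iff_eq hv (by norm_num)).1 h3)
      · have h1 : v ∣ 3 ^ 3 - 1 := ee_eq_dvd (by norm_num) he
        have h2 : v ∣ 2 * 13 := h1
        rcases mem_of_dvd_prod hv h2 with h3 | h3
        · exact absurd ((Nat.prime_dvd_prime_iff_eq hv Nat.prime_two).1 h3) hv2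
        · exact Or.inr ((Nat.prime_dvd_prime_iff_eq hv (by norm_num)).1 h3)
    rcases hv' with rfl | rfl
    · have := Fact.mk hv
      have hE : Elt F 3 (-1) 28 := elt_tor_minus (by norm_num) (by rw [hc]; norm_num)
      have h14 : ∃ x : Cfsg.POmega F (Cfsg.quadFormMinus 3 F a b), orderOf x = 14 := by
        have h1 := Elt.add_two (n₂ := 1) (ε₂ := 1) le_rfl (Or.inl rfl) hE (by decide)
        exact G.elt2 14 h1
      have h28 : ∃ x : Cfsg.POmega F (Cfsg.quadFormMinus 3 F a b), orderOf x = 28 :=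
        exists_minus_four_mul (m := 4) hF (by norm_num) hab (by norm_num) hE
      exact Th.of_orders (a := 7) (b := 14) (c := 28) dvd_rfl ⟨2, rfl⟩ ⟨4, rfl⟩ (by norm_num) (by norm_num)
        (by norm_num) (exists_prime_orderOf_dvd_card' 7 hd) h14 h28
    · have hE : EltS F 3 1 13 := eltS_plus (by norm_num) (by rw [hc]; norm_num)
      have h6 : Tw (Cfsg.POmega F (Cfsg.quadFormMinus 3 F a b)) 13 := G.two (k := 3) (ε := 1) (by norm_num)
        (Or.inl (by norm_num)) (Or.inl rfl) (by decide) (by norm_num) hE (by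
          rw [aut_three hF, Nat.totient_prime (by norm_num)]
          norm_num)
      have h7 : Elt F 1 (-1) 4 := elt_tor_minus (by norm_num) (by rw [hc]; norm_num)
      have h8 := Elt.prod_two (by norm_num) (by decide) hE.elt h7 (by decide)
      exact Th.of_two (a := 13) (b := 26) dvd_rfl ⟨2, rfl⟩ (by norm_num) h6 (G.elt2 26 h8)
  · exact th_one G (by omega) hv hd (by omega) h2

end Cfsg.Agent.H788.Der.Om
end

-- part: H788/Der/OmMinus
section
/-!
# `RowS` for `PΩ⁻_8(3)` (helper788, S3502)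

* `rowS_o8m3`
-/

set_option autoImplicit false

namespace Cfsg.Agent.H788.Der

open Cfsg Cfsg.Agent.OrdDiv Cfsg.Agent.H439.Der
open Cfsg.Agent.H278.El.Asm (Kn)
open Cfsg.Agent.H997.PF (ominus_main)

/-- **`PΩ⁻_8(3)`** -/
theorem rowS_o8m3 (tab : OrderTable.{0}) (hK : Kn) {F : Type} [Field F] [Fintype F] (hF : Fintype.card F = 3)
    {a b : F} (hab : ∀ z₁ z₂ : F, z₁ ^ 2 + a * z₁ * z₂ + b * z₂ ^ 2 = 0 → z₁ = 0 ∧ z₂ = 0) :
    RowS (POmega F (quadFormMinus 3 F a b)) := by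
  have hfin : Finite (POmega F (quadFormMinus 3 F a b)) := Quotient.finite _
  exact RowS.of_pgap (Cfsg.Agent.H320.Der.ntc_of_th fun v hv hd => Om.th_o8m3 hF hab hv hd) fun M hM =>
    ominus_main (m := 4) tab hK le_rfl hab hM.1

end Cfsg.Agent.H788.Der
end
end

-- part: H788/Der/TenFin
section
set_option linter.all false

/-!
# `RowS` for `PΩ⁻_10(2)` (helper788, S3502)

* `rowS_o10m2`
-/

set_option autoImplicit false

namespace Cfsg.Agent.H788.Der

open Cfsg Cfsg.Agent.OrdDiv Cfsg.Agent.H439.Der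
open Cfsg.Agent.H278.El.Asm (Kn)
open Cfsg.Agent.H997.PF (ominus_main)

/-- **`PΩ⁻_10(2)`** -/
theorem rowS_o10m2 (tab : OrderTable.{0}) (hK : Kn) {F : Type} [Field F] [Fintype F] (hF : Fintype.card F = 2)
    {a b : F} (hab : ∀ z₁ z₂ : F, z₁ ^ 2 + a * z₁ * z₂ + b * z₂ ^ 2 = 0 → z₁ = 0 ∧ z₂ = 0) :
    RowS (POmega F (quadFormMinus 4 F a b)) := by
  have hfin : Finite (POmega F (quadFormMinus 4 F a b)) := Quotient.finite _
  exact RowS.of_three fun M hM => Ten.three_o10m2 tab (fun X _ _ _ => hK X) hF hab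
    (ominus_main (m := 5) tab hK (by norm_num) hab hM.1)

end Cfsg.Agent.H788.Der
end

-- part: H833/RS/Gen
section
prune_inst 0x100001002462000000000080030000402c00000000600000a0000000080021020040010002b000109082008060000040000001800000000000000400000300000080000020000000000000000004000000000000000000000000000000000000000000000
set_option linter.all false
open scoped Cfsg.Agent.FastGrp

/-!
# Elements of `Ω_{2m+1}(q)` with prescribed action (helper833, for S3502)

* `exists_gen` : elements from isometries of an arbitrary nondegenerate space of dimension `2m`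
* `exists_plus`, `exists_minus` : the cyclic tori of order `(q^m - 1)/2`, `(q^m + 1)/2`
* `three_of_type`, `special_three`, `cyc_three` : `Three` for subgroups missing a type of elements of order `r`
-/

set_option autoImplicit false
set_option linter.unusedSectionVars false

namespace Cfsg.Agent.H833.RS

open Cfsg Cfsg.Geo Cfsg.Agent.H439.Der Cfsg.Agent.LieClassical.OmegaReindex Cfsg.Agent.H377
open Cfsg.Agent.LieClassical.OrthCore QuadraticMap Module
open Cfsg.Agent.H884.El (PP pre)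
open Cfsg.Agent.H265.Der
open scoped MatrixGroups Matrix

/-- the index set -/
abbrev Ix (m : ℕ) := Unit ⊕ (Fin m ⊕ Fin m)

section gen

variable {F : Type} [Field F] [Fintype F]

/-- elements of `Ω_{2m+1}(q)` from isometries in dimension `2m` -/
theorem exists_gen (h2 : (2 : F) ≠ 0) {m : ℕ} (hm : 3 ≤ m) {V : Type*} [AddCommGroup V] [Module F V] [Finite V]
    {Q₁ : QuadraticForm F V} (hQ₁ : Nondeg Q₁) (hV : finrank F V = 2 * m) (S : Module.End F V)
    (hS : ∀ v, Q₁ (S v) = Q₁ v) {N : ℕ} (hN : ∀ j : ℕ, S ^ (2 * j) = 1 ↔ N ∣ j) :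
    ∃ (z : Omega F ⇑(quadOdd m F)) (e : (Ix m → F) ≃ₗ[F] V × F),
      orderOf (QuotientGroup.mk z : POmega F ⇑(quadOdd m F)) = N ∧
      ∀ (j : ℕ) (x : Ix m → F), e (ac (z ^ j) *ᵥ x) = ((S ^ (2 * j)) (e x).1, (e x).2) := by
  have : FiniteDimensional F V := Module.Finite.of_finite
  let Q₀ : QuadraticForm F F := QuadraticMap.sq
  have hQ₀ : Nondeg Q₀ := by
    intro x hx
    have h3 := hx 1
    simp only [polar, Q₀, QuadraticMap.sq_apply] at h3
    have h4 : 2 * x = 0 := by linear_combination h3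
    exact (mul_eq_zero.1 h4).resolve_left h2
  have hR : Nondeg (sumQ Q₁ Q₀) := sumQ_nondeg hQ₁ hQ₀
  have hfr : finrank F (V × F) = 2 * m + 1 := by
    rw [finrank_prod, finrank_self, hV]
  obtain ⟨c, e, hc, he⟩ := exists_similar_odd hfr (sumQ Q₁ Q₀) hR
  have hpow : ∀ j : ℕ, ((S.prodMap (1 : Module.End F F) : Module.End F _) ^ j) =
      ((S ^ j).prodMap (1 : Module.End F F) : Module.End F _) := by
    intro j
    rw [prodMap_pow', one_pow]
  have hneg : ∀ j : ℕ, ((S.prodMap (1 : Module.End F F) : Module.End F _) ^ j) ≠ -1 := by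
    intro j hj
    rw [hpow, prodMap_eq_neg_one_iff] at hj
    have h3 := LinearMap.congr_fun hj.2 (1 : F)
    change (1 : F) = -1 at h3
    apply h2
    linear_combination h3
  obtain ⟨z, hz1, hz2⟩ := exists_act (quadOdd m F) (H955.nondeg_iff.2 (quadOdd_nondegenerate h2))
    (by rw [H884.El.card_odd]; omega) (⇑(sumQ Q₁ Q₀)) e c hc (by rw [quadOdd_eq']; exact he)
    (S.prodMap (1 : Module.End F F)) (by
      intro v
      change Q₁ (S v.1) + Q₀ v.2 = Q₁ v.1 + Q₀ v.2
      rw [hS]) N (by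
      intro j
      rw [← hN, or_iff_left (hneg _), hpow, prodMap_eq_one_iff]
      exact and_iff_left rfl)
  refine ⟨z, e, hz1, fun j x => ?_⟩
  rw [hz2, LinearEquiv.apply_symm_apply, hpow, LinearMap.prodMap_apply]
  rfl

/-- powers equal to one -/
theorem pow_eq_one_of_gen {m : ℕ} {V : Type*} [AddCommGroup V] [Module F V] {S : Module.End F V}
    {z : Omega F ⇑(quadOdd m F)} {e : (Ix m → F) ≃ₗ[F] V × F} {j : ℕ}
    (hz : ∀ x : Ix m → F, e (ac (z ^ j) *ᵥ x) = ((S ^ (2 * j)) (e x).1, (e x).2)) (h : S ^ (2 * j) = 1) :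
    z ^ j = 1 := by
  apply eq_one_of_act
  intro x
  apply e.injective
  rw [hz, h]
  rfl

/-- the number of fixed vectors -/
theorem fixn_of_gen {m : ℕ} {V : Type*} [AddCommGroup V] [Module F V] {S : Module.End F V}
    {z : Omega F ⇑(quadOdd m F)} {e : (Ix m → F) ≃ₗ[F] V × F} {j : ℕ}
    (hz : ∀ x : Ix m → F, e (ac (z ^ j) *ᵥ x) = ((S ^ (2 * j)) (e x).1, (e x).2)) :
    fixn (z ^ j) = Nat.card {v : V // (S ^ (2 * j)) v = v} * Nat.card F := by
  rw [← Nat.card_prod]
  have hz3 : ∀ x : Ix m → F, ac (z ^ j) *ᵥ x = x ↔ (S ^ (2 * j)) (e x).1 = (e x).1 := by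
    intro x
    rw [← e.injective.eq_iff, hz]
    constructor
    · intro h
      exact congrArg Prod.fst h
    · intro h
      exact Prod.ext h rfl
  refine Nat.card_congr ((e.toEquiv.subtypeEquiv (q := fun v => (S ^ (2 * j)) v.1 = v.1) fun x => hz3 x).trans ?_)
  exact
    { toFun := fun v => (⟨v.1.1, v.2⟩, v.1.2)
      invFun := fun v => ⟨(v.1.1, v.2), v.1.2⟩
      left_inv := fun _ => rfl
      right_inv := fun _ => rfl }

/-- only the zero vector fixed -/
theorem fixn_of_gen' {m : ℕ} {V : Type*} [AddCommGroup V] [Module F V] {S : Module.End F V}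
    {z : Omega F ⇑(quadOdd m F)} {e : (Ix m → F) ≃ₗ[F] V × F} {j : ℕ}
    (hz : ∀ x : Ix m → F, e (ac (z ^ j) *ᵥ x) = ((S ^ (2 * j)) (e x).1, (e x).2))
    (h : ∀ v, (S ^ (2 * j)) v = v → v = 0) : fixn (z ^ j) = Nat.card F := by
  rw [fixn_of_gen hz]
  have : Unique {v : V // (S ^ (2 * j)) v = v} := ⟨⟨⟨0, map_zero _⟩⟩, fun v => Subtype.ext (h v.1 v.2)⟩
  rw [Nat.card_unique, one_mul]

end gen

section tor

variable {F : Type} [Field F] [Fintype F]

/-- nondegeneracy of trace forms -/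
theorem nondeg_trace {K : Type*} [Field K] [Finite K] [Algebra F K] {V : Type*} [AddCommGroup V] [Module F V]
    {Q : QuadraticForm F V} (B : V → V → K) (hB : ∀ x y, polar Q x y = Algebra.trace F K (B x y))
    (h : ∀ x, x ≠ 0 → ∃ f : K → V, ∀ c, B x (f c) = c) : Nondeg Q := by
  intro x hx
  by_contra hne
  obtain ⟨f, hf⟩ := h x hne
  obtain ⟨t, ht⟩ := Algebra.trace_surjective F K 1
  have h5 := hx (f t)
  rw [hB, hf, ht] at h5
  exact one_ne_zero h5

/-- **the torus of order `(q^m - 1)/2`** -/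
theorem exists_plus (h2 : (2 : F) ≠ 0) {m : ℕ} (hm : 3 ≤ m) {N : ℕ} (hN : 2 * N ∣ Nat.card F ^ m - 1) :
    ∃ (K : Type) (_ : Field K) (_ : Algebra F K) (z : Omega F ⇑(quadOdd m F)) (b : K) (i : K →ₗ[F] (Ix m → F)),
      orderOf (QuotientGroup.mk z : POmega F ⇑(quadOdd m F)) = N ∧ orderOf b = N ∧ Function.Injective i ∧
      (∀ x, ac z *ᵥ i x = i (b * x)) ∧ (∀ j, N ∣ j → z ^ j = 1) ∧ ∀ j, ¬ N ∣ j → fixn (z ^ j) = Nat.card F := by
  obtain ⟨p, _⟩ := CharP.exists F
  have : Fact p.Prime := ⟨CharP.char_is_prime F p⟩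
  have : NeZero m := ⟨by omega⟩
  let K := FiniteField.Extension F p m
  have hKc : Nat.card K = Nat.card F ^ m := FiniteField.natCard_extension F p m
  have hKf : finrank F K = m := FiniteField.finrank_extension F p m
  have hN0 : 0 < N := by
    rcases Nat.eq_zero_or_pos N with rfl | h
    · rw [mul_zero, zero_dvd_iff] at hN
      have : 1 < Nat.card F ^ m := Nat.one_lt_pow (by omega) Finite.one_lt_card
      omega
    · exact h
  obtain ⟨g, hg⟩ := IsCyclic.exists_ofOrder_eq_natCard (α := Kˣ)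
  rw [Nat.card_units, hKc] at hg
  obtain ⟨M', hM'⟩ := hN
  let a : Kˣ := g ^ M'
  have hM'0 : M' ≠ 0 := by
    rintro rfl
    have : 1 < Nat.card F ^ m := Nat.one_lt_pow (by omega) Finite.one_lt_card
    omega
  have ha : orderOf a = 2 * N := by
    change orderOf (g ^ M') = 2 * N
    rw [orderOf_pow_of_dvd hM'0 (by rw [hg, hM']; exact Dvd.intro_left _ rfl), hg, hM']
    exact Nat.mul_div_cancel _ (by omega)
  have hdiv : ∀ j, a ^ (2 * j) = 1 ↔ N ∣ j := by
    intro j
    rw [← orderOf_dvd_iff_pow_eq_one, ha]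
    exact Nat.mul_dvd_mul_iff_left (by norm_num)
  let Q₁ : QuadraticForm F (K × K) := (Algebra.trace F K).compQuadraticMap' (hypQ K)
  have hQ₁' : ∀ v, Q₁ v = Algebra.trace F K (v.1 * v.2) := fun v => rfl
  have hnd : Nondeg Q₁ := by
    refine nondeg_trace (F := F) (K := K) (fun x y => x.1 * y.2 + y.1 * x.2) (fun x y => ?_) fun x hx => ?_
    · rw [polar, hQ₁', hQ₁', hQ₁', ← map_sub, ← map_sub]
      congr 1
      rw [Prod.fst_add, Prod.snd_add]
      ring
    · by_cases h1 : x.1 = 0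
      · have h3 : x.2 ≠ 0 := fun h => hx (Prod.ext h1 h)
        exact ⟨fun c => (c / x.2, 0), fun c => by
          change x.1 * 0 + c / x.2 * x.2 = c
          rw [div_mul_cancel₀ _ h3, mul_zero, zero_add]⟩
      · exact ⟨fun c => (0, c / x.1), fun c => by
          change x.1 * (c / x.1) + 0 * x.2 = c
          rw [mul_div_cancel₀ _ h1, zero_mul, add_zero]⟩
  let S : Module.End F (K × K) := (LinearMap.mulLeft F (a : K)).prodMap (LinearMap.mulLeft F ((a⁻¹ : Kˣ) : K))
  have hSj : ∀ (j : ℕ) (v : K × K), (S ^ j) v = (((a ^ j : Kˣ) : K) * v.1, (((a ^ j)⁻¹ : Kˣ) : K) * v.2) := by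
    intro j
    induction j with
    | zero => intro v; simp
    | succ k ih =>
      intro v
      rw [pow_succ, Module.End.mul_apply, ih]
      change (((a ^ k : Kˣ) : K) * ((a : K) * v.1), (((a ^ k)⁻¹ : Kˣ) : K) * (((a⁻¹ : Kˣ) : K) * v.2)) = _
      rw [pow_succ, mul_inv_rev, Units.val_mul, Units.val_mul, mul_assoc]
      congr 1
      rw [mul_comm ((a⁻¹ : Kˣ) : K) (((a ^ k)⁻¹ : Kˣ) : K), mul_assoc]
  have hSQ : ∀ v, Q₁ (S v) = Q₁ v := by
    intro v
    have h := hSj 1 v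
    rw [pow_one] at h
    rw [h, hQ₁', hQ₁', pow_one]
    congr 1
    have h1 : (a : K) * ((a⁻¹ : Kˣ) : K) = 1 := Units.mul_inv a
    linear_combination v.1 * v.2 * h1
  have hS1 : ∀ j, S ^ (2 * j) = 1 ↔ N ∣ j := by
    intro j
    rw [← hdiv]
    constructor
    · intro h
      have h1 := hSj (2 * j) (1, 0)
      rw [h] at h1
      have h2 := congrArg Prod.fst h1
      simp only [mul_one] at h2
      exact Units.ext h2.symm
    · intro h
      refine LinearMap.ext fun v => ?_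
      rw [hSj, h]
      simp
  obtain ⟨z, e, hz, hze⟩ := exists_gen h2 hm hnd (by rw [finrank_prod, hKf]; ring) S hSQ hS1
  let i : K →ₗ[F] (Ix m → F) := (e.symm : _ →ₗ[F] _).comp ((LinearMap.inl F (K × K) F).comp (LinearMap.inl F K K))
  have hi : ∀ x, i x = e.symm ((x, 0), 0) := fun _ => rfl
  refine ⟨K, inferInstance, inferInstance, z, ((a ^ 2 : Kˣ) : K), i, hz, ?_, ?_, ?_, fun j hj => ?_, fun j hj => ?_⟩
  · rw [orderOf_units, orderOf_pow_of_dvd (by norm_num) (by rw [ha]; exact Dvd.intro _ rfl), ha]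
    exact Nat.mul_div_cancel_left _ (by norm_num)
  · intro x y hxy
    rw [hi, hi] at hxy
    exact congrArg (fun v : (K × K) × F => v.1.1) (e.symm.injective hxy)
  · intro x
    apply e.injective
    have h1 := hze 1 (i x)
    rw [pow_one, mul_one, hi, LinearEquiv.apply_symm_apply, hSj] at h1
    rw [hi, h1, hi, LinearEquiv.apply_symm_apply]
    simp
  · exact pow_eq_one_of_gen (hze j) ((hS1 j).2 hj)
  · refine fixn_of_gen' (hze j) fun v hv => ?_
    rw [hSj] at hv
    have h1 : a ^ (2 * j) ≠ 1 := fun h => hj ((hdiv j).1 h)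
    have h3 : ((a ^ (2 * j) : Kˣ) : K) ≠ 1 := fun h => h1 (Units.ext h)
    have h4 : (((a ^ (2 * j))⁻¹ : Kˣ) : K) ≠ 1 := fun h => h1 (inv_eq_one.1 (Units.ext h))
    refine Prod.ext ?_ ?_
    · have h5 := congrArg Prod.fst hv
      change ((a ^ (2 * j) : Kˣ) : K) * v.1 = v.1 at h5
      by_contra h6
      exact h3 (mul_right_cancel₀ h6 (by rw [h5, one_mul]))
    · have h5 := congrArg Prod.snd hv
      change (((a ^ (2 * j))⁻¹ : Kˣ) : K) * v.2 = v.2 at h5
      by_contra h6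
      exact h4 (mul_right_cancel₀ h6 (by rw [h5, one_mul]))

/-- **the torus of order `(q^m + 1)/2`** -/
theorem exists_minus (h2 : (2 : F) ≠ 0) {m : ℕ} (hm : 3 ≤ m) {N : ℕ} (hN : 2 * N ∣ Nat.card F ^ m + 1) :
    ∃ (K : Type) (_ : Field K) (_ : Algebra F K) (z : Omega F ⇑(quadOdd m F)) (b : K) (i : K →ₗ[F] (Ix m → F)),
      orderOf (QuotientGroup.mk z : POmega F ⇑(quadOdd m F)) = N ∧ orderOf b = N ∧ Function.Injective i ∧
      (∀ x, ac z *ᵥ i x = i (b * x)) ∧ ∀ j, N ∣ j → z ^ j = 1 := by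
  obtain ⟨p, _⟩ := CharP.exists F
  have : Fact p.Prime := ⟨CharP.char_is_prime F p⟩
  have : NeZero (2 * m) := ⟨by omega⟩
  let K := FiniteField.Extension F p (2 * m)
  have hKc : Nat.card K = Nat.card F ^ (2 * m) := FiniteField.natCard_extension F p (2 * m)
  have hKf : finrank F K = 2 * m := FiniteField.finrank_extension F p (2 * m)
  have hq1 : 1 < Nat.card F ^ m := Nat.one_lt_pow (by omega) Finite.one_lt_card
  have hN0 : 0 < N := by
    rcases Nat.eq_zero_or_pos N with rfl | h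
    · rw [mul_zero, zero_dvd_iff] at hN
      omega
    · exact h
  have hfac : Nat.card F ^ (2 * m) - 1 = (Nat.card F ^ m + 1) * (Nat.card F ^ m - 1) := by
    rw [mul_comm 2 m, pow_mul, ← Nat.sq_sub_sq, one_pow]
  obtain ⟨g, hg⟩ := IsCyclic.exists_ofOrder_eq_natCard (α := Kˣ)
  rw [Nat.card_units, hKc, hfac] at hg
  obtain ⟨M', hM'⟩ := id hN
  have hM'0 : M' * (Nat.card F ^ m - 1) ≠ 0 := by
    refine mul_ne_zero ?_ (by omega)
    rintro rfl
    omega
  let a : Kˣ := g ^ (M' * (Nat.card F ^ m - 1))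
  have ha : orderOf a = 2 * N := by
    change orderOf (g ^ (M' * (Nat.card F ^ m - 1))) = 2 * N
    have h1 : orderOf g = 2 * N * (M' * (Nat.card F ^ m - 1)) := by rw [hg, hM', mul_assoc]
    rw [orderOf_pow_of_dvd hM'0 (by rw [h1]; exact Dvd.intro_left _ rfl), h1]
    exact Nat.mul_div_cancel _ (by omega)
  have hdiv : ∀ j, a ^ (2 * j) = 1 ↔ N ∣ j := by
    intro j
    rw [← orderOf_dvd_iff_pow_eq_one, ha]
    exact Nat.mul_dvd_mul_iff_left (by norm_num)
  have hnorm : a ^ (Nat.card F ^ m + 1) = 1 := by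
    rw [← orderOf_dvd_iff_pow_eq_one, ha]
    exact hN
  have hK2 : (2 : K) ≠ 0 := by
    intro h
    apply h2
    apply (algebraMap F K).injective
    rw [map_zero, map_ofNat]
    exact h
  let τ : K ≃ₐ[F] K := (FiniteField.frobeniusAlgEquivOfAlgebraic F K) ^ m
  have hτ : ∀ x, τ x = x ^ (Nat.card F ^ m) := by
    intro x
    change ((FiniteField.frobeniusAlgEquivOfAlgebraic F K) ^ m) x = _
    rw [AlgEquiv.coe_pow, FiniteField.coe_frobeniusAlgEquivOfAlgebraic_iterate, Nat.card_eq_fintype_card]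
  have hττ : ∀ x, τ (τ x) = x := by
    intro x
    let _ := Fintype.ofFinite K
    rw [hτ, hτ, ← pow_mul, ← pow_add, ← two_mul, ← hKc, Nat.card_eq_fintype_card]
    exact FiniteField.pow_card x
  have hTr : ∀ x, Algebra.trace F K (τ x) = Algebra.trace F K x := fun x => Algebra.trace_eq_of_algEquiv τ x
  let Q₁ : QuadraticForm F K := (Algebra.trace F K).compQuadraticMap
    (QuadraticMap.linMulLin (LinearMap.id : K →ₗ[F] K) (τ : K →ₗ[F] K))
  have hQ₁' : ∀ v, Q₁ v = Algebra.trace F K (v * τ v) := fun v => rfl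
  have hnd : Nondeg Q₁ := by
    refine nondeg_trace (F := F) (K := K) (fun x y => 2 * (x * τ y)) (fun x y => ?_) fun x hx => ?_
    · rw [polar, hQ₁', hQ₁', hQ₁', ← map_sub, ← map_sub]
      have h3 : Algebra.trace F K (y * τ x) = Algebra.trace F K (x * τ y) := by
        rw [← hTr, map_mul, hττ]
        exact congrArg _ (mul_comm _ _)
      have h4 : (x + y) * τ (x + y) - x * τ x - y * τ y = x * τ y + y * τ x := by
        rw [map_add]
        ring
      rw [h4, map_add, h3, ← map_add]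
      exact congrArg _ (two_mul (x * τ y)).symm
    · refine ⟨fun c => τ (c / (2 * x)), fun c => ?_⟩
      change 2 * (x * τ (τ (c / (2 * x)))) = c
      rw [hττ, ← mul_assoc]
      exact mul_div_cancel₀ c (mul_ne_zero hK2 hx)
  let S : Module.End F K := LinearMap.mulLeft F (a : K)
  have hSj : ∀ (j : ℕ) (v : K), (S ^ j) v = ((a ^ j : Kˣ) : K) * v := by
    intro j
    induction j with
    | zero => intro v; simp
    | succ k ih =>
      intro v
      rw [pow_succ, Module.End.mul_apply, ih]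
      change ((a ^ k : Kˣ) : K) * ((a : K) * v) = _
      rw [pow_succ, Units.val_mul, mul_assoc]
  have hSQ : ∀ v, Q₁ (S v) = Q₁ v := by
    intro v
    have h := hSj 1 v
    rw [pow_one] at h
    rw [h, hQ₁', hQ₁', pow_one]
    congr 1
    have h1 : (a : K) * τ (a : K) = 1 := by
      rw [hτ, ← pow_succ', ← Units.val_pow_eq_pow_val, hnorm, Units.val_one]
    rw [map_mul]
    linear_combination v * τ v * h1
  have hS1 : ∀ j, S ^ (2 * j) = 1 ↔ N ∣ j := by
    intro j
    rw [← hdiv]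
    constructor
    · intro h
      have h1 := hSj (2 * j) 1
      rw [h, mul_one] at h1
      exact Units.ext h1.symm
    · intro h
      refine LinearMap.ext fun v => ?_
      rw [hSj, h]
      simp
  obtain ⟨z, e, hz, hze⟩ := exists_gen h2 hm hnd hKf S hSQ hS1
  let i : K →ₗ[F] (Ix m → F) := (e.symm : _ →ₗ[F] _).comp (LinearMap.inl F K F)
  have hi : ∀ x, i x = e.symm (x, 0) := fun _ => rfl
  refine ⟨K, inferInstance, inferInstance, z, ((a ^ 2 : Kˣ) : K), i, hz, ?_, ?_, ?_, fun j hj => ?_⟩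
  · rw [orderOf_units, orderOf_pow_of_dvd (by norm_num) (by rw [ha]; exact Dvd.intro _ rfl), ha]
    exact Nat.mul_div_cancel_left _ (by norm_num)
  · intro x y hxy
    rw [hi, hi] at hxy
    exact congrArg Prod.fst (e.symm.injective hxy)
  · intro x
    apply e.injective
    have h1 := hze 1 (i x)
    rw [pow_one, mul_one, hi, LinearEquiv.apply_symm_apply, hSj] at h1
    rw [hi, h1, hi, LinearEquiv.apply_symm_apply]
  · exact pow_eq_one_of_gen (hze j) ((hS1 j).2 hj)

end tor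

end Cfsg.Agent.H833.RS
end

-- part: H205/Der/RowS
section
set_option linter.all false
open scoped Cfsg.Agent.FastGrp

/-!
# `RowS (PSL_n(q))` (helper205, S3502)

`n ≥ 3`, except `L3(2)`, `L3(4)`, `L4(2)`.
-/

set_option autoImplicit false

namespace Cfsg.Agent.H205.DerPsl

open Subgroup Matrix Cfsg Cfsg.Agent.H39.DerPsl Cfsg.Agent.H439.Der Cfsg.Agent.OrdDiv Cfsg.Agent.H938.Sax

variable (tab : OrderTable.{0}) (hK : ∀ (X : Type) [Group X] [Finite X] [IsSimpleGroup X], Cfsg.IsKnownSimple' X)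

include tab hK

/-- **The strong row for `PSL_n(q)`, `n ≥ 3`.** -/
theorem rowS_psl {F : Type} [Field F] [Fintype F] {n : ℕ} (hn : 3 ≤ n)
    (hex : (n, Fintype.card F) ∉ ({(3, 2), (3, 4), (4, 2)} : Finset (ℕ × ℕ))) :
    RowS (Matrix.ProjectiveSpecialLinearGroup (Fin n) F) := by
  have hfin : Finite (Matrix.ProjectiveSpecialLinearGroup (Fin n) F) := finite_psl
  by_cases h33 : n = 3 ∧ Fintype.card F = 3
  · obtain ⟨rfl, hF⟩ := h33
    have h1 : RowS P3 := P3.row fun M hM => pgap_psl tab hK (by norm_num) (by norm_num) (by norm_num) M hM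
    exact RowS.congr (SporadicA.FieldFour.pslCongr (FiniteField.ringEquivOfCardEq ((ZMod.card 3).trans hF.symm))) h1
  refine RowS.of_three fun M hM => ?_
  by_cases h62 : n = 6 ∧ Fintype.card F = 2
  · obtain ⟨rfl, hF⟩ := h62
    exact three_l62 tab hK hF M hM.1
  have h42 : ¬ (n = 4 ∧ Fintype.card F = 2) := by
    rintro ⟨rfl, hF⟩
    apply hex
    rw [hF]
    decide
  obtain ⟨v, hv, hd, hnd⟩ := pgap_psl tab hK hn h42 h62 M hM
  by_cases hx : (n, Fintype.card F, v) ∈ ({(3, 3, 13), (4, 3, 13), (5, 2, 5), (3, 7, 3)} : Finset (ℕ × ℕ × ℕ))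
  · simp only [Finset.mem_insert, Finset.mem_singleton, Prod.mk.injEq] at hx
    rcases hx with ⟨rfl, hF, rfl⟩ | ⟨rfl, hF, rfl⟩ | ⟨rfl, hF, rfl⟩ | ⟨rfl, hF, rfl⟩
    · exact absurd ⟨rfl, hF⟩ h33
    · exact three_l43 tab hK hF M hnd
    · exact three_l52 tab hK hF M hnd
    · exact three_l37 tab hK hF M hnd
  · exact three_of_gap hn hex hv hd hx M hnd

end Cfsg.Agent.H205.DerPsl
end

-- part: H205/Der/RowS_mg
section

end
end

-- part: H547/Der/OctM
section
set_option linter.all false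
open scoped Cfsg.Agent.FastGrp

-- part: H547/Der/OctL
section
/-!
# Quadratic space with 256 vectors: orthogonal complements, invariant totally singular subspaces (helper547, for S3502)
-/

set_option autoImplicit false

namespace Cfsg.Agent.H547.Der.Oc

open MulAction Subgroup

variable {G V : Type*} [Group G] [AddCommGroup V] [DistribMulAction G V] {q : V → ZMod 2}

namespace Oct

/-- orthogonal complement -/
def perp (A : Oct G V q) (R : AddSubgroup V) : AddSubgroup V where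
  carrier := {v | ∀ w ∈ R, pol q v w = 0}
  add_mem' := fun {a b} ha hb c hc => by rw [A.add, ha c hc, hb c hc, add_zero]
  zero_mem' := fun c _ => A.pol_zero_left c
  neg_mem' := fun {a} ha c hc => by rw [A.neg]; exact ha c hc

variable (A : Oct G V q)

include A

/-- `|R| |R^⊥| = 256` -/
theorem card_perp (R : AddSubgroup V) : Nat.card R * Nat.card (A.perp R) = 256 := by
  have hfin := A.fin
  let : Module (ZMod 2) V := AddCommGroup.zmodModule (n := 2) fun x => by rw [two_smul]; exact A.two x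
  have hfd : FiniteDimensional (ZMod 2) V := Module.Finite.of_finite
  let B : LinearMap.BilinForm (ZMod 2) V :=
    { toFun := fun u => (AddMonoidHom.toZModLinearMap 2
        { toFun := fun v => pol q u v
          map_zero' := A.pol_zero_right u
          map_add' := fun a b => A.add_right u a b } : V →ₗ[ZMod 2] ZMod 2)
      map_add' := fun a b => LinearMap.ext fun v => A.add a b v
      map_smul' := fun c u => LinearMap.ext fun v => by
        have h : c = 0 ∨ c = 1 := by revert c; decide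
        rcases h with rfl | rfl
        · rw [RingHom.id_apply, LinearMap.smul_apply]
          show pol q ((0 : ZMod 2) • u) v = (0 : ZMod 2) • pol q u v
          rw [zero_smul, zero_smul, A.pol_zero_left]
        · rw [RingHom.id_apply, LinearMap.smul_apply]
          show pol q ((1 : ZMod 2) • u) v = (1 : ZMod 2) • pol q u v
          rw [one_smul, one_smul] }
  have hB : ∀ u v : V, B u v = pol q u v := fun _ _ => rfl
  have hr : B.IsRefl := fun u v h => by rw [hB, pol_comm]; exact h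
  have hnd : B.Nondegenerate := by
    refine ⟨fun u h => A.nd u h, fun u h => A.nd u fun v => ?_⟩
    rw [pol_comm]
    exact h v
  set W := AddSubgroup.toZModSubmodule 2 R with hW
  have h1 := LinearMap.BilinForm.finrank_orthogonal hnd W
  have h2 : Module.finrank (ZMod 2) V = 8 := by
    have h3 := Module.natCard_eq_pow_finrank (K := ZMod 2) (V := V)
    rw [A.card, Nat.card_zmod] at h3
    have h4 : (2 : ℕ) ^ 8 = 2 ^ Module.finrank (ZMod 2) V := by rw [← h3]; norm_num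
    exact (Nat.pow_right_injective (le_refl 2) h4).symm
  have h3 : Module.finrank (ZMod 2) W ≤ 8 := by rw [← h2]; exact Submodule.finrank_le W
  have h4 : Nat.card R = 2 ^ Module.finrank (ZMod 2) W := by
    have h5 := Module.natCard_eq_pow_finrank (K := ZMod 2) (V := W)
    rw [Nat.card_zmod] at h5
    exact h5
  have h5 : Nat.card (A.perp R) = 2 ^ Module.finrank (ZMod 2) (B.orthogonal W) := by
    have h6 := Module.natCard_eq_pow_finrank (K := ZMod 2) (V := B.orthogonal W)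
    rw [Nat.card_zmod] at h6
    rw [← h6]
    refine Nat.card_congr (Equiv.subtypeEquivRight fun v => ?_)
    constructor
    · intro h w hw
      show B w v = 0
      rw [hB, pol_comm]
      exact h w hw
    · intro h w hw
      have h7 : B w v = 0 := h w hw
      rw [hB, pol_comm] at h7
      exact h7
  rw [h4, h5, h1, h2, ← pow_add, show Module.finrank (ZMod 2) W + (8 - Module.finrank (ZMod 2) W) = 8 by omega]
  norm_num

omit A in
theorem pol_zero_of_ts {R : AddSubgroup V} (h : ∀ u ∈ R, q u = 0) : ∀ u ∈ R, ∀ w ∈ R, pol q u w = 0 := by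
  intro u hu w hw
  unfold pol
  rw [h _ (R.add_mem hu hw), h u hu, h w hw]
  rfl

theorem perp_anti {R S : AddSubgroup V} (h : R ≤ S) : A.perp S ≤ A.perp R := fun _ hv w hw => hv w (h hw)

theorem fx_eq_perp (g : G) : fx V g = A.perp (cm V g) := by
  have hfin := A.fin
  have h1 := A.card_mul g
  have h2 := A.card_perp (cm V g)
  have h0 : 0 < Nat.card (cm V g) := Nat.card_pos
  have h3 : Nat.card (fx V g) = Nat.card (A.perp (cm V g)) := by
    rw [mul_comm] at h1
    exact Nat.eq_of_mul_eq_mul_left h0 (h1.trans h2.symm)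
  exact AddSubgroup.eq_of_le_of_card_ge (fun v hv w hw => A.pol_fx_cm hv hw) h3.symm.le

theorem smul_mem_perp {R : AddSubgroup V} {g : G} (h : ∀ v ∈ R, g⁻¹ • v ∈ R) {v : V} (hv : v ∈ A.perp R) :
    g • v ∈ A.perp R := by
  intro w hw
  have h1 := hv _ (h w hw)
  rwa [← A.pol_smul g, smul_inv_smul] at h1

/-- totally singular subspaces invariant under a cube of an element of order 9 -/
theorem ts_card {c : G} (hc : orderOf c = 3) (h4 : Nat.card (fx V c) = 4) (hs : ∀ v ∈ fx V c, q v = 0 → v = 0)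
    {U : AddSubgroup V} (hU : ∀ u ∈ U, q u = 0) (hinv : ∀ u ∈ U, c • u ∈ U) : Nat.card U = 1 ∨ Nat.card U = 4 := by
  have hfin := A.fin
  have hti := pol_zero_of_ts hU
  have h16 := A.iso_le U hti
  have hc3 := A.pow_three hc
  have hb : (U ⊓ fx V c : AddSubgroup V) = ⊥ := by
    rw [eq_bot_iff]
    intro v hv
    exact hs v hv.2 (hU v hv.1)
  have h1 := A.card_mod (by norm_num) hc U hinv
  rw [hb, AddSubgroup.card_bot] at h1
  obtain ⟨k, hk, hk2⟩ := A.exists_card U
  rw [hk2] at h1 h16 ⊢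
  have hk3 : k = 0 ∨ k = 2 ∨ k = 4 := by
    unfold Nat.ModEq at h1
    interval_cases k <;> first | exact Or.inl rfl | exact Or.inr (Or.inl rfl) | exact Or.inr (Or.inr rfl) |
      (exfalso; omega)
  rcases hk3 with rfl | rfl | rfl
  · exact Or.inl rfl
  · exact Or.inr rfl
  exfalso
  -- `U` is maximal
  have hUc : U ≤ cm V c := by
    intro u hu
    refine mem_cm.2 ⟨c • u, ?_⟩
    have h2 : u + c • u + c • c • u ∈ (U ⊓ fx V c : AddSubgroup V) := by
      refine ⟨U.add_mem (U.add_mem hu (hinv u hu)) (hinv _ (hinv u hu)), ?_⟩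
      show c • (u + c • u + c • c • u) = u + c • u + c • c • u
      rw [smul_add, smul_add]
      have h3 : c • c • c • u = u := by rw [smul_smul, smul_smul, ← pow_two, ← pow_succ, hc3, one_smul]
      rw [h3]
      abel
    rw [hb] at h2
    have h3 : u + c • u + c • c • u = 0 := h2
    calc c • c • u + c • u = (u + c • u + c • c • u) + u + (- (u + u)) := by abel
      _ = u := by rw [h3, A.two, zero_add, neg_zero, add_zero]
  have hUp : A.perp U = U := by
    have h2 := A.card_perp U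
    rw [hk2] at h2
    have h3 : U ≤ A.perp U := fun u hu w hw => hti u hu w hw
    exact (AddSubgroup.eq_of_le_of_card_ge h3 (by rw [hk2]; omega)).symm
  have h5 : fx V c ≤ U := by
    rw [← hUp, A.fx_eq_perp]
    exact A.perp_anti hUc
  have h6 : fx V c = ⊥ := by
    rw [eq_bot_iff, ← hb]
    exact fun v hv => ⟨h5 hv, hv⟩
  rw [h6, AddSubgroup.card_bot] at h4
  norm_num at h4

/-- the sign changes in a coset -/
theorem card_flip {S : Set V} {u : V} (hq : q u = 0) (hS : ∀ v ∈ S, pol q v u ≠ 0) (hu : ∀ v ∈ S, v + u ∈ S) :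
    2 * Nat.card {v : V | v ∈ S ∧ q v = 0} = Nat.card S := by
  have hfin := A.fin
  have hz : ∀ a b : ZMod 2, b ≠ 0 → (a + 0 + b = 0 ↔ a ≠ 0) := by decide
  have h1 : Nat.card {v : V | v ∈ S ∧ q v = 0} = Nat.card {v : V | v ∈ S ∧ q v ≠ 0} := by
    refine Nat.card_congr
      { toFun := fun v => ⟨v + u, hu v v.2.1, ?_⟩
        invFun := fun v => ⟨v + u, hu v v.2.1, ?_⟩
        left_inv := fun v => Subtype.ext (by
          show (v : V) + u + u = v
          rw [add_assoc, A.two, add_zero])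
        right_inv := fun v => Subtype.ext (by
          show (v : V) + u + u = v
          rw [add_assoc, A.two, add_zero]) }
    · rw [q_add (q := q), hq]
      intro h
      exact (hz _ _ (hS v v.2.1)).1 h v.2.2
    · rw [q_add (q := q), hq]
      exact (hz _ _ (hS v v.2.1)).2 v.2.2
  have h2 : Nat.card {v : V | v ∈ S ∧ q v = 0} + Nat.card {v : V | v ∈ S ∧ q v ≠ 0} = Nat.card S := by
    rw [Nat.card_coe_set_eq, Nat.card_coe_set_eq, Nat.card_coe_set_eq, ← Set.ncard_union_eq]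
    · congr 1
      ext v
      simp only [Set.mem_union, Set.mem_ofPred_eq]
      (clear * -; tauto)
    · rw [Set.disjoint_left]
      rintro v ⟨-, h⟩ ⟨-, h'⟩
      exact h' h
  omega

/-- **no element of order 5 leaves a totally singular subspace of order 4 invariant** -/
theorem no_line5 {y : G} (hy : orderOf y = 5) {U : AddSubgroup V} (hU : ∀ u ∈ U, q u = 0) (h4 : Nat.card U = 4)
    (hinv : ∀ u ∈ U, y • u ∈ U) : False := by
  have hfin := A.fin
  have hti := pol_zero_of_ts hU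
  have hy5 := A.pow_five hy
  have hUf : U ≤ fx V y := by
    have h1 := A.card_mod (by norm_num) hy U hinv
    rw [h4] at h1
    have h2 : Nat.card (U ⊓ fx V y : AddSubgroup V) ≤ 4 := by
      rw [← h4]
      exact AddSubgroup.card_le_of_le inf_le_left
    have h3 : Nat.card (U ⊓ fx V y : AddSubgroup V) = 4 := by
      unfold Nat.ModEq at h1
      omega
    have h5 : (U ⊓ fx V y : AddSubgroup V) = U := AddSubgroup.eq_of_le_of_card_ge inf_le_left (by rw [h3, h4])
    rw [← h5]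
    exact inf_le_right
  have hF : Nat.card (fx V y) = 16 := by
    rcases A.fx_five hy with h | h
    · have := AddSubgroup.card_le_of_le hUf
      omega
    · exact h
  have hC : Nat.card (cm V y) = 16 := by
    have := A.card_mul y
    rw [hF] at this
    omega
  have hP : Nat.card (A.perp U) = 64 := by
    have := A.card_perp U
    rw [h4] at this
    omega
  have hUP : U ≤ A.perp U := fun u hu w hw => hti u hu w hw
  have hCP : cm V y ≤ A.perp U := fun v hv w hw => by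
    rw [pol_comm]
    exact A.pol_fx_cm (hUf hw) hv
  -- the fixed vectors in `U^⊥`
  have hfix : ∀ v ∈ A.perp U, y • v = v → v ∈ U := by
    have h1 : (U ⊔ cm V y : AddSubgroup V) = A.perp U := by
      refine AddSubgroup.eq_of_le_of_card_ge (sup_le hUP hCP) ?_
      rw [hP]
      have h2 : Nat.card (U × cm V y) ≤ Nat.card (U ⊔ cm V y : AddSubgroup V) := by
        refine Nat.card_le_card_of_injective (fun p => ⟨(p.1 : V) + p.2, AddSubgroup.add_mem _
          (AddSubgroup.mem_sup_left p.1.2) (AddSubgroup.mem_sup_right p.2.2)⟩) ?_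
        rintro ⟨⟨a, ha⟩, ⟨b, hb⟩⟩ ⟨⟨c, hc⟩, ⟨d, hd⟩⟩ h
        have h3 : a + b = c + d := congrArg Subtype.val h
        have h5 : a - c = d - b := by
          rw [sub_eq_sub_iff_add_eq_add, h3, add_comm]
        have h6 : a - c = 0 := A.fx_inf_cm hy5 (by norm_num) ((fx V y).sub_mem (hUf ha) (hUf hc))
          (by rw [h5]; exact (cm V y).sub_mem hd hb)
        have h7 : d - b = 0 := by rw [← h5, h6]
        simp only [Prod.mk.injEq, Subtype.mk.injEq]
        exact ⟨sub_eq_zero.1 h6, (sub_eq_zero.1 h7).symm⟩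
      rw [Nat.card_prod, h4, hC] at h2
      exact h2
    intro v hv hyv
    rw [← h1] at hv
    obtain ⟨a, ha, b, hb, rfl⟩ := AddSubgroup.mem_sup.1 hv
    have h2 : b = 0 := by
      refine A.fx_inf_cm hy5 (by norm_num) ?_ hb
      have h3 : (a + b) - a ∈ fx V y := (fx V y).sub_mem hyv (hUf ha)
      rwa [add_sub_cancel_left] at h3
    rw [h2, add_zero]
    exact ha
  -- two vectors
  obtain ⟨u1, hu1, hu10⟩ : ∃ u1 ∈ U, u1 ≠ 0 := by
    by_contra hcon
    push Not at hcon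
    have h1 : U = ⊥ := by
      rw [eq_bot_iff]
      exact fun v hv => hcon v hv
    rw [h1, AddSubgroup.card_bot] at h4
    norm_num at h4
  set Z := AddSubgroup.zmultiples u1 with hZ
  have hZm : ∀ w ∈ Z, w = 0 ∨ w = u1 := by
    intro w hw
    obtain ⟨n, rfl⟩ := AddSubgroup.mem_zmultiples_iff.1 hw
    rcases Int.even_or_odd n with ⟨m, rfl⟩ | ⟨m, rfl⟩
    · left
      rw [add_smul, ← smul_add, A.two, smul_zero]
    · right
      rw [add_smul, one_smul, mul_comm, mul_smul, two_smul, A.two, smul_zero, zero_add]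
  have hZc : Nat.card Z = 2 := by
    have h1 : (Z : Set V) = {0, u1} := by
      ext w
      constructor
      · exact hZm w
      · rintro (rfl | rfl)
        · exact Z.zero_mem
        · exact AddSubgroup.mem_zmultiples _
    have h2 : Nat.card Z = Nat.card (Z : Set V) := rfl
    rw [h2, h1, Nat.card_coe_set_eq, Set.ncard_pair hu10.symm]
  have hPZ : Nat.card (A.perp Z) = 128 := by
    have := A.card_perp Z
    rw [hZc] at this
    omega
  have hZU : Z ≤ U := by
    rw [hZ, AddSubgroup.zmultiples_le]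
    exact hu1
  have hPP : A.perp U ≤ A.perp Z := A.perp_anti hZU
  have hmZ : ∀ v, v ∈ A.perp Z ↔ pol q v u1 = 0 := by
    intro v
    constructor
    · intro h; exact h u1 (AddSubgroup.mem_zmultiples _)
    · intro h w hw
      rcases hZm w hw with rfl | rfl
      · exact A.pol_zero_right v
      · exact h
  obtain ⟨u2, hu2, hu2Z⟩ : ∃ u2 ∈ U, u2 ∉ Z := by
    by_contra hcon
    push Not at hcon
    have := AddSubgroup.card_le_of_le (show U ≤ Z from hcon)
    omega
  have hmU : ∀ v, v ∈ A.perp Z → pol q v u2 = 0 → v ∈ A.perp U := by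
    intro v hv h2
    -- `U = Z ∪ (u2 + Z)`
    have h3 : A.perp Z ⊓ A.perp (AddSubgroup.zmultiples u2) ≤ A.perp U := by
      have h5 : (Z ⊔ AddSubgroup.zmultiples u2 : AddSubgroup V) = U := by
        refine AddSubgroup.eq_of_le_of_card_ge (sup_le hZU (by rw [AddSubgroup.zmultiples_le]; exact hu2)) ?_
        rw [h4]
        have h6 : Z < Z ⊔ AddSubgroup.zmultiples u2 := lt_of_le_of_ne le_sup_left fun h => hu2Z (by
          rw [h]; exact AddSubgroup.mem_sup_right (AddSubgroup.mem_zmultiples u2))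
        have h7 : Nat.card Z < Nat.card (Z ⊔ AddSubgroup.zmultiples u2 : AddSubgroup V) :=
          Set.ncard_lt_ncard (SetLike.coe_ssubset_coe.2 h6) (Set.toFinite _)
        obtain ⟨k, hk, hk2⟩ := A.exists_card (Z ⊔ AddSubgroup.zmultiples u2)
        rw [hk2, hZc] at h7
        rw [hk2]
        by_contra hcon
        push Not at hcon
        have : k < 2 := by
          by_contra h8
          push Not at h8
          have : 2 ^ 2 ≤ 2 ^ k := Nat.pow_le_pow_right (by norm_num) h8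
          omega
        interval_cases k <;> omega
      rintro w ⟨hw1, hw2⟩ x hx
      rw [← h5] at hx
      obtain ⟨a, ha, b, hb, rfl⟩ := AddSubgroup.mem_sup.1 hx
      rw [A.add_right, hw1 a ha, hw2 b hb, add_zero]
    refine h3 ⟨hv, ?_⟩
    intro w hw
    obtain ⟨n, rfl⟩ := AddSubgroup.mem_zmultiples_iff.1 hw
    rcases Int.even_or_odd n with ⟨m, rfl⟩ | ⟨m, rfl⟩
    · rw [add_smul, ← smul_add, A.two, smul_zero]
      exact A.pol_zero_right v
    · rw [add_smul, one_smul, mul_comm, mul_smul, two_smul, A.two, smul_zero, zero_add]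
      exact h2
  -- counting
  have c1 := A.card_flip (S := {v : V | v ∉ A.perp Z}) (u := u1) (hU _ hu1) (fun v hv h => hv ((hmZ v).2 h))
    (fun v hv h => hv ((hmZ v).2 (by
      have h1 := (hmZ _).1 h
      rw [A.add, A.pol_self, add_zero] at h1
      exact h1)))
  have c2 := A.card_flip (S := {v : V | v ∈ A.perp Z ∧ v ∉ A.perp U}) (u := u2) (hU _ hu2)
    (fun v hv h => hv.2 (hmU v hv.1 h)) (fun v hv => ⟨(A.perp Z).add_mem hv.1 (hPP (hUP hu2)), fun h => hv.2 (by
      have h1 := (A.perp U).sub_mem h (hUP hu2)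
      rwa [add_sub_cancel_right] at h1)⟩)
  have n1 : Nat.card ({v : V | v ∉ A.perp Z} : Set V) = 128 := by
    have h1 := A.card_compl (A.perp Z)
    rw [hPZ] at h1
    exact h1
  have n2 : Nat.card ({v : V | v ∈ A.perp Z ∧ v ∉ A.perp U} : Set V) = 64 := by
    have h1 : ({v : V | v ∈ A.perp Z ∧ v ∉ A.perp U} : Set V) = (A.perp Z : Set V) \ (A.perp U : Set V) := rfl
    rw [h1, Nat.card_coe_set_eq, Set.ncard_sdiff (SetLike.coe_subset_coe.2 hPP), ← Nat.card_coe_set_eq,
      ← Nat.card_coe_set_eq]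
    have e1 : Nat.card (A.perp Z : Set V) = 128 := hPZ
    have e2 : Nat.card (A.perp U : Set V) = 64 := hP
    rw [e1, e2]
  rw [n1] at c1
  rw [n2] at c2
  -- the singular vectors in `U^⊥ \ U`
  set Y : Set V := {v | v ∈ A.perp U ∧ v ∉ U ∧ q v = 0} with hY
  have h5 : 5 ∣ Nat.card Y := by
    have hPi : ∀ v ∈ A.perp U, y • v ∈ A.perp U := fun v hv => A.smul_mem_perp (fun w hw => by
      have h1 := mem_fx.1 (hUf hw)
      rw [inv_smul_eq_iff.2 h1.symm]
      exact hw) hv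
    refine prime_dvd (by norm_num) hy Y ?_ ?_
    · rintro v ⟨h1, h2, h3⟩
      refine ⟨hPi v h1, fun h => h2 ?_, by rw [A.inv]; exact h3⟩
      have h6 := mem_fx.1 (hUf h)
      have h7 : y • v = v := MulAction.injective y h6
      rw [← h7]
      exact h
    · rintro v ⟨h1, h2, h3⟩ h
      exact h2 (hfix v h1 h)
  have hall : Nat.card {v : V | v ≠ 0 ∧ q v = 0} = 135 := A.sing
  have hpart : ({v : V | v ≠ 0 ∧ q v = 0} : Set V) = (({v : V | v ∈ ({v : V | v ∉ A.perp Z} : Set V) ∧ q v = 0} ∪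
      {v : V | v ∈ ({v : V | v ∈ A.perp Z ∧ v ∉ A.perp U} : Set V) ∧ q v = 0}) ∪ Y) ∪ ((U : Set V) \ {0}) := by
    ext v
    simp only [Set.mem_union, Set.mem_ofPred_eq, hY, Set.mem_sdiff, SetLike.mem_coe, Set.mem_singleton_iff]
    constructor
    · rintro ⟨h1, h2⟩
      by_cases h3 : v ∈ A.perp Z
      · by_cases h6 : v ∈ A.perp U
        · by_cases h7 : v ∈ U
          · exact Or.inr ⟨h7, h1⟩
          · exact Or.inl (Or.inr ⟨h6, h7, h2⟩)
        · exact Or.inl (Or.inl (Or.inr ⟨⟨h3, h6⟩, h2⟩))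
      · exact Or.inl (Or.inl (Or.inl ⟨h3, h2⟩))
    · rintro (((⟨h1, h2⟩ | ⟨⟨h1, h3⟩, h2⟩) | ⟨h1, h2, h3⟩) | ⟨h1, h2⟩)
      · exact ⟨fun h => h1 (by rw [h]; exact (A.perp Z).zero_mem), h2⟩
      · exact ⟨fun h => h3 (by rw [h]; exact (A.perp U).zero_mem), h2⟩
      · exact ⟨fun h => h2 (by rw [h]; exact U.zero_mem), h3⟩
      · exact ⟨h2, hU v h1⟩
  rw [hpart, Nat.card_coe_set_eq, Set.ncard_union_eq, Set.ncard_union_eq, Set.ncard_union_eq,
    ← Nat.card_coe_set_eq, ← Nat.card_coe_set_eq, ← Nat.card_coe_set_eq,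
    Set.ncard_sdiff_singleton_of_mem U.zero_mem, ← Nat.card_coe_set_eq] at hall
  · have e3 : Nat.card (U : Set V) = 4 := h4
    rw [e3] at hall
    omega
  · rw [Set.disjoint_left]
    rintro v ⟨h1, -⟩ ⟨⟨h2, -⟩, -⟩
    exact h1 h2
  · rw [Set.disjoint_left]
    rintro v (⟨h1, -⟩ | ⟨⟨-, h1⟩, -⟩) ⟨h2, -⟩
    · exact h1 (hPP h2)
    · exact h1 h2
  · rw [Set.disjoint_left]
    rintro v ((⟨h1, -⟩ | ⟨⟨-, h1⟩, -⟩) | ⟨-, h1, -⟩) ⟨h2, -⟩
    · exact h1 (hPP (hUP h2))
    · exact h1 (hUP h2)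
    · exact h1 h2

end Oct

end Cfsg.Agent.H547.Der.Oc
end

-- part: H547/Der/OctM
section
/-!
# Quadratic space with 256 vectors: 2-local subgroups, centralizers of elements of order 4, subgroups of order 9 (helper547)
-/

set_option autoImplicit false

namespace Cfsg.Agent.H547.Der.Oc

open MulAction Subgroup

variable {G V : Type*} [Group G] [AddCommGroup V] [DistribMulAction G V] {q : V → ZMod 2}

theorem z_aux : ∀ a b : ZMod 2, b ≠ 0 → (a + b + 0 = 0 ↔ a ≠ 0) := by decide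

namespace Oct

variable (A : Oct G V q)

include A

/-- **a 2-local subgroup leaves a totally singular subspace invariant** (no transvections) -/
theorem exists_ts {P M : Subgroup G} (hP : IsPGroup 2 P) (hPM : P ≤ M) (hP1 : P ≠ ⊥)
    (hM : ∀ g ∈ M, ∀ p ∈ P, g⁻¹ * p * g ∈ P) (h128 : ∀ p ∈ P, Nat.card (fx V p) ≠ 128) :
    ∃ U : AddSubgroup V, U ≠ ⊥ ∧ (∀ g ∈ M, ∀ v ∈ U, g • v ∈ U) ∧ ∀ u ∈ U, q u = 0 := by
  have hfin := A.fin
  have h2 : Fact (Nat.Prime 2) := ⟨Nat.prime_two⟩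
  obtain ⟨R, hR, hinv, hti⟩ := A.exists_ti (P := P) (M := M) hP hP1 hM
  set R0 := A.sing0 R hti with hR0
  have hinv0 : ∀ g ∈ M, ∀ v ∈ R0, g • v ∈ R0 := fun g hg v hv => ⟨hinv g hg v hv.1, by rw [A.inv]; exact hv.2⟩
  by_cases h0 : R0 ≠ ⊥
  · exact ⟨R0, h0, hinv0, fun u hu => hu.2⟩
  push Not at h0
  obtain ⟨d, hd, hd0⟩ := R.ne_bot_iff_exists_ne_zero.1 hR |> fun ⟨d, hd⟩ =>
    (⟨d.1, d.2, fun h => hd (Subtype.ext h)⟩ : ∃ d : V, d ∈ R ∧ d ≠ 0)
  have hqd : q d ≠ 0 := fun h => hd0 (by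
    have h1 : d ∈ R0 := ⟨hd, h⟩
    rw [h0] at h1
    exact h1)
  have hMd : ∀ g ∈ M, g • d = d := by
    intro g hg
    have h1 : g • d + d ∈ R0 := by
      refine ⟨R.add_mem (hinv g hg d hd) hd, ?_⟩
      rw [q_add (q := q), A.inv, hti _ (hinv g hg d hd) d hd, add_zero]
      exact zmod_ne hqd hqd
    rw [h0] at h1
    exact A.add_eq_zero.1 h1
  let C : AddSubgroup V :=
    { carrier := {v | (∀ p ∈ P, p • v = v) ∧ pol q v d = 0}
      add_mem' := fun {a b} ha hb => ⟨fun p hp => by rw [smul_add, ha.1 p hp, hb.1 p hp], by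
        rw [A.add, ha.2, hb.2, add_zero]⟩
      zero_mem' := ⟨fun p _ => smul_zero p, A.pol_zero_left d⟩
      neg_mem' := fun {a} ha => ⟨fun p hp => by rw [smul_neg, ha.1 p hp], by rw [A.neg]; exact ha.2⟩ }
  have hdC : d ∈ C := ⟨fun p hp => hMd p (hPM hp), A.pol_self d⟩
  have hCinv : ∀ g ∈ M, ∀ v ∈ C, g • v ∈ C := by
    intro g hg v hv
    refine ⟨fun p hp => ?_, ?_⟩
    · have h1 := hv.1 _ (hM g hg p hp)
      rw [mul_smul, mul_smul, inv_smul_eq_iff] at h1
      exact h1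
    · have h1 := A.pol_smul g v d
      rw [hMd g hg] at h1
      rw [h1]
      exact hv.2
  set E := A.perp C with hE
  have hEinv : ∀ g ∈ M, ∀ v ∈ E, g • v ∈ E := fun g hg v hv =>
    A.smul_mem_perp (fun w hw => hCinv g⁻¹ (M.inv_mem hg) w hw) hv
  have hEd : ∀ v ∈ E, pol q v d = 0 := fun v hv => hv d hdC
  -- the invariant subgroup
  let U : AddSubgroup V :=
    { carrier := {v | v ∈ C ∧ v ∈ E ∧ q v = 0}
      add_mem' := fun {a b} ha hb => ⟨C.add_mem ha.1 hb.1, E.add_mem ha.2.1 hb.2.1, by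
        rw [q_add (q := q), ha.2.2, hb.2.2, ha.2.1 b hb.1]; rfl⟩
      zero_mem' := ⟨C.zero_mem, E.zero_mem, A.zero⟩
      neg_mem' := fun {a} ha => by rw [A.neg]; exact ha }
  refine ⟨U, ?_, fun g hg v hv => ⟨hCinv g hg v hv.1, hEinv g hg v hv.2.1, by rw [A.inv]; exact hv.2.2⟩,
    fun u hu => hu.2.2⟩
  intro hU
  set E0 : Set V := {v | v ∈ E ∧ q v = 0} with hE0
  have hPE0 : ∀ p ∈ P, ∀ v ∈ E0, p • v ∈ E0 := fun p hp v hv =>
    ⟨hEinv p (hPM hp) v hv.1, by rw [A.inv]; exact hv.2⟩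
  let : MulAction P E0 := setAct P E0 hPE0
  have hodd : ¬ 2 ∣ Nat.card E0 := by
    intro hcard
    obtain ⟨b, hb, hb0⟩ := hP.exists_fixed_point_of_prime_dvd_card_of_fixed_point E0 hcard
      (a := ⟨0, E.zero_mem, A.zero⟩) (fun p => Subtype.ext (smul_zero (p : G)))
    have h5 : (b : V) ∈ U := by
      refine ⟨⟨fun p hp => ?_, hEd _ b.2.1⟩, b.2.1, b.2.2⟩
      exact congrArg Subtype.val (hb ⟨p, hp⟩)
    rw [hU] at h5
    exact hb0 (Subtype.ext h5.symm)
  have hdE : d ∈ E := fun w hw => by rw [pol_comm]; exact hw.2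
  have h3 : Nat.card E0 + Nat.card E0 = Nat.card E := by
    have h4 : Nat.card E0 = Nat.card {v : V | v ∈ E ∧ q v ≠ 0} := by
      refine Nat.card_congr
        { toFun := fun v => ⟨v + d, E.add_mem v.2.1 hdE, ?_⟩
          invFun := fun v => ⟨v + d, E.add_mem v.2.1 hdE, ?_⟩
          left_inv := fun v => Subtype.ext (by
            show (v : V) + d + d = v
            rw [add_assoc, A.two, add_zero])
          right_inv := fun v => Subtype.ext (by
            show (v : V) + d + d = v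
            rw [add_assoc, A.two, add_zero]) }
      · rw [q_add (q := q), hEd _ v.2.1]
        intro h
        exact (z_aux _ _ hqd).1 h v.2.2
      · rw [q_add (q := q), hEd _ v.2.1]
        exact (z_aux _ _ hqd).2 v.2.2
    have h5 : Nat.card E0 + Nat.card {v : V | v ∈ E ∧ q v ≠ 0} = Nat.card (E : Set V) := by
      rw [Nat.card_coe_set_eq, Nat.card_coe_set_eq, Nat.card_coe_set_eq, ← Set.ncard_union_eq]
      · congr 1
        ext v
        simp only [Set.mem_union, Set.mem_ofPred_eq, hE0, SetLike.mem_coe]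
        (clear * -; tauto)
      · rw [Set.disjoint_left]
        rintro v ⟨-, h⟩ ⟨-, h'⟩
        exact h' h
    rw [← h4] at h5
    exact h5
  have h4 : Nat.card E = 2 := by
    obtain ⟨k, hk, hk2⟩ := A.exists_card E
    rw [hk2] at h3 ⊢
    have : k = 1 := by
      rcases Nat.lt_or_ge k 2 with h | h
      · interval_cases k
        · omega
        · rfl
      · exfalso
        apply hodd
        obtain ⟨j, rfl⟩ := Nat.exists_eq_add_of_le h
        rw [pow_add] at h3
        omega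
    rw [this]
    norm_num
  have h5 := A.card_perp C
  rw [← hE, h4] at h5
  obtain ⟨p, hp, hp1⟩ := (Subgroup.bot_or_exists_ne_one P).resolve_left hP1
  have h6 : Nat.card C ≤ Nat.card (fx V p) := AddSubgroup.card_le_of_le fun v hv => hv.1 p hp
  have h7 := A.fx_ne hp1
  obtain ⟨k, hk, hk2⟩ := A.exists_card (fx V p)
  refine h128 p hp ?_
  rw [hk2] at h6 h7 ⊢
  interval_cases k <;> (clear * - A h2 h5 h6 h7; omega)

theorem uni {a : G} (ha : orderOf a = 3) {w : V} (h : a • (a • w + w) = a • w + w) : a • w = w := by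
  have ha3 := A.pow_three ha
  have h1 : a • a • w = w := by
    rw [smul_add] at h
    have h2 : a • a • w + a • w + (a • w + w) = 0 := by rw [h, A.two]
    have h3 : a • a • w + w = 0 := by
      calc a • a • w + w = a • a • w + a • w + (a • w + w) + -(a • w + a • w) := by abel
        _ = 0 := by rw [h2, A.two, neg_zero, add_zero]
    exact A.add_eq_zero.1 h3
  have h2 : a • a • a • w = w := by rw [smul_smul, smul_smul, ← pow_two, ← pow_succ, ha3, one_smul]
  rw [h1] at h2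
  exact h2

theorem card_four {a : G} (ha : orderOf a = 3) {J : AddSubgroup V} (hJ : Nat.card J = 4) (hinv : ∀ v ∈ J, a • v ∈ J)
    {w : V} (hw : w ∈ J) (hw0 : w ≠ 0) (haw : a • w = w) : J ≤ fx V a := by
  have hfin := A.fin
  have h1 := A.card_mod (by norm_num) ha J hinv
  rw [hJ] at h1
  have h2 : Nat.card (J ⊓ fx V a : AddSubgroup V) ≤ 4 := by
    rw [← hJ]
    exact AddSubgroup.card_le_of_le inf_le_left
  have h3 : Nat.card (J ⊓ fx V a : AddSubgroup V) ≠ 1 := by
    intro h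
    have h4 : (J ⊓ fx V a : AddSubgroup V) = ⊥ := AddSubgroup.eq_bot_of_card_eq _ h
    have h5 : w ∈ (J ⊓ fx V a : AddSubgroup V) := ⟨hw, haw⟩
    rw [h4] at h5
    exact hw0 h5
  have h4 : Nat.card (J ⊓ fx V a : AddSubgroup V) = 4 := by
    unfold Nat.ModEq at h1
    omega
  have h5 : (J ⊓ fx V a : AddSubgroup V) = J := AddSubgroup.eq_of_le_of_card_ge inf_le_left (by rw [h4, hJ])
  rw [← h5]
  exact inf_le_right

/-- **no element of order 3 commutes with `u`** -/
theorem no_comm_u {u a : G} (ha : orderOf a = 3) (h : a * u = u * a) (h1 : Nat.card (fx V u) = 16)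
    (h2 : ¬ 3 ∣ Nat.card {v : V | u • v = v ∧ q v ≠ 0})
    (h3 : ∀ v : V, u • (u • v + v) = u • v + v → q (u • v + v) = 0)
    (h4 : ¬ 3 ∣ Nat.card {v : V | q (u • v + v) ≠ 0})
    (h5 : Nat.card {v : V | u • (u • v + v) = u • v + v} = 64)
    (h6 : ∀ v : V, u • (u • (u • v + v) + (u • v + v)) = u • (u • v + v) + (u • v + v)) : False := by
  have hfin := A.fin
  have hau : ∀ v : V, a • u • v = u • a • v := fun v => by rw [smul_smul, h, mul_smul]
  have han : ∀ v : V, a • (u • v + v) = u • (a • v) + a • v := fun v => by rw [smul_add, hau]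
  -- fixed vectors
  obtain ⟨f, hfu, hfq, hfa⟩ : ∃ f : V, u • f = f ∧ q f ≠ 0 ∧ a • f = f := by
    by_contra hcon
    push Not at hcon
    apply h2
    refine prime_dvd (by norm_num) ha _ ?_ ?_
    · rintro v ⟨hv1, hv2⟩
      exact ⟨by rw [← hau, hv1], by rw [A.inv]; exact hv2⟩
    · rintro v ⟨hv1, hv2⟩ hv3
      exact hcon v hv1 hv2 hv3
  obtain ⟨v0, hv0q, hv0a⟩ : ∃ v0 : V, q (u • v0 + v0) ≠ 0 ∧ a • v0 = v0 := by
    by_contra hcon
    push Not at hcon
    apply h4
    refine prime_dvd (by norm_num) ha _ ?_ ?_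
    · intro v hv
      show q (u • (a • v) + a • v) ≠ 0
      rw [← han, A.inv]
      exact hv
    · intro v hv hv3
      exact hcon v hv hv3
  -- the image of `n²`
  set J : AddSubgroup V := ((cmHom V u).comp (cmHom V u)).range with hJ
  have hJm : ∀ v : V, u • (u • v + v) + (u • v + v) ∈ J := fun v => ⟨v, rfl⟩
  have hJ4 : Nat.card J = 4 := by
    have e1 := AddSubgroup.card_eq_card_quotient_mul_card_addSubgroup ((cmHom V u).comp (cmHom V u)).ker
    rw [Nat.card_congr (QuotientAddGroup.quotientKerEquivRange ((cmHom V u).comp (cmHom V u))).toEquiv, A.card] at e1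
    have e2 : Nat.card ((cmHom V u).comp (cmHom V u)).ker = 64 := by
      rw [← h5]
      refine Nat.card_congr (Equiv.subtypeEquivRight fun v => ?_)
      rw [AddMonoidHom.mem_ker]
      exact A.add_eq_zero
    rw [e2] at e1
    have e3 : Nat.card J = Nat.card ((cmHom V u).comp (cmHom V u)).range := rfl
    omega
  have hJa : J ≤ fx V a := by
    refine A.card_four ha hJ4 ?_ (hJm v0) ?_ ?_
    · rintro _ ⟨v, rfl⟩
      refine ⟨a • v, ?_⟩
      show u • (u • (a • v) + a • v) + (u • (a • v) + a • v) = a • (u • (u • v + v) + (u • v + v))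
      rw [han, han]
    · intro h7
      exact hv0q (h3 v0 (A.add_eq_zero.1 h7))
    · rw [han, han, hv0a]
  have hFa : fx V u ≤ fx V a := by
    have e1 := A.card_mod (by norm_num) ha (fx V u) (fun v hv => smul_mem_fx h hv)
    rw [h1] at e1
    have e2 : J < (fx V u ⊓ fx V a : AddSubgroup V) := by
      refine lt_of_le_of_ne (le_inf ?_ hJa) ?_
      · rintro _ ⟨v, rfl⟩
        exact h6 v
      · intro e3
        have e4 : f ∈ J := by rw [e3]; exact ⟨hfu, hfa⟩
        obtain ⟨v, rfl⟩ := e4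
        exact hfq (h3 _ (h6 v))
    have e3 : Nat.card J < Nat.card (fx V u ⊓ fx V a : AddSubgroup V) :=
      Set.ncard_lt_ncard (SetLike.coe_ssubset_coe.2 e2) (Set.toFinite _)
    have e4 : Nat.card (fx V u ⊓ fx V a : AddSubgroup V) ≤ 16 := by
      rw [← h1]
      exact AddSubgroup.card_le_of_le inf_le_left
    obtain ⟨k, hk, hk2⟩ := A.exists_card (fx V u ⊓ fx V a)
    have e5 : (fx V u ⊓ fx V a : AddSubgroup V) = fx V u := by
      refine AddSubgroup.eq_of_le_of_card_ge inf_le_left ?_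
      rw [h1]
      rw [hk2] at e1 e3 e4 ⊢
      rw [hJ4] at e3
      unfold Nat.ModEq at e1
      interval_cases k <;> (clear * - e3 e1 e4; omega)
    rw [← e5]
    exact inf_le_right
  have hI : ∀ v : V, a • (u • v + v) = u • v + v := by
    intro v
    refine A.uni ha (hFa (A.add_eq_zero.1 ?_))
    have e1 : a • (u • (u • v + v) + (u • v + v)) = u • (u • v + v) + (u • v + v) := hJa (hJm v)
    rw [han] at e1
    have e2 : u • (a • (u • v + v)) + a • (u • v + v) + (u • (u • v + v) + (u • v + v)) = 0 := by rw [e1, A.two]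
    rw [smul_add]
    calc u • (a • (u • v + v)) + u • (u • v + v) + (a • (u • v + v) + (u • v + v)) =
        u • (a • (u • v + v)) + a • (u • v + v) + (u • (u • v + v) + (u • v + v)) := by abel
      _ = 0 := e2
  have hall : ∀ v : V, a • v = v := by
    intro v
    refine A.uni ha (hFa (A.add_eq_zero.1 ?_))
    have e1 := hI v
    rw [han] at e1
    have e2 : u • (a • v) + a • v + (u • v + v) = 0 := by rw [e1, A.two]
    rw [smul_add]
    calc u • (a • v) + u • v + (a • v + v) = u • (a • v) + a • v + (u • v + v) := by abel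
      _ = 0 := e2
  have := A.faith a hall
  rw [this, orderOf_one] at ha
  norm_num at ha

/-- **Burnside's lemma for two commuting elements of order 3** -/
theorem sum_nine {a b : G} (hab : a * b = b * a) (ha : a ^ 3 = 1) (hb : b ^ 3 = 1) :
    9 ∣ 256 + 2 * (Nat.card (fx V a) + Nat.card (fx V b) + Nat.card (fx V (a * b)) + Nat.card (fx V (a * b ^ 2))) := by
  classical
  have hfin := A.fin
  have : Fintype V := Fintype.ofFinite V
  have hpow : ∀ (c : G) (_ : c ^ 3 = 1) (i j : ZMod 3), c ^ (i + j).val = c ^ i.val * c ^ j.val := by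
    intro c hc i j
    rw [ZMod.val_add, ← pow_eq_pow_mod _ hc, pow_add]
  let K := Multiplicative (ZMod 3 × ZMod 3)
  let act : MulAction K V :=
    { smul := fun x v => (a ^ (Multiplicative.toAdd x).1.val * b ^ (Multiplicative.toAdd x).2.val) • v
      one_smul := fun v => by
        show (a ^ (0 : ZMod 3).val * b ^ (0 : ZMod 3).val) • v = v
        rw [ZMod.val_zero, pow_zero, pow_zero, one_mul, one_smul]
      mul_smul := fun x y v => by
        show (a ^ ((Multiplicative.toAdd x).1 + (Multiplicative.toAdd y).1).val *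
          b ^ ((Multiplicative.toAdd x).2 + (Multiplicative.toAdd y).2).val) • v =
          (a ^ (Multiplicative.toAdd x).1.val * b ^ (Multiplicative.toAdd x).2.val) •
            (a ^ (Multiplicative.toAdd y).1.val * b ^ (Multiplicative.toAdd y).2.val) • v
        rw [hpow a ha, hpow b hb, smul_smul]
        congr 1
        have hc : Commute (a ^ (Multiplicative.toAdd y).1.val) (b ^ (Multiplicative.toAdd x).2.val) :=
          (show Commute a b from hab).pow_pow _ _
        calc a ^ (Multiplicative.toAdd x).1.val * a ^ (Multiplicative.toAdd y).1.val *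
            (b ^ (Multiplicative.toAdd x).2.val * b ^ (Multiplicative.toAdd y).2.val) =
            a ^ (Multiplicative.toAdd x).1.val * (a ^ (Multiplicative.toAdd y).1.val *
            b ^ (Multiplicative.toAdd x).2.val) * b ^ (Multiplicative.toAdd y).2.val := by group
          _ = _ := by rw [hc.eq]; group }
  have hb' := MulAction.sum_card_fixedBy_eq_card_orbits_mul_card_group K V
  have hK : Fintype.card K = 9 := rfl
  rw [hK] at hb'
  have hsum : ∑ x : K, Fintype.card (fixedBy V x) =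
      ∑ i : Fin 3, ∑ j : Fin 3, Nat.card (fx V (a ^ (i : ℕ) * b ^ (j : ℕ))) := by
    have e1 : ∑ x : K, Fintype.card (fixedBy V x) =
        ∑ p : ZMod 3 × ZMod 3, Nat.card (fx V (a ^ p.1.val * b ^ p.2.val)) := by
      refine Fintype.sum_equiv Multiplicative.toAdd _ _ fun x => ?_
      rw [← Nat.card_eq_fintype_card]
      rfl
    rw [e1, Fintype.sum_prod_type]
    rfl
  rw [hsum] at hb'
  have hinv2 : ∀ g : G, g ^ 3 = 1 → Nat.card (fx V (g ^ 2)) = Nat.card (fx V g) := by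
    intro g hg
    have e1 : fx V (g ^ 2) = fx V g := by
      apply le_antisymm
      · intro v hv
        have e2 : v ∈ fx V ((g ^ 2) ^ 2) := pow_mem_fx hv 2
        rw [← pow_mul, show 2 * 2 = 3 + 1 from rfl, pow_succ, hg, one_mul] at e2
        exact e2
      · exact fun v hv => pow_mem_fx hv 2
    rw [e1]
  have hc1 : Nat.card (fx V (1 : G)) = 256 := by
    rw [← A.card]
    exact Nat.card_congr (Equiv.subtypeUnivEquiv fun v => one_smul G v)
  have hC : Commute a b := hab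
  have p1 : a ^ 2 * b ^ 2 = (a * b) ^ 2 := (hC.mul_pow 2).symm
  have p2 : a ^ 2 * b = (a * b ^ 2) ^ 2 := by
    rw [(hC.pow_right 2).mul_pow, ← pow_mul, show 2 * 2 = 3 + 1 from rfl, pow_succ b 3, hb, one_mul]
  have p3 : (a * b) ^ 3 = 1 := by rw [hC.mul_pow, ha, hb, one_mul]
  have p4 : (a * b ^ 2) ^ 3 = 1 := by
    rw [(hC.pow_right 2).mul_pow, ha, ← pow_mul, mul_comm 2 3, pow_mul, hb, one_pow, one_mul]
  simp only [Fin.sum_univ_three, Fin.val_zero, Fin.val_one, Fin.val_two, pow_zero, pow_one, one_mul, mul_one] at hb'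
  rw [hc1, hinv2 b hb, hinv2 a ha, p1, hinv2 _ p3, p2, hinv2 _ p4] at hb'
  refine ⟨Fintype.card (Quotient (orbitRel K V)), ?_⟩
  rw [mul_comm 9, ← hb']
  ring

end Oct

end Cfsg.Agent.H547.Der.Oc
end

private theorem dce_4f78c4a99c69 : _root_.True := by
  try have : _root_.True := by simp only [_root_.Cfsg.Agent.H547.Der.Oc.Oct.perp.congr_simp]
  exact _root_.True.intro
end

section
prune_inst 0xbfb8f999b8a5dfffff7e7ffeb5ddfc39919fffa6dff94bffe46bffabdf23060be5fb8f89e010fc1ef6621410a87843fbfeeeffa26bd87ffffd1ff45ffbec1f976ebd0811979c341f7c6ffffbf0778e7f000000000000000000000000000000000200000002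

-- part: H547/Der/OctP
section
prune_inst 0x400402064018000000000001400201c06c6000590000b00001800014204879e0000020660ec000a00080a02050031000011000490024000000400000041380689000a540402000008200000001086000000000000000000000000000000041004000400000
set_option linter.all false
open scoped Cfsg.Agent.FastGrp

-- part: H547/Der/OctMat2
section
/-!
# `Ω⁺₈(2)`: more explicit elements (helper547, for S3502)
-/

set_option autoImplicit false
set_option maxRecDepth 100000

namespace Cfsg.Agent.H547.Der.Eight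

open Cfsg Cfsg.Agent.H503.El.O8

/-- matrix -/
def TA1 : M8 := Matrix.fromBlocks !![0,1,1,0; 0,0,1,0; 0,1,0,0; 0,0,1,0] !![0,1,1,0; 1,1,0,1; 0,0,1,0; 1,1,0,0] !![1,1,0,0; 0,0,0,1; 1,1,1,0; 1,0,0,1] !![0,0,0,0; 0,0,0,0; 0,0,0,0; 0,0,0,0]
/-- matrix -/
def TA2 : M8 := Matrix.fromBlocks !![1,0,0,1; 0,0,0,0; 1,1,0,0; 1,0,0,1] !![1,1,1,1; 0,0,1,0; 1,1,0,1; 0,0,1,0] !![0,1,0,0; 0,0,1,0; 0,0,0,0; 0,1,0,0] !![1,0,1,1; 1,1,0,0; 1,0,0,1; 1,0,1,0]
/-- matrix -/
def TA4 : M8 := Matrix.fromBlocks !![0,0,1,0; 0,0,0,0; 1,0,1,1; 0,0,0,0] !![1,0,0,1; 1,0,0,1; 0,0,0,0; 0,1,0,0] !![0,0,0,0; 1,0,1,0; 0,0,0,0; 0,1,0,0] !![1,0,1,0; 1,0,1,0; 0,0,0,1; 0,0,0,0]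
/-- matrix -/
def TA5 : M8 := Matrix.fromBlocks !![0,0,0,1; 0,1,0,1; 0,0,0,0; 0,0,0,1] !![0,0,1,0; 0,0,0,0; 1,0,0,0; 0,0,0,0] !![0,0,1,0; 0,0,0,0; 1,0,0,1; 0,0,1,0] !![0,0,0,0; 0,1,0,0; 0,0,0,0; 1,1,0,1]
private noncomputable def _root_.Cfsg.Agent.LsF.f71b1c2_0 : {f // @Cfsg.Agent.H547.Der.Eight.Z1 = f} := ⟨_, by first | (delta Cfsg.Agent.H547.Der.Eight.Z1; rewrite [Cfsg.Agent.LsF.mof_pat, Cfsg.Agent.LsF.vecCons_eq]; exact rfl) | exact rfl⟩
private noncomputable def _root_.Cfsg.Agent.LsF.f71b1c2_1 : {f // @Cfsg.Agent.H547.Der.Eight.G1 = f} := ⟨_, by first | (delta Cfsg.Agent.H547.Der.Eight.G1; rewrite [Cfsg.Agent.LsF.mof_pat, Cfsg.Agent.LsF.vecCons_eq]; exact rfl) | exact rfl⟩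
private noncomputable def _root_.Cfsg.Agent.LsF.f71b1c2_2 : {f // @Cfsg.Agent.H547.Der.Eight.TA1 = f} := ⟨_, by first | (delta Cfsg.Agent.H547.Der.Eight.TA1; rewrite [Cfsg.Agent.LsF.mof_pat, Cfsg.Agent.LsF.vecCons_eq]; exact rfl) | exact rfl⟩
private noncomputable def _root_.Cfsg.Agent.LsF.f71b1c2_3 : {f // @Cfsg.Agent.H547.Der.Eight.TA2 = f} := ⟨_, by first | (delta Cfsg.Agent.H547.Der.Eight.TA2; rewrite [Cfsg.Agent.LsF.mof_pat, Cfsg.Agent.LsF.vecCons_eq]; exact rfl) | exact rfl⟩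
private noncomputable def _root_.Cfsg.Agent.LsF.f71b1c2_4 : {f // @Cfsg.Agent.H547.Der.Eight.TA4 = f} := ⟨_, by first | (delta Cfsg.Agent.H547.Der.Eight.TA4; rewrite [Cfsg.Agent.LsF.mof_pat, Cfsg.Agent.LsF.vecCons_eq]; exact rfl) | exact rfl⟩
private noncomputable def _root_.Cfsg.Agent.LsF.f71b1c2_5 : {f // @Cfsg.Agent.H547.Der.Eight.TA5 = f} := ⟨_, by first | (delta Cfsg.Agent.H547.Der.Eight.TA5; rewrite [Cfsg.Agent.LsF.mof_pat, Cfsg.Agent.LsF.vecCons_eq]; exact rfl) | exact rfl⟩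
theorem TA_eq : Z1 * G1 = TA1 ∧ TA1 * TA1 = TA2 ∧ TA2 * TA2 = TA4 ∧ TA1 * TA4 = TA5 ∧ TA5 * TA5 = 1 ∧ TA2 ≠ 1 ∧ TA5 ≠ 1 := by (refine of_decide_eq_true ?_; (try (rewrite [Cfsg.Agent.LsF.f71b1c2_0.2, Cfsg.Agent.LsF.f71b1c2_1.2, Cfsg.Agent.LsF.f71b1c2_2.2, Cfsg.Agent.LsF.f71b1c2_3.2, Cfsg.Agent.LsF.f71b1c2_4.2, Cfsg.Agent.LsF.f71b1c2_5.2, Cfsg.Agent.LsF.zdecEq_eq, Cfsg.Agent.LsF.finFintype_eq, Cfsg.Agent.LsF.dMat_eq, Cfsg.Agent.LsF.instMHMul_eq, Cfsg.Agent.LsF.instMOne_eq, Cfsg.Agent.LsF.instZMul_pat, Cfsg.Agent.LsF.zACM_pat, Cfsg.Agent.LsF.dAnd_eq, Cfsg.Agent.LsF.dNot_eq, Cfsg.Agent.LsF.dFinEq_eq, Cfsg.Agent.LsF.decide_eq])); decide +kernel)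
/-- matrix -/
def TB1 : M8 := Matrix.fromBlocks !![0,1,1,1; 1,1,1,0; 1,1,0,1; 1,0,1,1] !![1,0,1,1; 1,0,1,1; 1,0,1,1; 0,1,0,0] !![0,1,0,1; 0,0,0,1; 0,1,0,1; 0,1,0,0] !![1,0,0,0; 1,0,1,0; 0,0,1,0; 0,0,0,0]
/-- matrix -/
def TB2 : M8 := Matrix.fromBlocks !![1,1,0,0; 0,0,0,0; 0,1,1,0; 0,0,0,0] !![1,1,1,0; 0,0,0,1; 1,1,1,0; 1,1,1,0] !![0,0,0,0; 1,0,1,1; 0,0,0,0; 1,1,1,0] !![0,1,1,1; 1,1,1,0; 1,1,0,1; 1,0,1,1]
private noncomputable def _root_.Cfsg.Agent.LsF.f71b1c2_6 : {f // @Cfsg.Agent.H547.Der.Eight.W1 = f} := ⟨_, by first | (delta Cfsg.Agent.H547.Der.Eight.W1; rewrite [Cfsg.Agent.LsF.mof_pat, Cfsg.Agent.LsF.vecCons_eq]; exact rfl) | exact rfl⟩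
private noncomputable def _root_.Cfsg.Agent.LsF.f71b1c2_7 : {f // @Cfsg.Agent.H547.Der.Eight.N3 = f} := ⟨_, by first | (delta Cfsg.Agent.H547.Der.Eight.N3; rewrite [Cfsg.Agent.LsF.mof_pat, Cfsg.Agent.LsF.vecCons_eq]; exact rfl) | exact rfl⟩
private noncomputable def _root_.Cfsg.Agent.LsF.f71b1c2_8 : {f // @Cfsg.Agent.H547.Der.Eight.TB1 = f} := ⟨_, by first | (delta Cfsg.Agent.H547.Der.Eight.TB1; rewrite [Cfsg.Agent.LsF.mof_pat, Cfsg.Agent.LsF.vecCons_eq]; exact rfl) | exact rfl⟩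
private noncomputable def _root_.Cfsg.Agent.LsF.f71b1c2_9 : {f // @Cfsg.Agent.H547.Der.Eight.TB2 = f} := ⟨_, by first | (delta Cfsg.Agent.H547.Der.Eight.TB2; rewrite [Cfsg.Agent.LsF.mof_pat, Cfsg.Agent.LsF.vecCons_eq]; exact rfl) | exact rfl⟩
theorem TB_eq : W1 * N3 = TB1 ∧ TB1 * TB1 = TB2 ∧ TB1 * TB2 = 1 ∧ TB1 ≠ 1 := by (refine of_decide_eq_true ?_; (try (rewrite [Cfsg.Agent.LsF.f71b1c2_6.2, Cfsg.Agent.LsF.f71b1c2_7.2, Cfsg.Agent.LsF.f71b1c2_8.2, Cfsg.Agent.LsF.f71b1c2_9.2, Cfsg.Agent.LsF.zdecEq_eq, Cfsg.Agent.LsF.finFintype_eq, Cfsg.Agent.LsF.dMat_eq, Cfsg.Agent.LsF.instMHMul_eq, Cfsg.Agent.LsF.instMOne_eq, Cfsg.Agent.LsF.instZMul_pat, Cfsg.Agent.LsF.zACM_pat, Cfsg.Agent.LsF.dAnd_eq, Cfsg.Agent.LsF.dNot_eq, Cfsg.Agent.LsF.dFinEq_eq, Cfsg.Agent.LsF.decide_eq])); decide +kernel)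
theorem TB_card : (Finset.univ.filter fun v : I8 → ZMod 2 => TB1.mulVec v = v).card = 16 := by (refine of_decide_eq_true ?_; (try (rewrite [Cfsg.Agent.LsF.f71b1c2_8.2, Cfsg.Agent.LsF.zdecEq_eq, Cfsg.Agent.LsF.finFintype_eq, Cfsg.Agent.LsF.zFintype_eq, Cfsg.Agent.LsF.dPi_eq, Cfsg.Agent.LsF.fcard_eq, Cfsg.Agent.LsF.ffilter_eq, Cfsg.Agent.LsF.mulVec_eq, Cfsg.Agent.LsF.instDecEq_eq, Cfsg.Agent.LsF.dFinEq_eq, Cfsg.Agent.LsF.decide_eq])); decide +kernel)
/-- matrix -/
def TC1 : M8 := Matrix.fromBlocks !![0,0,1,0; 1,0,0,0; 0,1,1,0; 0,1,0,1] !![0,1,0,0; 0,1,0,1; 1,1,1,1; 0,1,1,1] !![0,0,1,1; 0,1,1,0; 1,0,1,0; 0,0,1,0] !![1,1,1,1; 0,1,1,1; 0,1,0,0; 0,1,0,1]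
/-- matrix -/
def TC2 : M8 := Matrix.fromBlocks !![1,0,0,0; 0,0,1,0; 0,0,0,0; 0,0,1,0] !![0,0,1,0; 1,1,0,1; 0,0,0,1; 1,0,0,0] !![0,0,1,0; 0,1,1,0; 0,1,1,1; 1,1,1,0] !![0,0,0,0; 1,0,0,1; 1,1,0,1; 1,1,0,1]
/-- matrix -/
def TC3 : M8 := Matrix.fromBlocks !![1,1,1,1; 1,0,1,0; 1,1,1,0; 0,0,1,0] !![1,1,1,1; 0,1,0,1; 1,1,0,1; 0,0,0,1] !![0,0,0,0; 1,1,1,0; 1,0,1,0; 0,0,0,0] !![0,0,0,1; 0,0,0,1; 0,0,0,0; 1,0,1,0]
/-- matrix -/
def TC4 : M8 := Matrix.fromBlocks !![0,1,0,1; 0,0,0,0; 0,0,0,0; 1,1,1,0] !![1,1,1,1; 0,1,1,1; 1,0,1,0; 1,1,0,0] !![1,1,1,0; 0,1,0,0; 1,0,0,0; 0,1,0,1] !![1,1,0,1; 0,0,1,1; 0,0,1,1; 1,1,0,1]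
/-- matrix -/
def TC5 : M8 := Matrix.fromBlocks !![1,0,0,1; 1,0,0,1; 0,1,1,0; 1,1,1,1] !![1,0,1,1; 1,1,0,1; 1,1,1,0; 1,1,0,0] !![1,0,1,0; 1,1,0,1; 1,0,0,0; 0,0,0,1] !![0,0,0,1; 1,0,0,1; 0,0,0,1; 1,0,0,0]
private noncomputable def _root_.Cfsg.Agent.LsF.f71b1c2_10 : {f // @Cfsg.Agent.H547.Der.Eight.N1 = f} := ⟨_, by first | (delta Cfsg.Agent.H547.Der.Eight.N1; rewrite [Cfsg.Agent.LsF.mof_pat, Cfsg.Agent.LsF.vecCons_eq]; exact rfl) | exact rfl⟩
private noncomputable def _root_.Cfsg.Agent.LsF.f71b1c2_11 : {f // @Cfsg.Agent.H547.Der.Eight.TC1 = f} := ⟨_, by first | (delta Cfsg.Agent.H547.Der.Eight.TC1; rewrite [Cfsg.Agent.LsF.mof_pat, Cfsg.Agent.LsF.vecCons_eq]; exact rfl) | exact rfl⟩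
private noncomputable def _root_.Cfsg.Agent.LsF.f71b1c2_12 : {f // @Cfsg.Agent.H547.Der.Eight.G2 = f} := ⟨_, by first | (delta Cfsg.Agent.H547.Der.Eight.G2; rewrite [Cfsg.Agent.LsF.mof_pat, Cfsg.Agent.LsF.vecCons_eq]; exact rfl) | exact rfl⟩
private noncomputable def _root_.Cfsg.Agent.LsF.f71b1c2_13 : {f // @Cfsg.Agent.H547.Der.Eight.TC2 = f} := ⟨_, by first | (delta Cfsg.Agent.H547.Der.Eight.TC2; rewrite [Cfsg.Agent.LsF.mof_pat, Cfsg.Agent.LsF.vecCons_eq]; exact rfl) | exact rfl⟩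
private noncomputable def _root_.Cfsg.Agent.LsF.f71b1c2_14 : {f // @Cfsg.Agent.H547.Der.Eight.TC3 = f} := ⟨_, by first | (delta Cfsg.Agent.H547.Der.Eight.TC3; rewrite [Cfsg.Agent.LsF.mof_pat, Cfsg.Agent.LsF.vecCons_eq]; exact rfl) | exact rfl⟩
private noncomputable def _root_.Cfsg.Agent.LsF.f71b1c2_15 : {f // @Cfsg.Agent.H547.Der.Eight.TC4 = f} := ⟨_, by first | (delta Cfsg.Agent.H547.Der.Eight.TC4; rewrite [Cfsg.Agent.LsF.mof_pat, Cfsg.Agent.LsF.vecCons_eq]; exact rfl) | exact rfl⟩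
private noncomputable def _root_.Cfsg.Agent.LsF.f71b1c2_16 : {f // @Cfsg.Agent.H547.Der.Eight.TC5 = f} := ⟨_, by first | (delta Cfsg.Agent.H547.Der.Eight.TC5; rewrite [Cfsg.Agent.LsF.mof_pat, Cfsg.Agent.LsF.vecCons_eq]; exact rfl) | exact rfl⟩
theorem TC_eq : W1 * N1 = TC1 ∧ TC1 * G2 = TC2 ∧ TC2 * TC2 = TC3 ∧ TC2 * TC3 = TC4 ∧ TC4 * TC4 = TC5 ∧ TC4 * TC5 = 1 ∧ TC4 ≠ 1 := by (refine of_decide_eq_true ?_; (try (rewrite [Cfsg.Agent.LsF.f71b1c2_6.2, Cfsg.Agent.LsF.f71b1c2_10.2, Cfsg.Agent.LsF.f71b1c2_11.2, Cfsg.Agent.LsF.f71b1c2_12.2, Cfsg.Agent.LsF.f71b1c2_13.2, Cfsg.Agent.LsF.f71b1c2_14.2, Cfsg.Agent.LsF.f71b1c2_15.2, Cfsg.Agent.LsF.f71b1c2_16.2, Cfsg.Agent.LsF.zdecEq_eq, Cfsg.Agent.LsF.finFintype_eq, Cfsg.Agent.LsF.dMat_eq, Cfsg.Agent.LsF.instMHMul_eq, Cfsg.Agent.LsF.instMOne_eq, Cfsg.Agent.LsF.instZMul_pat, Cfsg.Agent.LsF.zACM_pat, Cfsg.Agent.LsF.dAnd_eq, Cfsg.Agent.LsF.dNot_eq, Cfsg.Agent.LsF.dFinEq_eq, Cfsg.Agent.LsF.decide_eq])); decide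 +kernel)
theorem TC_card : (Finset.univ.filter fun v : I8 → ZMod 2 => TC2.mulVec v = v).card = 4 := by (refine of_decide_eq_true ?_; (try (rewrite [Cfsg.Agent.LsF.f71b1c2_13.2, Cfsg.Agent.LsF.zdecEq_eq, Cfsg.Agent.LsF.finFintype_eq, Cfsg.Agent.LsF.zFintype_eq, Cfsg.Agent.LsF.dPi_eq, Cfsg.Agent.LsF.fcard_eq, Cfsg.Agent.LsF.ffilter_eq, Cfsg.Agent.LsF.mulVec_eq, Cfsg.Agent.LsF.instDecEq_eq, Cfsg.Agent.LsF.dFinEq_eq, Cfsg.Agent.LsF.decide_eq])); decide +kernel)
theorem N1_card : (Finset.univ.filter fun v : I8 → ZMod 2 => N1.mulVec v = v).card = 1 := by (refine of_decide_eq_true ?_; (try (rewrite [Cfsg.Agent.LsF.f71b1c2_10.2, Cfsg.Agent.LsF.zdecEq_eq, Cfsg.Agent.LsF.finFintype_eq, Cfsg.Agent.LsF.zFintype_eq, Cfsg.Agent.LsF.dPi_eq, Cfsg.Agent.LsF.fcard_eq, Cfsg.Agent.LsF.ffilter_eq, Cfsg.Agent.LsF.mulVec_eq, Cfsg.Agent.LsF.instDecEq_eq, Cfsg.Agent.LsF.dFinEq_eq, Cfsg.Agent.LsF.decide_eq])); decide +kernel)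
/-- matrix -/
def TD1 : M8 := Matrix.fromBlocks !![1,0,1,0; 0,1,1,1; 1,1,0,0; 1,1,1,0] !![0,0,0,1; 0,1,1,0; 0,0,0,1; 0,0,0,0] !![0,0,0,0; 1,1,1,0; 0,0,0,0; 0,1,1,1] !![1,1,0,1; 0,0,0,1; 1,0,1,1; 1,0,0,0]
/-- matrix -/
def TD2 : M8 := Matrix.fromBlocks !![1,1,0,0; 1,0,1,0; 1,0,0,1; 0,1,1,1] !![1,1,1,1; 0,0,0,0; 1,1,1,1; 0,1,0,1] !![1,0,1,0; 1,0,1,1; 0,0,0,0; 1,0,1,0] !![1,0,1,1; 0,1,1,1; 1,1,1,0; 1,1,1,1]
/-- matrix -/
def TD3 : M8 := Matrix.fromBlocks !![1,1,0,1; 0,1,0,1; 0,0,0,0; 0,1,0,1] !![0,0,1,0; 0,0,0,0; 0,1,1,1; 0,0,1,0] !![0,1,0,1; 0,0,1,1; 0,0,0,1; 1,1,1,0] !![1,0,1,0; 0,0,1,1; 0,0,1,0; 1,1,0,1]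
/-- matrix -/
def TD4 : M8 := Matrix.fromBlocks !![1,1,0,0; 0,0,0,0; 1,1,0,0; 0,0,0,1] !![0,0,1,0; 0,0,1,0; 1,1,0,0; 0,0,0,0] !![0,1,0,0; 1,0,1,0; 0,1,0,0; 0,0,0,0] !![1,0,1,0; 1,0,1,0; 0,0,0,0; 0,0,0,1]
/-- matrix -/
def TDn : M8 := Matrix.fromBlocks !![0,1,0,1; 0,0,0,1; 0,0,1,0; 0,1,0,0] !![0,0,1,0; 0,0,0,0; 0,1,1,1; 0,0,1,0] !![0,1,0,1; 0,0,1,1; 0,0,0,1; 1,1,1,0] !![0,0,1,0; 0,1,1,1; 0,0,0,0; 1,1,0,0]
/-- matrix -/
def TDm : M8 := Matrix.fromBlocks !![0,1,0,0; 0,1,0,0; 1,1,1,0; 0,0,0,0] !![0,0,1,0; 0,0,1,0; 1,1,0,0; 0,0,0,0] !![0,1,0,0; 1,0,1,0; 0,1,0,0; 0,0,0,0] !![0,0,1,0; 1,1,1,0; 0,0,1,0; 0,0,0,0]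
private noncomputable def _root_.Cfsg.Agent.LsF.f71b1c2_17 : {f // @Cfsg.Agent.H547.Der.Eight.TD1 = f} := ⟨_, by first | (delta Cfsg.Agent.H547.Der.Eight.TD1; rewrite [Cfsg.Agent.LsF.mof_pat, Cfsg.Agent.LsF.vecCons_eq]; exact rfl) | exact rfl⟩
private noncomputable def _root_.Cfsg.Agent.LsF.f71b1c2_18 : {f // @Cfsg.Agent.H547.Der.Eight.TD2 = f} := ⟨_, by first | (delta Cfsg.Agent.H547.Der.Eight.TD2; rewrite [Cfsg.Agent.LsF.mof_pat, Cfsg.Agent.LsF.vecCons_eq]; exact rfl) | exact rfl⟩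
private noncomputable def _root_.Cfsg.Agent.LsF.f71b1c2_19 : {f // @Cfsg.Agent.H547.Der.Eight.TD3 = f} := ⟨_, by first | (delta Cfsg.Agent.H547.Der.Eight.TD3; rewrite [Cfsg.Agent.LsF.mof_pat, Cfsg.Agent.LsF.vecCons_eq]; exact rfl) | exact rfl⟩
private noncomputable def _root_.Cfsg.Agent.LsF.f71b1c2_20 : {f // @Cfsg.Agent.H547.Der.Eight.TD4 = f} := ⟨_, by first | (delta Cfsg.Agent.H547.Der.Eight.TD4; rewrite [Cfsg.Agent.LsF.mof_pat, Cfsg.Agent.LsF.vecCons_eq]; exact rfl) | exact rfl⟩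
theorem TD_eq : Z1 * W1 = TD1 ∧ TD1 * N1 = TD2 ∧ TD2 * TD2 = TD3 ∧ TD3 * TD3 = TD4 ∧ TD4 * TD4 = 1 ∧ TD4 ≠ 1 := by (refine of_decide_eq_true ?_; (try (rewrite [Cfsg.Agent.LsF.f71b1c2_0.2, Cfsg.Agent.LsF.f71b1c2_6.2, Cfsg.Agent.LsF.f71b1c2_17.2, Cfsg.Agent.LsF.f71b1c2_10.2, Cfsg.Agent.LsF.f71b1c2_18.2, Cfsg.Agent.LsF.f71b1c2_19.2, Cfsg.Agent.LsF.f71b1c2_20.2, Cfsg.Agent.LsF.zdecEq_eq, Cfsg.Agent.LsF.finFintype_eq, Cfsg.Agent.LsF.dMat_eq, Cfsg.Agent.LsF.instMHMul_eq, Cfsg.Agent.LsF.instMOne_eq, Cfsg.Agent.LsF.instZMul_pat, Cfsg.Agent.LsF.zACM_pat, Cfsg.Agent.LsF.dAnd_eq, Cfsg.Agent.LsF.dNot_eq, Cfsg.Agent.LsF.dFinEq_eq, Cfsg.Agent.LsF.decide_eq])); decide +kernel)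
private noncomputable def _root_.Cfsg.Agent.LsF.f71b1c2_21 : {f // @Cfsg.Agent.H547.Der.Eight.TDn = f} := ⟨_, by first | (delta Cfsg.Agent.H547.Der.Eight.TDn; rewrite [Cfsg.Agent.LsF.mof_pat, Cfsg.Agent.LsF.vecCons_eq]; exact rfl) | exact rfl⟩
private noncomputable def _root_.Cfsg.Agent.LsF.f71b1c2_22 : {f // @Cfsg.Agent.H547.Der.Eight.TDm = f} := ⟨_, by first | (delta Cfsg.Agent.H547.Der.Eight.TDm; rewrite [Cfsg.Agent.LsF.mof_pat, Cfsg.Agent.LsF.vecCons_eq]; exact rfl) | exact rfl⟩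
theorem TD_eq2 : TD3 + 1 = TDn ∧ TDn * TDn = TDm ∧ TDn * TDm = 0 := by (refine of_decide_eq_true ?_; (try (rewrite [Cfsg.Agent.LsF.madd_pat, Cfsg.Agent.LsF.f71b1c2_19.2, Cfsg.Agent.LsF.f71b1c2_21.2, Cfsg.Agent.LsF.f71b1c2_22.2, Cfsg.Agent.LsF.zadd_pat, Cfsg.Agent.LsF.zdecEq_eq, Cfsg.Agent.LsF.finFintype_eq, Cfsg.Agent.LsF.dMat_eq, Cfsg.Agent.LsF.instMHMul_eq, Cfsg.Agent.LsF.instMOne_eq, Cfsg.Agent.LsF.instZMul_pat, Cfsg.Agent.LsF.zACM_pat, Cfsg.Agent.LsF.dAnd_eq, Cfsg.Agent.LsF.dFinEq_eq, Cfsg.Agent.LsF.decide_eq])); decide +kernel)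
theorem TD_card1 : (Finset.univ.filter fun v : I8 → ZMod 2 => TD3.mulVec v = v).card = 16 := by (refine of_decide_eq_true ?_; (try (rewrite [Cfsg.Agent.LsF.f71b1c2_19.2, Cfsg.Agent.LsF.zdecEq_eq, Cfsg.Agent.LsF.finFintype_eq, Cfsg.Agent.LsF.zFintype_eq, Cfsg.Agent.LsF.dPi_eq, Cfsg.Agent.LsF.fcard_eq, Cfsg.Agent.LsF.ffilter_eq, Cfsg.Agent.LsF.mulVec_eq, Cfsg.Agent.LsF.instDecEq_eq, Cfsg.Agent.LsF.dFinEq_eq, Cfsg.Agent.LsF.decide_eq])); decide +kernel)
private noncomputable def _root_.Cfsg.Agent.LsF.f71b1c2_23 : {f // @Cfsg.Agent.H503.El.O8.Q8 = f} := ⟨_, by first | (delta Cfsg.Agent.H503.El.O8.Q8 Cfsg.quadFormPlus; rewrite [Cfsg.Agent.LsF.sumF_pat, Cfsg.Agent.LsF.zadd_pat, Cfsg.Agent.LsF.zmul_pat, Cfsg.Agent.LsF.zACM_pat]; exact rfl) | exact rfl⟩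
theorem TD_card2 : (Finset.univ.filter fun v : I8 → ZMod 2 => TD3.mulVec v = v ∧ Q8 v ≠ 0).card = 4 := by (refine of_decide_eq_true ?_; (try (rewrite [Cfsg.Agent.LsF.f71b1c2_19.2, Cfsg.Agent.LsF.f71b1c2_23.2, Cfsg.Agent.LsF.zdecEq_eq, Cfsg.Agent.LsF.finFintype_eq, Cfsg.Agent.LsF.zFintype_eq, Cfsg.Agent.LsF.dPi_eq, Cfsg.Agent.LsF.fcard_eq, Cfsg.Agent.LsF.ffilter_eq, Cfsg.Agent.LsF.mulVec_eq, Cfsg.Agent.LsF.instDecEq_eq, Cfsg.Agent.LsF.dAnd_eq, Cfsg.Agent.LsF.dNot_eq, Cfsg.Agent.LsF.dFinEq_eq, Cfsg.Agent.LsF.decide_eq])); decide +kernel)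
theorem TD_ts : ∀ v : I8 → ZMod 2, TDm.mulVec v = 0 → Q8 (TDn.mulVec v) = 0 := by (refine of_decide_eq_true ?_; (try (rewrite [Cfsg.Agent.LsF.f71b1c2_22.2, Cfsg.Agent.LsF.f71b1c2_23.2, Cfsg.Agent.LsF.f71b1c2_21.2, Cfsg.Agent.LsF.zdecEq_eq, Cfsg.Agent.LsF.finFintype_eq, Cfsg.Agent.LsF.zFintype_eq, Cfsg.Agent.LsF.dForall_eq, Cfsg.Agent.LsF.dPi_eq, Cfsg.Agent.LsF.mulVec_eq, Cfsg.Agent.LsF.dFinEq_eq, Cfsg.Agent.LsF.dAllP_eq, Cfsg.Agent.LsF.decide_eq])); decide +kernel)
theorem TD_card4 : (Finset.univ.filter fun v : I8 → ZMod 2 => Q8 (TDn.mulVec v) ≠ 0).card = 64 := by (refine of_decide_eq_true ?_; (try (rewrite [Cfsg.Agent.LsF.f71b1c2_23.2, Cfsg.Agent.LsF.f71b1c2_21.2, Cfsg.Agent.LsF.zdecEq_eq, Cfsg.Agent.LsF.finFintype_eq, Cfsg.Agent.LsF.zFintype_eq, Cfsg.Agent.LsF.fcard_eq, Cfsg.Agent.LsF.ffilter_eq, Cfsg.Agent.LsF.mulVec_eq, Cfsg.Agent.LsF.instDecEq_eq, Cfsg.Agent.LsF.dNot_eq, Cfsg.Agent.LsF.dFinEq_eq, Cfsg.Agent.LsF.decide_eq])); decide +kernel)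
theorem TD_card5 : (Finset.univ.filter fun v : I8 → ZMod 2 => TDm.mulVec v = 0).card = 64 := by (refine of_decide_eq_true ?_; (try (rewrite [Cfsg.Agent.LsF.f71b1c2_22.2, Cfsg.Agent.LsF.zdecEq_eq, Cfsg.Agent.LsF.finFintype_eq, Cfsg.Agent.LsF.zFintype_eq, Cfsg.Agent.LsF.dPi_eq, Cfsg.Agent.LsF.fcard_eq, Cfsg.Agent.LsF.ffilter_eq, Cfsg.Agent.LsF.mulVec_eq, Cfsg.Agent.LsF.instDecEq_eq, Cfsg.Agent.LsF.dFinEq_eq, Cfsg.Agent.LsF.decide_eq])); decide +kernel)
/-- matrix -/
def TE1 : M8 := Matrix.fromBlocks !![0,1,0,0; 1,0,0,1; 1,1,0,1; 1,1,0,1] !![0,0,0,1; 0,1,0,0; 0,1,1,1; 1,1,1,0] !![1,0,1,1; 0,1,1,0; 0,1,1,1; 0,1,0,1] !![1,0,0,1; 1,0,0,1; 0,1,0,1; 0,1,0,1]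
/-- matrix -/
def TE2 : M8 := Matrix.fromBlocks !![0,1,1,1; 0,0,1,1; 0,1,0,0; 0,1,1,1] !![0,1,1,0; 1,1,0,0; 1,0,0,1; 1,1,1,0] !![1,1,0,1; 0,0,0,1; 0,0,0,1; 1,1,0,0] !![1,0,1,1; 0,1,1,0; 1,0,0,0; 1,1,1,1]
/-- matrix -/
def TE3 : M8 := Matrix.fromBlocks !![1,0,1,0; 0,0,0,1; 0,0,0,1; 0,0,0,0] !![0,0,0,0; 0,1,0,0; 0,0,0,0; 1,0,1,0] !![0,0,0,0; 1,1,1,1; 1,1,1,1; 1,0,0,1] !![0,1,1,0; 0,0,0,0; 1,1,1,1; 0,0,0,0]
/-- matrix -/
def TE4 : M8 := Matrix.fromBlocks !![0,0,1,0; 1,0,0,0; 0,0,1,0; 1,0,0,0] !![1,0,0,0; 0,1,1,1; 1,0,0,1; 0,0,1,1] !![0,0,1,1; 0,1,0,0; 0,0,1,1; 0,1,0,0] !![0,0,1,1; 0,0,0,0; 0,0,0,0; 1,0,0,0]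
/-- matrix -/
def TE5 : M8 := Matrix.fromBlocks !![0,0,0,1; 0,0,0,1; 0,1,0,1; 0,1,0,1] !![1,0,1,0; 0,0,0,0; 0,0,1,0; 0,0,0,0] !![1,1,0,1; 1,0,0,0; 1,0,1,0; 1,0,1,1] !![0,0,1,0; 0,1,1,1; 1,0,1,0; 0,1,0,0]
/-- matrix -/
def TE6 : M8 := Matrix.fromBlocks !![0,0,1,0; 0,1,0,1; 1,1,1,0; 0,1,0,0] !![1,0,0,0; 0,0,0,0; 1,0,1,0; 0,0,0,0] !![1,1,1,1; 1,0,0,0; 0,0,1,1; 1,0,0,1] !![0,0,0,0; 0,0,1,1; 0,0,0,0; 1,1,1,1]
/-- matrix -/
def TE7 : M8 := Matrix.fromBlocks !![1,0,0,0; 1,0,0,0; 0,0,1,1; 0,0,0,0] !![0,0,0,0; 0,0,1,1; 0,1,0,0; 0,1,0,0] !![0,0,0,1; 0,0,0,1; 0,0,0,0; 1,1,0,0] !![1,1,0,0; 0,0,0,0; 0,0,1,0; 0,0,1,0]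
private noncomputable def _root_.Cfsg.Agent.LsF.f71b1c2_24 : {f // @Cfsg.Agent.H547.Der.Eight.TE1 = f} := ⟨_, by first | (delta Cfsg.Agent.H547.Der.Eight.TE1; rewrite [Cfsg.Agent.LsF.mof_pat, Cfsg.Agent.LsF.vecCons_eq]; exact rfl) | exact rfl⟩
private noncomputable def _root_.Cfsg.Agent.LsF.f71b1c2_25 : {f // @Cfsg.Agent.H547.Der.Eight.TE2 = f} := ⟨_, by first | (delta Cfsg.Agent.H547.Der.Eight.TE2; rewrite [Cfsg.Agent.LsF.mof_pat, Cfsg.Agent.LsF.vecCons_eq]; exact rfl) | exact rfl⟩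
private noncomputable def _root_.Cfsg.Agent.LsF.f71b1c2_26 : {f // @Cfsg.Agent.H547.Der.Eight.TE3 = f} := ⟨_, by first | (delta Cfsg.Agent.H547.Der.Eight.TE3; rewrite [Cfsg.Agent.LsF.mof_pat, Cfsg.Agent.LsF.vecCons_eq]; exact rfl) | exact rfl⟩
private noncomputable def _root_.Cfsg.Agent.LsF.f71b1c2_27 : {f // @Cfsg.Agent.H547.Der.Eight.TE4 = f} := ⟨_, by first | (delta Cfsg.Agent.H547.Der.Eight.TE4; rewrite [Cfsg.Agent.LsF.mof_pat, Cfsg.Agent.LsF.vecCons_eq]; exact rfl) | exact rfl⟩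
theorem TE_eq : W1 * G1 = TE1 ∧ TE1 * W1 = TE2 ∧ TE2 * N1 = TE3 ∧ TE3 * Z1 = TE4 := by (refine of_decide_eq_true ?_; (try (rewrite [Cfsg.Agent.LsF.f71b1c2_6.2, Cfsg.Agent.LsF.f71b1c2_1.2, Cfsg.Agent.LsF.f71b1c2_24.2, Cfsg.Agent.LsF.f71b1c2_25.2, Cfsg.Agent.LsF.f71b1c2_10.2, Cfsg.Agent.LsF.f71b1c2_26.2, Cfsg.Agent.LsF.f71b1c2_0.2, Cfsg.Agent.LsF.f71b1c2_27.2, Cfsg.Agent.LsF.zdecEq_eq, Cfsg.Agent.LsF.finFintype_eq, Cfsg.Agent.LsF.dMat_eq, Cfsg.Agent.LsF.instMHMul_eq, Cfsg.Agent.LsF.instZMul_pat, Cfsg.Agent.LsF.zACM_pat, Cfsg.Agent.LsF.dAnd_eq, Cfsg.Agent.LsF.decide_eq])); decide +kernel)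
private noncomputable def _root_.Cfsg.Agent.LsF.f71b1c2_28 : {f // @Cfsg.Agent.H547.Der.Eight.TE5 = f} := ⟨_, by first | (delta Cfsg.Agent.H547.Der.Eight.TE5; rewrite [Cfsg.Agent.LsF.mof_pat, Cfsg.Agent.LsF.vecCons_eq]; exact rfl) | exact rfl⟩
private noncomputable def _root_.Cfsg.Agent.LsF.f71b1c2_29 : {f // @Cfsg.Agent.H547.Der.Eight.TE6 = f} := ⟨_, by first | (delta Cfsg.Agent.H547.Der.Eight.TE6; rewrite [Cfsg.Agent.LsF.mof_pat, Cfsg.Agent.LsF.vecCons_eq]; exact rfl) | exact rfl⟩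
private noncomputable def _root_.Cfsg.Agent.LsF.f71b1c2_30 : {f // @Cfsg.Agent.H547.Der.Eight.TE7 = f} := ⟨_, by first | (delta Cfsg.Agent.H547.Der.Eight.TE7; rewrite [Cfsg.Agent.LsF.mof_pat, Cfsg.Agent.LsF.vecCons_eq]; exact rfl) | exact rfl⟩
theorem TE_eq2 : TE4 * TE4 = TE5 ∧ TE5 * TE5 = TE6 ∧ TE4 * TE5 = TE7 ∧ TE5 * TE6 = 1 ∧ TE5 ≠ 1 ∧ TE7 ≠ 1 := by (refine of_decide_eq_true ?_; (try (rewrite [Cfsg.Agent.LsF.f71b1c2_27.2, Cfsg.Agent.LsF.f71b1c2_28.2, Cfsg.Agent.LsF.f71b1c2_29.2, Cfsg.Agent.LsF.f71b1c2_30.2, Cfsg.Agent.LsF.zdecEq_eq, Cfsg.Agent.LsF.finFintype_eq, Cfsg.Agent.LsF.dMat_eq, Cfsg.Agent.LsF.instMHMul_eq, Cfsg.Agent.LsF.instMOne_eq, Cfsg.Agent.LsF.instZMul_pat, Cfsg.Agent.LsF.zACM_pat, Cfsg.Agent.LsF.dAnd_eq, Cfsg.Agent.LsF.dNot_eq, Cfsg.Agent.LsF.dFinEq_eq, Cfsg.Agent.LsF.decide_eq])); decide +kernel)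
/-- matrix -/
def TH1 : M8 := Matrix.fromBlocks !![1,0,0,1; 1,0,1,1; 0,0,0,1; 0,1,0,0] !![0,0,1,0; 1,0,1,0; 0,0,0,0; 0,0,0,0] !![0,1,0,1; 0,0,0,0; 1,1,0,1; 1,0,0,0] !![1,0,1,0; 0,0,1,0; 1,0,1,1; 0,1,1,0]
/-- matrix -/
def TH2 : M8 := Matrix.fromBlocks !![1,1,0,1; 1,0,0,0; 0,0,1,0; 0,1,0,0] !![0,1,0,1; 0,0,1,0; 1,0,0,1; 0,0,0,1] !![1,1,1,0; 1,0,0,1; 1,1,0,1; 0,1,0,1] !![1,0,1,1; 1,1,0,1; 0,1,1,1; 0,0,1,0]
/-- matrix -/
def TH3 : M8 := Matrix.fromBlocks !![1,0,1,0; 0,0,1,0; 0,0,1,0; 0,0,1,0] !![1,0,1,0; 1,0,0,0; 1,1,0,0; 1,1,0,1] !![0,0,1,0; 1,1,1,0; 1,1,0,1; 1,0,0,1] !![0,0,0,1; 0,0,0,0; 0,1,1,1; 0,1,1,0]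
/-- matrix -/
def TH4 : M8 := Matrix.fromBlocks !![1,1,1,0; 0,1,1,0; 0,1,1,0; 1,1,1,0] !![0,1,1,0; 0,0,0,0; 0,1,1,1; 0,1,1,1] !![0,1,0,1; 1,0,1,0; 0,1,0,0; 0,0,1,1] !![0,1,1,1; 0,1,0,0; 1,0,0,1; 1,1,1,1]
/-- matrix -/
def TH5 : M8 := Matrix.fromBlocks !![0,1,0,1; 0,0,0,0; 0,1,1,0; 0,0,0,0] !![1,0,1,0; 1,0,0,0; 0,1,1,0; 0,1,1,1] !![0,0,0,0; 1,0,0,0; 0,0,0,0; 0,0,0,1] !![0,1,1,0; 0,1,1,0; 0,0,1,0; 0,0,0,0]
/-- matrix -/
def TH6 : M8 := Matrix.fromBlocks !![1,1,1,1; 0,1,1,0; 0,0,0,0; 0,1,1,0] !![1,0,0,1; 1,1,1,1; 1,1,1,1; 1,0,0,1] !![0,1,1,0; 0,0,1,1; 0,1,1,1; 1,1,0,0] !![0,0,0,1; 0,1,0,0; 1,1,0,1; 1,1,1,0]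
/-- matrix -/
def TH7 : M8 := Matrix.fromBlocks !![0,1,1,0; 0,0,0,0; 1,0,0,0; 0,1,1,0] !![1,1,1,0; 0,1,1,0; 0,1,0,1; 1,1,1,1] !![1,1,1,1; 0,1,0,0; 0,1,1,0; 0,1,1,1] !![0,0,0,0; 1,0,1,0; 0,1,1,0; 0,1,1,0]
private noncomputable def _root_.Cfsg.Agent.LsF.f71b1c2_31 : {f // @Cfsg.Agent.H547.Der.Eight.TH1 = f} := ⟨_, by first | (delta Cfsg.Agent.H547.Der.Eight.TH1; rewrite [Cfsg.Agent.LsF.mof_pat, Cfsg.Agent.LsF.vecCons_eq]; exact rfl) | exact rfl⟩
private noncomputable def _root_.Cfsg.Agent.LsF.f71b1c2_32 : {f // @Cfsg.Agent.H547.Der.Eight.TH2 = f} := ⟨_, by first | (delta Cfsg.Agent.H547.Der.Eight.TH2; rewrite [Cfsg.Agent.LsF.mof_pat, Cfsg.Agent.LsF.vecCons_eq]; exact rfl) | exact rfl⟩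
private noncomputable def _root_.Cfsg.Agent.LsF.f71b1c2_33 : {f // @Cfsg.Agent.H547.Der.Eight.TH3 = f} := ⟨_, by first | (delta Cfsg.Agent.H547.Der.Eight.TH3; rewrite [Cfsg.Agent.LsF.mof_pat, Cfsg.Agent.LsF.vecCons_eq]; exact rfl) | exact rfl⟩
private noncomputable def _root_.Cfsg.Agent.LsF.f71b1c2_34 : {f // @Cfsg.Agent.H547.Der.Eight.TH4 = f} := ⟨_, by first | (delta Cfsg.Agent.H547.Der.Eight.TH4; rewrite [Cfsg.Agent.LsF.mof_pat, Cfsg.Agent.LsF.vecCons_eq]; exact rfl) | exact rfl⟩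
private noncomputable def _root_.Cfsg.Agent.LsF.f71b1c2_35 : {f // @Cfsg.Agent.H547.Der.Eight.TH5 = f} := ⟨_, by first | (delta Cfsg.Agent.H547.Der.Eight.TH5; rewrite [Cfsg.Agent.LsF.mof_pat, Cfsg.Agent.LsF.vecCons_eq]; exact rfl) | exact rfl⟩
private noncomputable def _root_.Cfsg.Agent.LsF.f71b1c2_36 : {f // @Cfsg.Agent.H547.Der.Eight.TH6 = f} := ⟨_, by first | (delta Cfsg.Agent.H547.Der.Eight.TH6; rewrite [Cfsg.Agent.LsF.mof_pat, Cfsg.Agent.LsF.vecCons_eq]; exact rfl) | exact rfl⟩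
theorem TH_eq : Z1 * N1 = TH1 ∧ TH1 * Z1 = TH2 ∧ TH2 * G1 = TH3 ∧ TH3 * W1 = TH4 ∧ TH4 * Z1 = TH5 ∧ TH5 * G1 = TH6 := by (refine of_decide_eq_true ?_; (try (rewrite [Cfsg.Agent.LsF.f71b1c2_0.2, Cfsg.Agent.LsF.f71b1c2_10.2, Cfsg.Agent.LsF.f71b1c2_31.2, Cfsg.Agent.LsF.f71b1c2_32.2, Cfsg.Agent.LsF.f71b1c2_1.2, Cfsg.Agent.LsF.f71b1c2_33.2, Cfsg.Agent.LsF.f71b1c2_6.2, Cfsg.Agent.LsF.f71b1c2_34.2, Cfsg.Agent.LsF.f71b1c2_35.2, Cfsg.Agent.LsF.f71b1c2_36.2, Cfsg.Agent.LsF.zdecEq_eq, Cfsg.Agent.LsF.finFintype_eq, Cfsg.Agent.LsF.dMat_eq, Cfsg.Agent.LsF.instMHMul_eq, Cfsg.Agent.LsF.instZMul_pat, Cfsg.Agent.LsF.zACM_pat, Cfsg.Agent.LsF.dAnd_eq, Cfsg.Agent.LsF.decide_eq])); decide +kernel)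
private noncomputable def _root_.Cfsg.Agent.LsF.f71b1c2_37 : {f // @Cfsg.Agent.H547.Der.Eight.TH7 = f} := ⟨_, by first | (delta Cfsg.Agent.H547.Der.Eight.TH7; rewrite [Cfsg.Agent.LsF.mof_pat, Cfsg.Agent.LsF.vecCons_eq]; exact rfl) | exact rfl⟩
theorem TH_eq2 : TE6 * TH6 = TH7 ∧ TH6 * N3 = TH7 := by (refine of_decide_eq_true ?_; (try (rewrite [Cfsg.Agent.LsF.f71b1c2_29.2, Cfsg.Agent.LsF.f71b1c2_36.2, Cfsg.Agent.LsF.f71b1c2_37.2, Cfsg.Agent.LsF.f71b1c2_7.2, Cfsg.Agent.LsF.zdecEq_eq, Cfsg.Agent.LsF.finFintype_eq, Cfsg.Agent.LsF.dMat_eq, Cfsg.Agent.LsF.instMHMul_eq, Cfsg.Agent.LsF.instZMul_pat, Cfsg.Agent.LsF.zACM_pat, Cfsg.Agent.LsF.dAnd_eq, Cfsg.Agent.LsF.decide_eq])); decide +kernel)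

end Cfsg.Agent.H547.Der.Eight
end

-- part: H547/Der/OctEl2
section
/-!
# `Ω⁺₈(2)`: more explicit elements (helper547, for S3502)

`t10` (order 10), `b3` (order 3, 16 fixed vectors), `v9` (order 9, 4 fixed vectors), `w9` (order 9, 1 fixed vector),
`g8` (order 8, no element of order 3 commutes with `g8 ^ 2`), `s6` (order 6, a power is conjugate to `w9 ^ 3`).
-/

set_option autoImplicit false

namespace Cfsg.Agent.H547.Der.Eight

open Subgroup Cfsg Cfsg.Agent.H503.El.O8 Cfsg.Agent.H547.Der.Oc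

theorem order_two_primes {G : Type*} [Group G] {x : G} {p r : ℕ} (hp : p.Prime) (hr : r.Prime)
    (h : x ^ (p * r) = 1) (hx : x ^ p ≠ 1) (hx2 : x ^ r ≠ 1) : orderOf x = p * r := by
  refine orderOf_eq_of_pow_and_pow_div_prime (Nat.mul_pos hp.pos hr.pos) h ?_
  intro s hs hsd h1
  rcases (Nat.Prime.dvd_mul hs).1 hsd with h2 | h2
  · have h3 := (Nat.prime_dvd_prime_iff_eq hs hp).1 h2
    rw [h3, Nat.mul_div_cancel_left _ hp.pos] at h1
    exact hx2 h1
  · have h3 := (Nat.prime_dvd_prime_iff_eq hs hr).1 h2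
    rw [h3, Nat.mul_div_cancel _ hr.pos] at h1
    exact hx h1

/-! ### order 10 -/

def s10 : S8 := z1 * g4

theorem order_s10 : orderOf s10 = 10 := by
  have e1 : rho s10 = TA1 := by
    show rho (z1 * g4) = TA1
    rw [map_mul, rho_z1, rho_g4, TA_eq.1]
  have e2 : rho (s10 ^ 2) = TA2 := by rw [pow_two, map_mul, e1, TA_eq.2.1]
  have e4 : rho (s10 ^ 4) = TA4 := by rw [show s10 ^ 4 = s10 ^ 2 * s10 ^ 2 from pow_add s10 2 2, map_mul, e2, TA_eq.2.2.1]
  have e5 : rho (s10 ^ 5) = TA5 := by rw [show 5 = 1 + 4 from rfl, pow_add, map_mul, pow_one, e1, e4, TA_eq.2.2.2.1]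
  refine order_two_primes (p := 2) (r := 5) (by norm_num) (by norm_num) ?_ ?_ ?_
  · refine rho_injective ?_
    rw [show 2 * 5 = 5 + 5 from rfl, pow_add, map_mul, e5, TA_eq.2.2.2.2.1, map_one]
  · intro h
    exact TA_eq.2.2.2.2.2.1 (by rw [← e2, h, map_one])
  · intro h
    exact TA_eq.2.2.2.2.2.2 (by rw [← e5, h, map_one])

noncomputable def t10 : T8 := e8 s10

theorem order_t10 : orderOf t10 = 10 := (MulEquiv.orderOf_eq e8 s10).trans order_s10

/-! ### order 3 -/

def s3 : S8 := z2 * w9 ^ 3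

theorem rho_w9_3 : rho (w9 ^ 3) = N3 := by
  rw [pow_succ, pow_two, map_mul, map_mul, rho_w9, mul_assoc, N_eq.1, N_eq.2.1]

theorem rho_s3 : rho s3 = TB1 := by
  show rho (z2 * w9 ^ 3) = TB1
  rw [map_mul, rho_z2, rho_w9_3, TB_eq.1]

theorem order_s3 : orderOf s3 = 3 := by
  have e2 : rho (s3 ^ 2) = TB2 := by rw [pow_two, map_mul, rho_s3, TB_eq.2.1]
  have h3 : Fact (Nat.Prime 3) := ⟨Nat.prime_three⟩
  refine orderOf_eq_prime (rho_injective ?_) fun h => TB_eq.2.2.2 (by rw [← rho_s3, h, map_one])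
  rw [show 3 = 1 + 2 from rfl, pow_add, map_mul, pow_one, rho_s3, e2, TB_eq.2.2.1, map_one]

noncomputable def b3 : T8 := e8 s3

theorem order_b3 : orderOf b3 = 3 := (MulEquiv.orderOf_eq e8 s3).trans order_s3

theorem card_b3 : Nat.card (fx V8 b3) = 16 := by
  show Nat.card (fx V8 (e8 s3)) = 16
  rw [fx_e8]
  exact card_fx_eq rho_s3 TB_card

/-! ### order 9 -/

def s9 : S8 := z2 * w9 * g4 ^ 2

theorem rho_s9 : rho s9 = TC2 := by
  show rho (z2 * w9 * g4 ^ 2) = TC2
  rw [map_mul, map_mul, rho_z2, rho_w9, TC_eq.1, rho_g4_sq, TC_eq.2.1]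

theorem order_s9 : orderOf s9 = 9 := by
  have e2 : rho (s9 ^ 2) = TC3 := by rw [pow_two, map_mul, rho_s9, TC_eq.2.2.1]
  have e3 : rho (s9 ^ 3) = TC4 := by
    rw [show 3 = 1 + 2 from rfl, pow_add, map_mul, pow_one, rho_s9, e2, TC_eq.2.2.2.1]
  have e6 : rho (s9 ^ 6) = TC5 := by rw [show 6 = 3 + 3 from rfl, pow_add, map_mul, e3, TC_eq.2.2.2.2.1]
  have e9 : s9 ^ 9 = 1 := rho_injective (by
    rw [show 9 = 3 + 6 from rfl, pow_add, map_mul, e3, e6, TC_eq.2.2.2.2.2.1, map_one])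
  have h3 : s9 ^ 3 ≠ 1 := fun h => TC_eq.2.2.2.2.2.2 (by rw [← e3, h, map_one])
  exact orderOf_eq_prime_pow (p := 3) (n := 1) (by simpa only [_root_.pow_one, _root_.ne_eq] using h3) (by simpa only [_root_.Nat.reduceAdd, _root_.Nat.reducePow] using e9)

noncomputable def v9 : T8 := e8 s9

theorem order_v9 : orderOf v9 = 9 := (MulEquiv.orderOf_eq e8 s9).trans order_s9

theorem card_v9 : Nat.card (fx V8 v9) = 4 := by
  show Nat.card (fx V8 (e8 s9)) = 4
  rw [fx_e8]
  exact card_fx_eq rho_s9 TC_card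

theorem card_tw9 : Nat.card (fx V8 tw9) = 1 := by
  show Nat.card (fx V8 (e8 w9)) = 1
  rw [fx_e8]
  exact card_fx_eq rho_w9 N1_card

/-! ### order 8 -/

def s8 : S8 := z1 * z2 * w9

theorem rho_s8 : rho s8 = TD2 := by
  show rho (z1 * z2 * w9) = TD2
  rw [map_mul, map_mul, rho_z1, rho_z2, TD_eq.1, rho_w9, TD_eq.2.1]

theorem rho_s8_2 : rho (s8 ^ 2) = TD3 := by rw [pow_two, map_mul, rho_s8, TD_eq.2.2.1]

theorem order_s8 : orderOf s8 = 8 := by
  have e4 : rho (s8 ^ 4) = TD4 := by rw [show s8 ^ 4 = s8 ^ 2 * s8 ^ 2 from pow_add s8 2 2, map_mul, rho_s8_2, TD_eq.2.2.2.1]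
  have e8' : s8 ^ 8 = 1 := rho_injective (by
    rw [show 8 = 4 + 4 from rfl, pow_add, map_mul, e4, TD_eq.2.2.2.2.1, map_one])
  have h4 : s8 ^ 4 ≠ 1 := fun h => TD_eq.2.2.2.2.2 (by rw [← e4, h, map_one])
  exact orderOf_eq_prime_pow (p := 2) (n := 2) (by simpa only [_root_.Nat.reducePow, _root_.ne_eq] using h4) (by simpa only [_root_.Nat.reduceAdd, _root_.Nat.reducePow] using e8')

noncomputable def g8 : T8 := e8 s8

theorem order_g8 : orderOf g8 = 8 := (MulEquiv.orderOf_eq e8 s8).trans order_s8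

theorem smul_g8 (v : V8) : g8 ^ 2 • v = mv TD3 v := by
  have h : g8 ^ 2 = e8 (s8 ^ 2) := (map_pow e8 s8 2).symm
  rw [h, smul_e8, vsmul_def, rho_s8_2]

theorem mv_add_one (v : V8) : mv TD3 v + v = mv TDn v := by
  have h : mv (TD3 + 1) v = mv TD3 v + mv 1 v := Matrix.add_mulVec TD3 1 (show I8 → ZMod 2 from v)
  rw [← TD_eq2.1, h, mv_one]

theorem nn_eq (v : V8) : mv TD3 (mv TDn v) + mv TDn v = mv TDm v := by
  rw [mv_add_one, ← mv_mul, TD_eq2.2.1]

theorem u_iff (v : V8) : mv TD3 (mv TDn v) = mv TDn v ↔ mv TDm v = 0 := by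
  rw [← nn_eq]
  exact octT.add_eq_zero.symm

/-- **no element of order 3 commutes with `g8 ^ 2`** -/
theorem no_comm_g8 {a : T8} (ha : orderOf a = 3) (h : a * g8 ^ 2 = g8 ^ 2 * a) : False := by
  refine octT.no_comm_u ha h ?_ ?_ ?_ ?_ ?_ ?_
  · have h1 : g8 ^ 2 = e8 (s8 ^ 2) := (map_pow e8 s8 2).symm
    rw [h1, fx_e8]
    exact card_fx_eq rho_s8_2 TD_card1
  · have h1 : Nat.card {v : V8 | g8 ^ 2 • v = v ∧ q8 v ≠ 0} =
        Nat.card {v : I8 → ZMod 2 // TD3.mulVec v = v ∧ Q8 v ≠ 0} := by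
      refine Nat.card_congr (Equiv.subtypeEquivRight fun v => ?_)
      show g8 ^ 2 • v = v ∧ q8 v ≠ 0 ↔ _
      rw [smul_g8]
      exact Iff.rfl
    rw [h1, Nat.card_eq_fintype_card, Fintype.card_subtype, TD_card2]
    norm_num
  · intro v hv
    rw [smul_g8, smul_g8, mv_add_one] at hv
    rw [smul_g8, mv_add_one]
    exact TD_ts v ((u_iff v).1 hv)
  · have h1 : Nat.card {v : V8 | q8 (g8 ^ 2 • v + v) ≠ 0} = Nat.card {v : I8 → ZMod 2 // Q8 (TDn.mulVec v) ≠ 0} := by
      refine Nat.card_congr (Equiv.subtypeEquivRight fun v => ?_)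
      show q8 (g8 ^ 2 • v + v) ≠ 0 ↔ _
      rw [smul_g8, mv_add_one]
      exact Iff.rfl
    rw [h1, Nat.card_eq_fintype_card, Fintype.card_subtype, TD_card4]
    norm_num
  · have h1 : Nat.card {v : V8 | g8 ^ 2 • (g8 ^ 2 • v + v) = g8 ^ 2 • v + v} =
        Nat.card {v : I8 → ZMod 2 // TDm.mulVec v = 0} := by
      refine Nat.card_congr (Equiv.subtypeEquivRight fun v => ?_)
      show g8 ^ 2 • (g8 ^ 2 • v + v) = g8 ^ 2 • v + v ↔ _
      rw [smul_g8 v, mv_add_one, smul_g8]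
      exact u_iff v
    rw [h1, Nat.card_eq_fintype_card, Fintype.card_subtype, TD_card5]
  · intro v
    rw [smul_g8 v, mv_add_one, smul_g8 (mv TDn v), nn_eq, smul_g8]
    have h1 : mv TD3 (mv TDm v) + mv TDm v = 0 := by
      rw [mv_add_one, ← mv_mul, TD_eq2.2.2]
      exact Matrix.zero_mulVec (show I8 → ZMod 2 from v)
    exact octT.add_eq_zero.1 h1

/-! ### order 6 -/

def s6 : S8 := z2 * g4 * z2 * w9 * z1

theorem rho_s6 : rho s6 = TE4 := by
  show rho (z2 * g4 * z2 * w9 * z1) = TE4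
  rw [map_mul, map_mul, map_mul, map_mul, rho_z2, rho_g4, TE_eq.1, TE_eq.2.1, rho_w9, TE_eq.2.2.1, rho_z1, TE_eq.2.2.2]

theorem rho_s6_2 : rho (s6 ^ 2) = TE5 := by rw [pow_two, map_mul, rho_s6, TE_eq2.1]

theorem rho_s6_4 : rho (s6 ^ 4) = TE6 := by rw [show s6 ^ 4 = s6 ^ 2 * s6 ^ 2 from pow_add s6 2 2, map_mul, rho_s6_2, TE_eq2.2.1]

theorem order_s6 : orderOf s6 = 6 := by
  have e3 : rho (s6 ^ 3) = TE7 := by
    rw [show 3 = 1 + 2 from rfl, pow_add, map_mul, pow_one, rho_s6, rho_s6_2, TE_eq2.2.2.1]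
  refine order_two_primes (p := 2) (r := 3) (by norm_num) (by norm_num) ?_ ?_ ?_
  · refine rho_injective ?_
    rw [show 2 * 3 = 2 + 4 from rfl, pow_add, map_mul, rho_s6_2, rho_s6_4, TE_eq2.2.2.2.1, map_one]
  · intro h
    exact TE_eq2.2.2.2.2.1 (by rw [← rho_s6_2, h, map_one])
  · intro h
    exact TE_eq2.2.2.2.2.2 (by rw [← e3, h, map_one])

def h6 : S8 := z1 * w9 * z1 * g4 * z2 * z1 * g4

theorem rho_h6 : rho h6 = TH6 := by
  show rho (z1 * w9 * z1 * g4 * z2 * z1 * g4) = TH6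
  rw [map_mul, map_mul, map_mul, map_mul, map_mul, map_mul, rho_z1, rho_w9, TH_eq.1, TH_eq.2.1, rho_g4,
    TH_eq.2.2.1, rho_z2, TH_eq.2.2.2.1, TH_eq.2.2.2.2.1, TH_eq.2.2.2.2.2]

theorem s6_conj : s6 ^ 4 = h6 * w9 ^ 3 * h6⁻¹ := by
  rw [eq_mul_inv_iff_mul_eq]
  refine rho_injective ?_
  rw [map_mul, map_mul, rho_s6_4, rho_h6, rho_w9_3, TH_eq2.1, TH_eq2.2]

noncomputable def t6 : T8 := e8 s6

theorem order_t6 : orderOf t6 = 6 := (MulEquiv.orderOf_eq e8 s6).trans order_s6

theorem t6_conj : t6 ^ 4 = e8 h6 * tw9 ^ 3 * (e8 h6)⁻¹ := by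
  show e8 s6 ^ 4 = e8 h6 * e8 w9 ^ 3 * (e8 h6)⁻¹
  rw [← map_pow, s6_conj, map_mul, map_mul, map_inv, map_pow]

end Cfsg.Agent.H547.Der.Eight
end

-- part: H547/Der/OctN
section
/-!
# `Ω⁺₈(2)`: criteria for `Three` (helper547, for S3502)
-/

set_option autoImplicit false

namespace Cfsg.Agent.H547.Der.Oc

open MulAction Subgroup

variable {G V : Type*} [Group G] [AddCommGroup V] [DistribMulAction G V] {q : V → ZMod 2}

namespace Oct

variable (A : Oct G V q)

include A

/-- an element with 128 fixed vectors is a transvection with nonsingular centre -/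
theorem cm_two {g : G} (h : Nat.card (fx V g) = 128) : ∃ c : V, q c ≠ 0 ∧ (∀ v : V, g • v + v = 0 ∨ g • v + v = c) ∧
    ∀ v : V, g • v + v = 0 ↔ pol q v c = 0 := by
  have hfin := A.fin
  have h2 : Nat.card (cm V g) = 2 := by
    have := A.card_mul g
    rw [h] at this
    omega
  obtain ⟨⟨c, hc⟩, hc0, huniq⟩ := (Nat.card_eq_two_iff' (0 : cm V g)).1 h2
  have hc0' : c ≠ 0 := fun h => hc0 (Subtype.ext h)
  have h3 : ∀ v : V, g • v + v = 0 ∨ g • v + v = c := by
    intro v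
    by_cases h4 : g • v + v = 0
    · exact Or.inl h4
    · right
      have h5 := huniq ⟨g • v + v, mem_cm.2 ⟨v, rfl⟩⟩ (fun h => h4 (congrArg Subtype.val h))
      exact congrArg Subtype.val h5
  have h4 : ∀ v : V, g • v + v = 0 ↔ pol q v c = 0 := by
    intro v
    have h5 : v ∈ fx V g ↔ v ∈ A.perp (cm V g) := by rw [A.fx_eq_perp g]
    rw [A.add_eq_zero]
    refine (h5.trans ?_)
    constructor
    · exact fun h6 => h6 c hc
    · intro h6 w hw
      obtain ⟨u, hu⟩ := mem_cm.1 hw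
      rcases h3 u with h7 | h7
      · rw [← hu, h7, A.pol_zero_right]
      · rw [← hu, h7, h6]
  refine ⟨c, fun hq => ?_, h3, h4⟩
  obtain ⟨w, hw⟩ := mem_cm.1 hc
  have h5 : g • w = w + c := by
    have h6 : g • w = c + w := by rw [← hw, add_assoc, A.two, add_zero]
    rw [h6, add_comm]
  have h6 := A.inv g w
  rw [h5, q_add (q := q), hq, add_zero] at h6
  have h7 : pol q w c = 0 := by
    have h8 : ∀ a b : ZMod 2, a + b = a → b = 0 := by decide
    exact h8 _ _ h6
  have h8 := (h4 w).2 h7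
  rw [hw] at h8
  exact hc0' h8

/-- transvections commute with the stabilizer of the centre -/
theorem comm_of {g x : G} {d : V} (hd : x • d = d) (h1 : ∀ v : V, g • v + v = 0 ∨ g • v + v = d)
    (h2 : ∀ v : V, g • v + v = 0 ↔ pol q v d = 0) : x * g = g * x := by
  have h3 : (g * x)⁻¹ * (x * g) = 1 := by
    refine A.faith _ fun v => ?_
    rw [mul_smul, inv_smul_eq_iff, mul_smul, mul_smul]
    by_cases h : pol q v d = 0
    · have h4 := A.add_eq_zero.1 ((h2 v).2 h)
      have h5 : pol q (x • v) d = 0 := by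
        rw [← hd, A.pol_smul]; exact h
      rw [h4, A.add_eq_zero.1 ((h2 _).2 h5)]
    · have h4 : g • v + v = d := (h1 v).resolve_left fun h5 => h ((h2 v).1 h5)
      have h5 : pol q (x • v) d ≠ 0 := by
        rw [← hd, A.pol_smul]; exact h
      have h6 : g • (x • v) + x • v = d := (h1 _).resolve_left fun h7 => h5 ((h2 _).1 h7)
      have h7 : g • v = d + v := by rw [← h4, add_assoc, A.two, add_zero]
      have h8 : g • (x • v) = d + x • v := by rw [← h6, add_assoc, A.two, add_zero]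
      rw [h7, h8, smul_add, hd]
  exact (inv_mul_eq_one.1 h3).symm

/-- elements of order 7 fix a nonsingular vector -/
theorem exists_nonsing_seven {x : G} (hx : orderOf x = 7) : ∃ d : V, x • d = d ∧ q d ≠ 0 := by
  have hfin := A.fin
  have h7p : Nat.Prime 7 := by norm_num
  obtain ⟨k, hk, hk2⟩ := A.exists_card (fx V x)
  have h1 := A.card_fx_mod h7p hx
  rw [hk2] at h1
  have h2 := num_c hk h1 (by rw [← hk2]; exact A.fx_ne (A.ne_one h7p hx))
  have h4 : Nat.card (fx V x) = 4 := by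
    rcases h2 with rfl | rfl
    · rw [hk2]; norm_num
    · exfalso
      refine A.no_eight hx ?_
      have := A.card_mul x
      rw [hk2] at this
      omega
  by_contra hcon
  push Not at hcon
  have h := Cfsg.Agent.H503.El.Fix.card_mod h7p hx {v : V | v ≠ 0 ∧ q v = 0} (by
    rintro v ⟨h1, h2⟩
    exact ⟨fun h => h1 ((smul_eq_zero_iff_eq x).1 h), by rw [A.inv]; exact h2⟩)
  have h5 : Nat.card {v : V | v ≠ 0 ∧ q v = 0} = 135 := A.sing
  have h6 : Nat.card {a : V // a ∈ {v : V | v ≠ 0 ∧ q v = 0} ∧ x • a = a} = 3 := by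
    have h8 : Nat.card {a : V // a ∈ {v : V | v ≠ 0 ∧ q v = 0} ∧ x • a = a} =
        Nat.card (((fx V x : AddSubgroup V) : Set V) \ {0} : Set V) := by
      refine Nat.card_congr (Equiv.subtypeEquivRight fun v => ?_)
      constructor
      · rintro ⟨⟨h1, h2⟩, h3⟩; exact ⟨h3, h1⟩
      · rintro ⟨h1, h2⟩; exact ⟨⟨h2, hcon v h1⟩, h1⟩
    rw [h8, Nat.card_coe_set_eq, Set.ncard_sdiff_singleton_of_mem (AddSubgroup.zero_mem _), ← Nat.card_coe_set_eq]
    have h9 : Nat.card ((fx V x : AddSubgroup V) : Set V) = 4 := h4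
    rw [h9]
  rw [h5, h6] at h
  exact absurd h (by decide)

end Oct

end Cfsg.Agent.H547.Der.Oc

namespace Cfsg.Agent.H547.Der.Eight

open Subgroup Cfsg Cfsg.Agent.H503.El.O8 Cfsg.Agent.H547.Der.Oc Cfsg.Agent.H439.Der Cfsg.Agent Cfsg.Agent.H970.StabNum
open Cfsg.Agent.H396

/-- `T8` is transitive on the nonsingular vectors -/
theorem orbit_nonsing {c d : V8} (hc : q8 c ≠ 0) (hd : q8 d ≠ 0) : ∃ g : T8, g • c = d := by
  have h1 : MulAction.stabilizer T8 c ≠ ⊤ := by
    intro h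
    have h2 : tz2 ^ 3 ∈ MulAction.stabilizer T8 c := by rw [h]; trivial
    have h3 : c ∈ fx V8 (tz2 ^ 3) := h2
    have h4 : fx V8 (tz2 ^ 3) = ⊥ := AddSubgroup.eq_bot_of_card_eq _ card_tz2
    rw [h4] at h3
    have h5 : c = 0 := h3
    exact hc (by rw [h5]; exact octT.zero)
  have h2 := index_ge _ h1
  rw [MulAction.index_stabilizer] at h2
  have h3 : MulAction.orbit T8 c ⊆ {v : V8 | q8 v ≠ 0} := by
    rintro _ ⟨g, rfl⟩
    show q8 (g • c) ≠ 0
    rw [octT.inv]; exact hc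
  have h4 : ({v : V8 | q8 v ≠ 0} : Set V8).ncard = 120 := by
    rw [← Nat.card_coe_set_eq]; exact octT.card_nonsing
  have h5 : MulAction.orbit T8 c = {v : V8 | q8 v ≠ 0} :=
    Set.eq_of_subset_of_ncard_le h3 (by rw [h4]; exact h2) (Set.toFinite _)
  have h6 : d ∈ MulAction.orbit T8 c := by rw [h5]; exact hd
  exact h6

theorem no_128 (g : T8) : Nat.card (fx V8 g) ≠ 128 := by
  intro h
  have h7p : Fact (Nat.Prime 7) := ⟨by norm_num⟩
  obtain ⟨x, hx⟩ := exists_prime_orderOf_dvd_card' (G := T8) 7 (by rw [card_t8]; norm_num)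
  obtain ⟨d, hd, hqd⟩ := octT.exists_nonsing_seven hx
  obtain ⟨c, hqc, h1, h2⟩ := octT.cm_two h
  obtain ⟨k, hk⟩ := orbit_nonsing hqc hqd
  set! g' := k * g * k⁻¹ with hg'
  have h3 : Nat.card (fx V8 g') = 128 := by rw [hg', card_fx_conj, h]
  have hkey : ∀ v : V8, g' • v + v = k • (g • (k⁻¹ • v) + k⁻¹ • v) := by
    intro v
    rw [smul_add, smul_inv_smul, hg', mul_smul, mul_smul]
  have hcomm : x * g' = g' * x := by
    refine octT.comm_of hd (fun v => ?_) fun v => ?_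
    · rw [hkey]
      rcases h1 (k⁻¹ • v) with h4 | h4
      · left; rw [h4, smul_zero]
      · right; rw [h4, hk]
    · rw [hkey, smul_eq_zero_iff_eq, h2, ← hk]
      have h5 : pol q8 v (k • c) = pol q8 (k • (k⁻¹ • v)) (k • c) := by rw [smul_inv_smul]
      rw [h5, octT.pol_smul]
  have h5 := (hent (zpowers x) (by rw [Nat.card_zpowers, hx])).1
  have h6 : g' ∈ centralizer ((zpowers x : Subgroup T8) : Set T8) := by
    rw [zpowers_eq_closure, centralizer_closure, mem_centralizer_singleton_iff]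
    exact hcomm.symm
  have h7 : orderOf g' ∣ 7 := by
    rw [← Subgroup.orderOf_mk g' h6]
    exact (_root_.orderOf_dvd_natCard _).trans (by simpa only [_root_.mul_one] using h5)
  rcases (Nat.dvd_prime h7p.out).1 h7 with h8 | h8
  · have h9 : g' = 1 := orderOf_eq_one_iff.1 h8
    rw [h9] at h3
    have h10 : fx V8 (1 : T8) = ⊤ := by
      rw [eq_top_iff]; intro v _; exact one_smul T8 v
    rw [h10, AddSubgroup.card_top, octT.card (G := T8)] at h3
    norm_num at h3
  · have h9 := octT.card_fx_mod h7p.out h8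
    rw [h3] at h9
    exact absurd h9 (by decide)


/-! ### criteria -/

theorem miss_of_order {R : Subgroup T8} {x : T8} {n : ℕ} (hx : orderOf x = n) (h : ∀ y ∈ R, orderOf y ≠ n)
    (φ : T8 ≃* T8) : φ x ∉ R := fun hφ => h _ hφ (by rw [MulEquiv.orderOf_eq, hx])

theorem ne_of_order {x y : T8} {n m : ℕ} (hx : orderOf x = n) (hy : orderOf y = m) (h : n ≠ m) (φ : T8 ≃* T8) :
    φ x ≠ y := fun hφ => h (by rw [← hx, ← hy, ← hφ, MulEquiv.orderOf_eq])

/-- class 3C is missed -/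
theorem L3C {R : Subgroup T8} (h : ∀ φ : T8 ≃* T8, φ (tw9 ^ 3) ∉ R) : Three T8 R := by
  refine ⟨tw9 ^ 3, tw9, t6, h, fun φ hφ => h φ ?_, fun φ hφ => h ((MulAut.conj (e8 h6)).trans φ) ?_,
    ne_of_order order_tw9_3 order_tw9 (by norm_num), ne_of_order order_tw9_3 order_t6 (by norm_num),
    ne_of_order order_tw9 order_t6 (by norm_num)⟩
  · rw [map_pow]; exact R.pow_mem hφ 3
  · have h1 : ((MulAut.conj (e8 h6)).trans φ) (tw9 ^ 3) = φ (t6 ^ 4) := by
      rw [t6_conj]; rfl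
    rw [h1, map_pow]
    exact R.pow_mem hφ 4

/-- all the elements of order 3 are cubes: the classes 3A, 3B, 15 are missed -/
theorem three_of_cube {R : Subgroup T8} (h : ∀ a ∈ R, orderOf a = 3 → ∃ y : T8, orderOf y = 9 ∧ y ^ 3 = a) :
    Three T8 R := by
  have hA : ∀ φ : T8 ≃* T8, φ (tz1 ^ 5) ∉ R := by
    intro φ hφ
    obtain ⟨y, hy, hy3⟩ := h _ hφ (by rw [MulEquiv.orderOf_eq, order_tz1_5])
    have h4 := (octT.cube_nine hy).1
    rw [hy3] at h4
    have h6 := octT.three_five (a := φ (tz1 ^ 5)) (y := φ (tz1 ^ 3)) (by rw [MulEquiv.orderOf_eq, order_tz1_5])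
      (by rw [MulEquiv.orderOf_eq, order_tz1_3]) (by
        rw [← map_mul, ← map_mul, ← pow_add, ← pow_add])
    rw [h4] at h6
    rcases h6 with h6 | h6
    · exact absurd h6.2 (by norm_num)
    · exact absurd h6.2.1 (by norm_num)
  refine ⟨tz1 ^ 5, b3, tz1, hA, fun φ hφ => ?_, fun φ hφ => hA φ ?_, fun φ hφ => ?_,
    ne_of_order order_tz1_5 order_tz1 (by norm_num), ne_of_order order_b3 order_tz1 (by norm_num)⟩
  · obtain ⟨y, hy, hy3⟩ := h _ hφ (by rw [MulEquiv.orderOf_eq, order_b3])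
    have h4 := (octT.cube_nine (y := φ.symm y) (by rw [MulEquiv.orderOf_eq, hy])).1
    rw [← map_pow, hy3, φ.symm_apply_apply, card_b3] at h4
    norm_num at h4
  · rw [map_pow]; exact R.pow_mem hφ 5
  · have h6 := octT.three_five (a := b3) (y := φ (tz1 ^ 3)) order_b3
      (by rw [MulEquiv.orderOf_eq, order_tz1_3]) (by
        rw [← hφ, ← map_mul, ← map_mul, ← pow_add, ← pow_add])
    rw [card_b3] at h6
    rcases h6 with h6 | h6
    · exact absurd h6.2 (by norm_num)
    · exact absurd h6.2.1 (by norm_num)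

/-- elements of a cyclic group generated by a cube -/
theorem cube_mem {y b : T8} (hy : orderOf y = 9) (hb : b ∈ zpowers (y ^ 3)) (hb1 : b ≠ 1) :
    ∃ w : T8, orderOf w = 9 ∧ w ^ 3 = b := by
  obtain ⟨n, hn⟩ := (isOfFinOrder_of_finite (y ^ 3)).mem_powers_iff_mem_zpowers.2 hb
  have hn' : (y ^ 3) ^ n = b := hn
  refine ⟨y ^ n, ?_, by rw [← pow_mul, mul_comm, pow_mul, hn']⟩
  have h3 : Fact (Nat.Prime 3) := ⟨Nat.prime_three⟩
  refine orderOf_eq_prime_pow (p := 3) (n := 1) ?_ ?_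
  · rw [pow_one, ← pow_mul, mul_comm, pow_mul, hn']; exact hb1
  · have h9 : y ^ 9 = 1 := by rw [← hy, pow_orderOf_eq_one]
    show (y ^ n) ^ (3 ^ (1 + 1)) = 1
    rw [← pow_mul, mul_comm, pow_mul, show 3 ^ (1 + 1) = 9 by norm_num, h9, one_pow]

theorem cube_conj {a m y : T8} (hy : orderOf y = 9) (h : y ^ 3 = m * a * m⁻¹) : ∃ w : T8, orderOf w = 9 ∧ w ^ 3 = a := by
  refine ⟨m⁻¹ * y * m⁻¹⁻¹, by rw [orderOf_conj, hy], ?_⟩
  rw [conj_pow, h]
  group

/-- subgroups of order prime to 9 -/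
theorem T9 {R : Subgroup T8} (h9 : ¬ 9 ∣ Nat.card R) : Three T8 R := by
  by_cases h : ∀ φ : T8 ≃* T8, φ (tw9 ^ 3) ∉ R
  · exact L3C h
  · push Not at h
    obtain ⟨φ, hφ⟩ := h
    rw [map_pow] at hφ
    have hy : orderOf (φ tw9) = 9 := by rw [MulEquiv.orderOf_eq, order_tw9]
    refine three_of_cube fun a ha hao => ?_
    obtain ⟨m, hm, hmt⟩ := exists_conj_mem (M := R) (p := 3) (k := 1) Nat.prime_three (W := zpowers (φ tw9 ^ 3))
      (by rw [Nat.card_zpowers, orderOf_pow' _ (by norm_num), hy]; decide) (by rwa [zpowers_le])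
      (by simpa only [_root_.Nat.reduceAdd, _root_.Nat.reducePow] using h9) ha hao
    obtain ⟨w, hw, hw3⟩ := cube_mem hy hmt (by
      intro h1
      rw [conj_eq_one_iff] at h1
      rw [h1, orderOf_one] at hao
      norm_num at hao)
    exact cube_conj hw hw3

/-- subgroups of order prime to 27 -/
theorem T27 {R : Subgroup T8} (h27 : ¬ 27 ∣ Nat.card R) : Three T8 R ∨ ∀ y ∈ R, orderOf y ≠ 9 := by
  by_cases h : ∀ y ∈ R, orderOf y ≠ 9
  · exact Or.inr h
  · left
    push Not at h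
    obtain ⟨y, hyR, hy⟩ := h
    refine three_of_cube fun a ha hao => ?_
    obtain ⟨m, hm, hmt⟩ := exists_conj_mem (M := R) (p := 3) (k := 2) Nat.prime_three (W := zpowers y)
      (by rw [Nat.card_zpowers, hy]; norm_num) (by rwa [zpowers_le])
      (by simpa only [_root_.Nat.reduceAdd, _root_.Nat.reducePow] using h27) ha hao
    have hto : orderOf (m * a * m⁻¹) = 3 := by rw [orderOf_conj, hao]
    obtain ⟨k, hk⟩ := cube_eq_pow hy hmt hto
    have hw3 : orderOf (y ^ 3) = 3 := by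
      rw [orderOf_pow' _ (by norm_num), hy]; decide
    have h1 : zpowers (y ^ 3) = zpowers (m * a * m⁻¹) := by
      refine Subgroup.eq_of_le_of_card_ge (zpowers_le.2 (by rw [← hk]; exact pow_mem (mem_zpowers _) k)) ?_
      rw [Nat.card_zpowers, Nat.card_zpowers, hw3, hto]
    obtain ⟨w, hw, hw3'⟩ := cube_mem (b := m * a * m⁻¹) hy (by rw [h1]; exact mem_zpowers _) (by
      intro h1
      rw [h1, orderOf_one] at hto
      norm_num at hto)
    exact cube_conj hw hw3'

/-- the index is not 1 modulo the primes dividing `|Out|` -/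
theorem noOne {R : Subgroup T8} (h2 : ¬ 4096 ∣ Nat.card R) (h3 : ¬ 243 ∣ Nat.card R) : NoOne T8 R := by
  intro s hs hd hone
  have hns := noSyl h2 h3
  have hmul := R.index_mul_card
  rw [card_t8] at hmul
  have h1 := S2607.result (F := ZMod 2) (f := 1) (m := 4) le_rfl (by rw [ZMod.card]; norm_num) le_rfl
  rw [if_pos rfl] at h1
  obtain ⟨e⟩ := h1
  have h4 : Nat.card (Cfsg.Out T8) = 6 := by
    have h5 : Nat.card (Cfsg.Out T8) = Nat.card (Equiv.Perm (Fin 3) × Multiplicative (ZMod 1)) := Nat.card_congr e.toEquiv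
    rw [h5, Nat.card_prod, Nat.card_perm, Nat.card_congr Multiplicative.toAdd, Nat.card_zmod,
      Nat.card_eq_fintype_card, Fintype.card_fin]
    decide
  rw [h4] at hd
  have h5 : s = 2 ∨ s = 3 := by
    rcases (Nat.Prime.dvd_mul hs).1 (show s ∣ 2 * 3 from hd) with h6 | h6
    · exact Or.inl ((Nat.prime_dvd_prime_iff_eq hs Nat.prime_two).1 h6)
    · exact Or.inr ((Nat.prime_dvd_prime_iff_eq hs Nat.prime_three).1 h6)
  have key : ∀ (p k : ℕ), p.Prime → p ^ k ∣ 174182400 → ¬ p ^ k ∣ Nat.card R → p ∣ R.index := by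
    intro p k hp h6 h7
    by_contra h8
    apply h7
    have h9 : Nat.Coprime (p ^ k) R.index := Nat.Coprime.pow_left _ ((Nat.Prime.coprime_iff_not_dvd hp).2 h8)
    refine h9.dvd_of_dvd_mul_left ?_
    rw [hmul]; exact h6
  have h6 : s ∣ R.index := by
    rcases h5 with rfl | rfl
    · exact key 2 12 Nat.prime_two (by norm_num) (by norm_num only []; exact h2)
    · exact key 3 5 Nat.prime_three (by norm_num) (by norm_num; exact h3)
  have h7 : R.index ≡ 0 [MOD s] := (Nat.modEq_zero_iff_dvd).2 h6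
  have h8 : 1 ≡ 0 [MOD s] := hone.symm.trans h7
  have h9 : s ∣ 1 := (Nat.modEq_zero_iff_dvd).1 h8
  exact hs.one_lt.ne' (Nat.dvd_one.1 h9)

/-- `5 ∤ |R|` -/
theorem T5 {R : Subgroup T8} (h5 : ¬ 5 ∣ Nat.card R) : Three T8 R := by
  refine ⟨tz1 ^ 3, t10, tz1, not_mem_of_dvd h5 (by rw [order_tz1_3]), not_mem_of_dvd h5 (by rw [order_t10]; norm_num),
    not_mem_of_dvd h5 (by rw [order_tz1]; norm_num), ne_of_order order_tz1_3 order_t10 (by norm_num),
    ne_of_order order_tz1_3 order_tz1 (by norm_num), ne_of_order order_t10 order_tz1 (by norm_num)⟩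

/-- `O₂(R) ≠ 1` and `5 ∣ |R|` -/
theorem TO2 {R : Subgroup T8} (h5 : 5 ∣ Nat.card R) (hO : pCore 2 R ≠ ⊥) : Three T8 R := by
  have h2 : Fact (Nat.Prime 2) := ⟨Nat.prime_two⟩
  have h5p : Fact (Nat.Prime 5) := ⟨Nat.prime_five⟩
  have hn := Lib.Cores.pCore_normal (G := R) 2
  obtain ⟨U, hU0, hinv, hts⟩ := octT.exists_ts (P := (pCore 2 R).map R.subtype) (M := R)
    ((Lib.Cores.pCore_isPGroup (G := R) 2).map _) (by
      rintro _ ⟨y, -, rfl⟩; exact y.2) (by
      intro h
      exact hO ((Subgroup.map_eq_bot_iff_of_injective _ R.subtype_injective).1 h)) (by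
      rintro g hg _ ⟨p, hp, rfl⟩
      refine ⟨(⟨g, hg⟩ : R)⁻¹ * p * ⟨g, hg⟩, ?_, rfl⟩
      have := hn.conj_mem p hp (⟨g, hg⟩ : R)⁻¹
      rwa [inv_inv] at this) (fun p _ => no_128 p)
  obtain ⟨y, hy⟩ := exists_prime_orderOf_dvd_card' (G := R) 5 h5
  refine L3C fun φ hφ => ?_
  rw [map_pow] at hφ
  have hy9 : orderOf (φ tw9) = 9 := by rw [MulEquiv.orderOf_eq, order_tw9]
  obtain ⟨h4, hs⟩ := octT.cube_nine hy9
  rcases octT.ts_card (c := φ tw9 ^ 3) (by rw [orderOf_pow' _ (by norm_num), hy9]; decide) h4 hs hts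
    (fun u hu => hinv _ hφ u hu) with h6 | h6
  · exact hU0 (AddSubgroup.eq_bot_of_card_eq _ h6)
  · exact octT.no_line5 (y := (y : T8)) (by rw [Subgroup.orderOf_coe, hy]) hts h6 fun u hu => hinv _ y.2 u hu

end Cfsg.Agent.H547.Der.Eight
end

-- part: H547/Der/OctO
section
/-!
# Quadratic space with 256 vectors: subgroups without solvable normal subgroups, second part (helper547, for S3502)
-/

set_option autoImplicit false

namespace Cfsg.Agent.H547.Der.Oc

open MulAction Subgroup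

/-- elements of order 3 in simple groups with Sylow 3-subgroups of order 3 are real -/
theorem real_three {X : Type*} [Group X] [Finite X] (hs : IsSimpleGroup X) (h9 : ¬ 9 ∣ Nat.card X) (hX : Nat.card X ≠ 3)
    {b : X} (hb : orderOf b = 3) : ∃ g : X, g * b * g⁻¹ = b⁻¹ := by
  classical
  have h3p : Fact (Nat.Prime 3) := ⟨Nat.prime_three⟩
  have hz : Nat.card (zpowers b) = 3 := by rw [Nat.card_zpowers, hb]
  obtain ⟨P, hP⟩ := (IsPGroup.of_card (p := 3) (n := 1) (by rw [hz, pow_one]) : IsPGroup 3 (zpowers b)).exists_le_sylow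
  have hPz : (P : Subgroup X) = zpowers b := by
    obtain ⟨k, hk⟩ := IsPGroup.iff_card.1 P.2
    have hk2 : k < 2 := by
      by_contra hcon
      push Not at hcon
      apply h9
      have h1 : 3 ^ 2 ∣ 3 ^ k := pow_dvd_pow 3 hcon
      rw [← hk] at h1
      exact (by simpa only [_root_.Nat.reducePow] using h1 : 9 ∣ Nat.card P).trans (Subgroup.card_subgroup_dvd_card _)
    symm
    apply Subgroup.eq_of_le_of_card_ge hP
    have hk' : Nat.card (P : Subgroup X) = 3 ^ k := hk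
    rw [hk', hz]
    calc 3 ^ k ≤ 3 ^ 1 := Nat.pow_le_pow_right (by norm_num) (by omega)
      _ = 3 := pow_one 3
  by_contra hcon
  push Not at hcon
  have hb3 : b ^ 3 = 1 := by rw [← hb, pow_orderOf_eq_one]
  have hNC : normalizer ((P : Subgroup X) : Set X) ≤ centralizer ((P : Subgroup X) : Set X) := by
    intro g hg
    rw [hPz] at hg ⊢
    have h1 : g * b * g⁻¹ ∈ zpowers b := (mem_normalizer_iff.1 hg b).1 (mem_zpowers b)
    obtain ⟨k, hk⟩ := (isOfFinOrder_of_finite b).mem_powers_iff_mem_zpowers.2 h1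
    have hk' : b ^ k = g * b * g⁻¹ := hk
    rw [← pow_mod_orderOf, hb] at hk'
    have h4 : k % 3 = 0 ∨ k % 3 = 1 ∨ k % 3 = 2 := by omega
    rcases h4 with h4 | h4 | h4
    · rw [h4, pow_zero] at hk'
      have h5 : b = 1 := conj_eq_one_iff.1 hk'.symm
      rw [h5, orderOf_one] at hb
      norm_num at hb
    · rw [h4, pow_one] at hk'
      rw [zpowers_eq_closure, centralizer_closure, mem_centralizer_singleton_iff]
      exact (mul_inv_eq_iff_eq_mul.1 hk'.symm)
    · exfalso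
      apply hcon g
      rw [← hk', h4]
      exact eq_inv_of_mul_eq_one_left (by rw [← pow_succ, hb3])
  have h1 := MonoidHom.ker_transferSylow_isComplement' P hNC
  have h2 := MonoidHom.not_dvd_card_ker_transferSylow P hNC
  rcases hs.eq_bot_or_eq_top_of_normal (MonoidHom.transferSylow P hNC).ker inferInstance with h3 | h3
  · rw [h3] at h1
    have h4 := h1.card_mul_card
    rw [Subgroup.card_bot, one_mul, hPz, hz] at h4
    exact hX h4.symm
  · rw [h3, Subgroup.card_top] at h2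
    exact h2 (by rw [← hz]; exact Subgroup.card_subgroup_dvd_card _)

variable {G V : Type*} [Group G] [AddCommGroup V] [DistribMulAction G V] {q : V → ZMod 2}

theorem fx_sq {x : G} (hx : x ^ 3 = 1) : fx V (x ^ 2) = fx V x := by
  apply le_antisymm
  · have h := fx_le_pow (V := V) (x ^ 2) 2
    have h2 : (x ^ 2) ^ 2 = x := by
      rw [← pow_mul, show 2 * 2 = 3 + 1 by norm_num, pow_succ, hx, one_mul]
    rwa [h2] at h
  · exact fx_le_pow x 2

namespace Oct

variable (A : Oct G V q)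

include A

/-- **normal 5-subgroups** -/
theorem no_normal5' {M : Subgroup G} (P : Subgroup M) [hPn : P.Normal] (hP : IsPGroup 5 P) (hP1 : P ≠ ⊥)
    (h125 : ¬ 125 ∣ Nat.card M) (hM : 9 ∣ Nat.card M) : False := by
  classical
  have := A.finG
  have h5 : Fact (Nat.Prime 5) := ⟨by norm_num⟩
  have h3p : Fact (Nat.Prime 3) := ⟨Nat.prime_three⟩
  obtain ⟨j, hj⟩ := IsPGroup.iff_card.1 hP
  have hj0 : j ≠ 0 := by
    rintro rfl
    exact hP1 (Subgroup.eq_bot_of_card_eq _ (by rw [hj, pow_zero]))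
  have hj3 : j < 3 := by
    by_contra hcon
    push Not at hcon
    apply h125
    have h1 : 5 ^ 3 ∣ 5 ^ j := pow_dvd_pow 5 hcon
    rw [← hj] at h1
    exact (by simpa only [_root_.Nat.reducePow] using h1 : 125 ∣ Nat.card P).trans (Subgroup.card_subgroup_dvd_card P)
  have hj2 : j = 1 ∨ j = 2 := by omega
  rcases hj2 with rfl | rfl
  · rw [pow_one] at hj
    have hcyc : IsCyclic P := isCyclic_of_prime_card hj
    set! f : M →* MulAut P := MulAut.conjNormal with hf
    have h1 : Nat.card (MulAut P) = 4 := by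
      rw [IsCyclic.card_mulAut, hj]; decide
    have h2 : Nat.card f.range ∣ 4 := by rw [← h1]; exact Subgroup.card_subgroup_dvd_card _
    have h3 : Nat.card f.ker * Nat.card f.range = Nat.card M := by
      rw [← Subgroup.index_ker, Subgroup.card_mul_index]
    have h4 : 9 ∣ Nat.card f.ker := by
      rw [← h3] at hM
      refine (Nat.Coprime.dvd_of_dvd_mul_right ?_ hM)
      exact Nat.Coprime.coprime_dvd_right h2 (by norm_num)
    obtain ⟨y, hy⟩ := exists_prime_orderOf_dvd_card' (G := P) 5 (by rw [hj])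
    refine A.not_nine_dvd (y := ((y : M) : G)) (by rw [Subgroup.orderOf_coe, Subgroup.orderOf_coe, hy])
      (M.subtype.comp f.ker.subtype) (M.subtype_injective.comp f.ker.subtype_injective) (fun x => ?_) h4
    have h5 : (f (x : M)) y = y := by
      rw [MonoidHom.mem_ker.1 x.2]; rfl
    have h6 := congrArg Subtype.val h5
    have h7 := (MulAut.conjNormal_apply (x : M) y).symm.trans h6
    exact congrArg (fun z : M => (z : G)) (mul_inv_eq_iff_eq_mul.1 h7)
  · obtain ⟨g, hg⟩ := exists_prime_orderOf_dvd_card' (G := M) 3 ((by norm_num : 3 ∣ 9).trans hM)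
    refine A.no_E (E := P.map M.subtype) ?_ (g := (g : G)) (by rw [Subgroup.orderOf_coe, hg]) ?_
    · rw [← Nat.card_congr (P.equivMapOfInjective _ M.subtype_injective).toEquiv, hj]; norm_num
    · rintro _ ⟨e, he, rfl⟩
      exact ⟨g * e * g⁻¹, hPn.conj_mem e he g, rfl⟩

theorem no_pair {R : Subgroup G} (h27 : ¬ 27 ∣ Nat.card R) {a b y z g c : G} (ha : a ∈ R) (hb : b ∈ R)
    (hao : orderOf a = 3) (hbo : orderOf b = 3) (hab : a * b = b * a) (hne : b ∉ zpowers a) (hy : orderOf y = 5)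
    (hz : orderOf z = 5) (hay : a * y = y * a) (hbz : b * z = z * b) (hga : g * a * g⁻¹ = a)
    (hgb : g * b * g⁻¹ = b⁻¹) (hc : c ∈ R) (hco : orderOf c = 3) (hc4 : Nat.card (fx V c) = 4) : False := by
  have hfin := A.finG
  have ha3 := A.pow_three hao
  have hb3 := A.pow_three hbo
  have hcab : Commute a b := hab
  set! f : zpowers a × zpowers b →* G := MonoidHom.noncommCoprod (zpowers a).subtype (zpowers b).subtype (by
    rintro ⟨u, hu⟩ ⟨v, hv⟩
    obtain ⟨i, rfl⟩ := mem_zpowers_iff.1 hu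
    obtain ⟨j, rfl⟩ := mem_zpowers_iff.1 hv
    exact hcab.zpow_zpow i j) with hf
  have hfi : Function.Injective f := by
    rw [injective_iff_map_eq_one]
    rintro ⟨⟨u, hu⟩, ⟨v, hv⟩⟩ huv
    have h1 : u * v = 1 := huv
    have h2 : v ∈ zpowers a := by
      rw [eq_inv_of_mul_eq_one_right h1]; exact inv_mem hu
    have h3 : v = 1 := by
      by_contra hv1
      apply hne
      have h4 : zpowers v = zpowers b := by
        have h5 : zpowers v ≤ zpowers b := by rwa [zpowers_le]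
        refine Subgroup.eq_of_le_of_card_ge h5 ?_
        have h6 := Subgroup.card_dvd_of_le h5
        rw [Nat.card_zpowers b, hbo] at h6 ⊢
        rcases (Nat.dvd_prime Nat.prime_three).1 h6 with h7 | h7
        · exfalso
          rw [Nat.card_zpowers, orderOf_eq_one_iff] at h7
          exact hv1 h7
        · exact h7.ge
      have h5 : b ∈ zpowers v := by rw [h4]; exact mem_zpowers b
      exact (zpowers_le.2 h2) h5
    have h4 : u = 1 := by rw [h3, mul_one] at h1; exact h1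
    exact Prod.ext (Subtype.ext h4) (Subtype.ext h3)
  have hW : Nat.card f.range = 3 ^ 2 := by
    rw [← Nat.card_congr (MonoidHom.ofInjective hfi).toEquiv, Nat.card_prod, Nat.card_zpowers, Nat.card_zpowers, hao, hbo]
    norm_num
  have hWR : f.range ≤ R := by
    rintro _ ⟨⟨⟨u, hu⟩, ⟨v, hv⟩⟩, rfl⟩
    exact R.mul_mem ((zpowers_le.2 ha) hu) ((zpowers_le.2 hb) hv)
  obtain ⟨m, hm, ⟨⟨u, hu⟩, ⟨v, hv⟩⟩, hmt⟩ := exists_conj_mem (M := R) (p := 3) (k := 2) Nat.prime_three hW hWR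
    (by simpa only [_root_.Nat.reduceAdd, _root_.Nat.reducePow] using h27) hc hco
  have hmt' : u * v = m * c * m⁻¹ := hmt
  have hc4' : Nat.card (fx V (u * v)) = 4 := by rw [hmt', card_fx_conj, hc4]
  have hne1 : u * v ≠ 1 := by
    intro h
    rw [hmt', conj_eq_one_iff] at h
    rw [h, orderOf_one] at hco
    norm_num at hco
  obtain ⟨i, hi⟩ := (isOfFinOrder_of_finite a).mem_powers_iff_mem_zpowers.2 hu
  obtain ⟨j, hj⟩ := (isOfFinOrder_of_finite b).mem_powers_iff_mem_zpowers.2 hv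
  have hi' : a ^ i = u := hi
  have hj' : b ^ j = v := hj
  rw [← pow_mod_orderOf, hao] at hi'
  rw [← pow_mod_orderOf, hbo] at hj'
  have hfa : Nat.card (fx V a) = 1 ∨ Nat.card (fx V a) = 64 := by
    rcases A.three_five hao hy hay with h | h
    · exact Or.inl h.2
    · exact Or.inr h.2.1
  have hfb : Nat.card (fx V b) = 1 ∨ Nat.card (fx V b) = 64 := by
    rcases A.three_five hbo hz hbz with h | h
    · exact Or.inl h.2
    · exact Or.inr h.2.1
  have hconj : Nat.card (fx V (a * b ^ 2)) = Nat.card (fx V (a * b)) := by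
    have h1 : a * b ^ 2 = g * (a * b) * g⁻¹ := by
      have h2 : b ^ 2 = b⁻¹ := eq_inv_of_mul_eq_one_left (by rw [← pow_succ, hb3])
      calc a * b ^ 2 = (g * a * g⁻¹) * (g * b * g⁻¹) := by rw [hga, hgb, h2]
        _ = _ := by group
    rw [h1, card_fx_conj]
  have hab4 : Nat.card (fx V (a * b)) = 4 := by
    have h1 : i % 3 = 0 ∨ i % 3 = 1 ∨ i % 3 = 2 := by omega
    have h2 : j % 3 = 0 ∨ j % 3 = 1 ∨ j % 3 = 2 := by omega
    have hp1 : (a * b) ^ 3 = 1 := by rw [hcab.mul_pow, ha3, hb3, one_mul]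
    have hp2 : (a * b ^ 2) ^ 3 = 1 := by
      rw [(hcab.pow_right 2).mul_pow, ha3, ← pow_mul, show 2 * 3 = 3 * 2 by norm_num, pow_mul, hb3, one_pow, one_mul]
    have hs1 : (a * b) ^ 2 = a ^ 2 * b ^ 2 := by rw [hcab.mul_pow]
    have hs2 : (a * b ^ 2) ^ 2 = a ^ 2 * b := by
      rw [(hcab.pow_right 2).mul_pow, ← pow_mul, show 2 * 2 = 3 + 1 by norm_num, pow_succ b 3, hb3, one_mul]
    rcases h1 with h1 | h1 | h1 <;> rcases h2 with h2 | h2 | h2 <;> rw [h1] at hi' <;> rw [h2] at hj' <;>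
      rw [← hi', ← hj'] at hc4' hne1
    · simp at hne1
    · rw [pow_zero, one_mul, pow_one] at hc4'
      rw [hc4'] at hfb; omega
    · rw [pow_zero, one_mul, fx_sq hb3] at hc4'
      rw [hc4'] at hfb; omega
    · rw [pow_zero, mul_one, pow_one] at hc4'
      rw [hc4'] at hfa; omega
    · rwa [pow_one, pow_one] at hc4'
    · rwa [pow_one, hconj] at hc4'
    · rw [pow_zero, mul_one, fx_sq ha3] at hc4'
      rw [hc4'] at hfa; omega
    · rwa [pow_one, ← hs2, fx_sq hp2, hconj] at hc4'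
    · rwa [← hs1, fx_sq hp1] at hc4'
  have h9 := A.sum_nine hab ha3 hb3
  rw [hconj, hab4] at h9
  rcases hfa with h1 | h1 <;> rcases hfb with h2 | h2 <;> rw [h1, h2] at h9 <;> norm_num at h9

theorem no_two {M : Subgroup G} (h27 : ¬ 27 ∣ Nat.card M) {H K : Type*} [Group H] [Group K] [Finite H] [Finite K]
    (f : H →* M) (k : K →* M) (hf : Function.Injective f) (hk : Function.Injective k)
    (hcomm : ∀ x y, f x * k y = k y * f x) (hdis : ∀ x y, f x = k y → y = 1) (hH3 : 3 ∣ Nat.card H)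
    (hH5 : 5 ∣ Nat.card H) (hK : IsSimpleGroup K) (hK60 : Nat.card K = 60)
    {c : G} (hc : c ∈ M) (hco : orderOf c = 3) (hc4 : Nat.card (fx V c) = 4) : False := by
  have h3p : Fact (Nat.Prime 3) := ⟨Nat.prime_three⟩
  have h5p : Fact (Nat.Prime 5) := ⟨Nat.prime_five⟩
  obtain ⟨a, ha⟩ := exists_prime_orderOf_dvd_card' (G := H) 3 hH3
  obtain ⟨z, hz⟩ := exists_prime_orderOf_dvd_card' (G := H) 5 hH5
  obtain ⟨b, hb⟩ := exists_prime_orderOf_dvd_card' (G := K) 3 (by rw [hK60]; norm_num)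
  obtain ⟨y, hy⟩ := exists_prime_orderOf_dvd_card' (G := K) 5 (by rw [hK60]; norm_num)
  obtain ⟨g, hg⟩ := real_three hK (by rw [hK60]; norm_num) (by rw [hK60]; norm_num) hb
  have hc1 : ∀ x y, (f x : G) * (k y : G) = (k y : G) * (f x : G) := fun x y => congrArg (fun w : M => (w : G)) (hcomm x y)
  refine A.no_pair h27 (a := (f a : G)) (b := (k b : G)) (y := (k y : G)) (z := (f z : G)) (g := (k g : G))
    (f a).2 (k b).2 (by rw [Subgroup.orderOf_coe, orderOf_injective f hf, ha])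
    (by rw [Subgroup.orderOf_coe, orderOf_injective k hk, hb]) (hc1 _ _) (fun h => ?_)
    (by rw [Subgroup.orderOf_coe, orderOf_injective k hk, hy])
    (by rw [Subgroup.orderOf_coe, orderOf_injective f hf, hz]) (hc1 _ _) (hc1 _ _).symm ?_ ?_ hc hco hc4
  · obtain ⟨n, hn⟩ := mem_zpowers_iff.1 h
    have h1 : f (a ^ n) = k b := by
      rw [map_zpow]
      exact Subtype.ext (by rw [← hn]; simp)
    have h2 := hdis _ _ h1
    rw [h2, orderOf_one] at hb
    norm_num at hb
  · rw [mul_inv_eq_iff_eq_mul]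
    exact (hc1 _ _).symm
  · have h1 : k g * k b * (k g)⁻¹ = (k b)⁻¹ := by rw [← map_mul, ← map_inv, ← map_mul, hg, map_inv]
    exact congrArg (fun w : M => (w : G)) h1

/-- **subgroups without solvable normal subgroups, containing a cube of an element of order 9**: almost simple -/
theorem simple_case {M : Subgroup G} (h9M : 9 ∣ Nat.card M) (h125 : ¬ 125 ∣ Nat.card M)
    (tab : ∀ (X : Type) [Group X] [Finite X], IsSimpleGroup X → (¬ ∀ a b : X, a * b = b * a) →
      Nat.card X ∣ Nat.card M → Tab X) (hcon : ∀ p : ℕ, p.Prime → pCore p M = ⊥)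
    {c : G} (hc : c ∈ M) (hco : orderOf c = 3) (hc4 : Nat.card (fx V c) = 4) :
    ∃ (N : Subgroup M) (X : Type) (_ : Group X) (_ : Finite X), N.Normal ∧ IsSimpleGroup X ∧ Nonempty (N ≃* X) ∧
      Nat.card M ∣ Nat.card (MulAut X) ∧ Tab X := by
  classical
  have := A.finG
  have h5p : Fact (Nat.Prime 5) := ⟨by norm_num⟩
  have hcN : ∀ (N : Subgroup M) (X : Type) [Group X] (m : ℕ) (_ : N ≃* (Fin m → X)), Nat.card N = Nat.card X ^ m := by
    intro N X _ m e
    rw [Nat.card_congr e.toEquiv, Nat.card_fun, Nat.card_eq_fintype_card (α := Fin m), Fintype.card_fin]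
  have hsi : ∀ (X : Type) [Group X] (m : ℕ) (i : Fin m), Function.Injective (MonoidHom.mulSingle (fun _ : Fin m => X) i) :=
    fun X _ m i a b hab => by
      have h1 := congrFun (show Pi.mulSingle (M := fun _ : Fin m => X) i a = Pi.mulSingle i b from hab) i
      rwa [Pi.mulSingle_eq_same, Pi.mulSingle_eq_same] at h1
  have htop : (⊤ : Subgroup M) ≠ ⊥ := by
    intro h
    have h1 : Nat.card (⊤ : Subgroup M) = 1 := by rw [h]; exact Subgroup.card_bot
    rw [Subgroup.card_top] at h1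
    rw [h1] at h9M
    norm_num at h9M
  obtain ⟨N, hN, -, X, _, m, hs, hf, hna, hm, ⟨e⟩⟩ := exists_simple hcon ⊤ inferInstance htop
  have hNX := hcN N X m e
  have hXN : Nat.card X ∣ Nat.card N := by rw [hNX]; exact dvd_pow_self _ hm.ne'
  have hT := tab X hs hna (hXN.trans (card_subgroup_dvd_card N))
  obtain ⟨x5, hx5⟩ := exists_prime_orderOf_dvd_card' (G := X) 5 hT.five
  by_cases hm1 : m = 1
  · subst hm1
    have e1 : N ≃* X := e.trans (MulEquiv.funUnique (Fin 1) X)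
    rw [pow_one] at hNX
    set! C : Subgroup M := centralizer (N : Set M) with hC
    have hCn : C.Normal := Subgroup.normal_centralizer
    obtain ⟨y', hy'⟩ := exists_prime_orderOf_dvd_card' (G := N) 5 (by rw [hNX]; exact hT.five)
    by_cases hCb : C = ⊥
    · have hinj : Function.Injective (MulAut.conjNormal (H := N)) := by
        rw [← MonoidHom.ker_eq_bot_iff, eq_bot_iff]
        intro x hx
        rw [← hCb, hC, mem_centralizer_iff]
        intro z hz
        have h1 : (MulAut.conjNormal x : MulAut N) ⟨z, hz⟩ = ⟨z, hz⟩ := by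
          rw [MonoidHom.mem_ker.1 hx]; rfl
        have h2 := congrArg Subtype.val h1
        rw [MulAut.conjNormal_apply] at h2
        exact (mul_inv_eq_iff_eq_mul.1 h2).symm
      have h1 : Nat.card M ∣ Nat.card (MulAut X) := by
        have h2 := Subgroup.card_dvd_of_injective _ hinj
        rwa [Nat.card_congr (MulAut.congr e1).toEquiv] at h2
      exact ⟨N, X, inferInstance, hf, hN, hs, ⟨e1⟩, h1, hT⟩
    · exfalso
      obtain ⟨N', hN', hNC', X', _, m', hs', hf', hna', hm', ⟨e'⟩⟩ := exists_simple hcon C hCn hCb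
      have hNX' := hcN N' X' m' e'
      have hXN' : Nat.card X' ∣ Nat.card N' := by rw [hNX']; exact dvd_pow_self _ hm'.ne'
      have hXC' : Nat.card X' ∣ Nat.card C := hXN'.trans (card_dvd_of_le hNC')
      have hT' := tab X' hs' hna' (hXC'.trans (card_subgroup_dvd_card C))
      have h5C : 5 ∣ Nat.card C := hT'.five.trans hXC'
      obtain ⟨y, hy⟩ := exists_prime_orderOf_dvd_card' (G := C) 5 h5C
      have h9N : ¬ 9 ∣ Nat.card N := by
        refine A.not_nine_dvd (y := ((y : M) : G)) (by rw [Subgroup.orderOf_coe, Subgroup.orderOf_coe, hy])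
          (M.subtype.comp N.subtype) (M.subtype_injective.comp N.subtype_injective) fun x => ?_
        exact congrArg (fun z : M => (z : G)) ((mem_centralizer_iff.1 y.2) x x.2)
      have h9C : ¬ 9 ∣ Nat.card C := by
        refine A.not_nine_dvd (y := ((y' : M) : G)) (by rw [Subgroup.orderOf_coe, Subgroup.orderOf_coe, hy'])
          (M.subtype.comp C.subtype) (M.subtype_injective.comp C.subtype_injective) fun x => ?_
        exact congrArg (fun z : M => (z : G)) ((mem_centralizer_iff.1 x.2) y' y'.2).symm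
      have h60 : Nat.card N = 60 := by
        rw [hNX] at h9N ⊢
        exact hT.sixty h9N
      have h60' : Nat.card X' = 60 := hT'.sixty fun h => h9C (h.trans hXC')
      have hNC : N ⊓ C = ⊥ := by
        rw [eq_bot_iff]
        rintro x ⟨hx1, hx2⟩
        have h1 : (⟨x, hx1⟩ : N) ∈ center N := mem_center_iff.2 fun z => Subtype.ext ((mem_centralizer_iff.1 hx2) z z.2)
        have h2 : center X = ⊥ := by
          rcases hs.eq_bot_or_eq_top_of_normal (center X) inferInstance with h | h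
          · exact h
          · exfalso
            apply hna
            intro a b
            have h3 : b ∈ center X := by rw [h]; trivial
            exact mem_center_iff.1 h3 a
        have h3 : e1 ⟨x, hx1⟩ ∈ center X := mem_center_iff.2 fun z => by
          obtain ⟨w, rfl⟩ := e1.surjective z
          rw [← map_mul, ← map_mul, mem_center_iff.1 h1 w]
        rw [h2, mem_bot, map_eq_one_iff e1 e1.injective] at h3
        exact mem_bot.2 (congrArg Subtype.val h3)
      have hK : Nat.card (N ⊔ C : Subgroup M) = 60 * Nat.card C := by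
        have h1 := Wiel.card_sup_mul (K := N) (H := C) (by rw [normalizer_eq_top]; exact le_top)
        rw [hNC, Subgroup.card_bot, mul_one, h60] at h1
        exact h1
      by_cases h27 : 27 ∣ Nat.card M
      · refine A.no_normal25 (N ⊔ C) ?_ h125 ?_ h27
        · rw [hK]
          obtain ⟨c, hc⟩ := h5C
          rw [hc]
          exact ⟨12 * c, by ring⟩
        · rw [hK]
          intro h
          apply h9C
          omega
      · set! i0 : Fin m' := ⟨0, hm'⟩
        set! k : X' →* M := (N'.subtype.comp e'.symm.toMonoidHom).comp (MonoidHom.mulSingle (fun _ : Fin m' => X') i0) with hk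
        have hki : Function.Injective k := (N'.subtype_injective.comp e'.symm.injective).comp (hsi X' m' i0)
        have hkC : ∀ x, k x ∈ C := fun x => hNC' (e'.symm (MonoidHom.mulSingle (fun _ : Fin m' => X') i0 x)).2
        refine A.no_two h27 N.subtype k N.subtype_injective hki (fun x y => ?_) (fun x y hxy => ?_)
          (by rw [h60]; norm_num) (by rw [h60]; norm_num) hs' h60' hc hco hc4
        · exact (mem_centralizer_iff.1 (hkC y)) x x.2
        · have h1 : k y ∈ N ⊓ C := ⟨by rw [← hxy]; exact x.2, hkC y⟩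
          rw [hNC, mem_bot, map_eq_one_iff k hki] at h1
          exact h1
  · -- two factors
    exfalso
    have hm2 : 2 ≤ m := by omega
    set! i0 : Fin m := ⟨0, by omega⟩
    set! i1 : Fin m := ⟨1, by omega⟩
    have hne : i0 ≠ i1 := by
      intro h
      have := congrArg Fin.val h
      norm_num [i0, i1] at this
    have hcm : ∀ x y : X, Commute (Pi.mulSingle i0 x : Fin m → X) (Pi.mulSingle i1 y) := by
      intro x y
      funext j
      rw [Pi.mul_apply, Pi.mul_apply]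
      by_cases hj : j = i0
      · subst hj
        rw [Pi.mulSingle_eq_of_ne hne, mul_one, one_mul]
      · rw [Pi.mulSingle_eq_of_ne hj, mul_one, one_mul]
    have h9X : ¬ 9 ∣ Nat.card X := by
      refine A.not_nine_dvd (y := (((e.symm (Pi.mulSingle i1 x5) : N) : M) : G)) ?_
        ((M.subtype.comp N.subtype).comp (e.symm.toMonoidHom.comp (MonoidHom.mulSingle (fun _ => X) i0)))
        ((M.subtype_injective.comp N.subtype_injective).comp (e.symm.injective.comp (hsi X m i0)))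
        fun x => ?_
      · rw [Subgroup.orderOf_coe, Subgroup.orderOf_coe, MulEquiv.orderOf_eq, ← hx5]
        exact orderOf_injective (MonoidHom.mulSingle (fun _ => X) i1) (hsi X m i1) x5
      · have h2 := (hcm x x5).map e.symm
        exact congrArg (fun z : N => ((z : M) : G)) h2.eq
    have h60 := hT.sixty h9X
    by_cases h27 : 27 ∣ Nat.card M
    · rw [h60] at hNX
      have hm3 : m < 3 := by
        by_contra h
        push Not at h
        apply h125
        have h1 : 60 ^ 3 ∣ Nat.card N := by rw [hNX]; exact pow_dvd_pow 60 h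
        exact ((by norm_num : 125 ∣ 60 ^ 3).trans h1).trans (card_subgroup_dvd_card N)
      have hm4 : m = 2 := by omega
      subst hm4
      refine A.no_normal25 N ?_ h125 ?_ h27 <;> rw [hNX] <;> norm_num
    · set! k0 : X →* M := (N.subtype.comp e.symm.toMonoidHom).comp (MonoidHom.mulSingle (fun _ : Fin m => X) i0) with hk0
      set! k1 : X →* M := (N.subtype.comp e.symm.toMonoidHom).comp (MonoidHom.mulSingle (fun _ : Fin m => X) i1) with hk1
      have hk0i : Function.Injective k0 := (N.subtype_injective.comp e.symm.injective).comp (hsi X m i0)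
      have hk1i : Function.Injective k1 := (N.subtype_injective.comp e.symm.injective).comp (hsi X m i1)
      refine A.no_two h27 k0 k1 hk0i hk1i (fun x y => ?_) (fun x y hxy => ?_)
        (by rw [h60]; norm_num) (by rw [h60]; norm_num) hs h60 hc hco hc4
      · have h2 := (hcm x y).map e.symm
        exact congrArg (fun z : N => (z : M)) h2.eq
      · have h1 : e.symm (Pi.mulSingle i0 x) = e.symm (Pi.mulSingle i1 y) := N.subtype_injective hxy
        have h2 := congrFun (e.symm.injective h1) i1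
        rw [Pi.mulSingle_eq_same, Pi.mulSingle_eq_of_ne hne.symm] at h2
        exact h2.symm

end Oct

end Cfsg.Agent.H547.Der.Oc
end

-- part: H547/Der/OctP
section
/-!
# `Ω⁺₈(2)`: subgroups of order prime to 7 (helper547, for S3502)
-/

set_option autoImplicit false

namespace Cfsg.Agent.H547.Der.Eight

open Subgroup Cfsg Cfsg.Agent.H503.El.O8 Cfsg.Agent.H547.Der.Oc Cfsg.Agent.H439.Der Cfsg.Agent Cfsg.Agent.H970.StabNum
open Cfsg.Agent.H396

theorem not_125 (R : Subgroup T8) : ¬ 125 ∣ Nat.card R := fun h => by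
  have := h.trans (card_subgroup_dvd_card R)
  rw [card_t8] at this
  norm_num at this

theorem pCore_eq_bot {R : Subgroup T8} {p : ℕ} (hp : p.Prime) (h : ¬ p ∣ Nat.card R) : pCore p R = ⊥ := by
  have hfp : Fact p.Prime := ⟨hp⟩
  obtain ⟨k, hk⟩ := IsPGroup.iff_card.1 (Lib.Cores.pCore_isPGroup (G := R) p)
  by_contra hcon
  have hk0 : k ≠ 0 := by
    rintro rfl
    exact hcon (Subgroup.eq_bot_of_card_eq _ (by rw [hk, pow_zero]))
  exact h (((dvd_pow_self p hk0).trans (by rw [hk])).trans (card_subgroup_dvd_card (pCore p R)))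

theorem exists_seven : ∃ x : T8, orderOf x = 7 := by
  have h7p : Fact (Nat.Prime 7) := ⟨by norm_num⟩
  exact exists_prime_orderOf_dvd_card' (G := T8) 7 (by rw [card_t8]; norm_num)

theorem tw9_v9 (g : T8) : g * tw9 * g⁻¹ ≠ v9 := fun h => by
  have h1 := card_v9
  rw [← h, card_fx_conj, card_tw9] at h1
  norm_num at h1

theorem conj_ne {x y : T8} {n m : ℕ} (hx : orderOf x = n) (hy : orderOf y = m) (h : n ≠ m) (g : T8) :
    g * x * g⁻¹ ≠ y := fun hg => h (by rw [← hx, ← hy, ← hg, orderOf_conj])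

theorem tz1_tz2 (g : T8) : g * tz1 * g⁻¹ ≠ tz2 := fun h => by
  have h1 := card_tz2
  rw [← h, conj_pow, card_fx_conj, card_tz1] at h1
  norm_num at h1

/-- order 9 and another element missed -/
theorem fin_nine {R : Subgroup T8} (h9 : ∀ y ∈ R, orderOf y ≠ 9) {x : T8} (hx : ∀ φ : T8 ≃* T8, φ x ∉ R)
    (hxo : orderOf x ≠ 9) (h2 : ¬ 4096 ∣ Nat.card R) (h3 : ¬ 243 ∣ Nat.card R) :
    ThreeT T8 R ∧ Two T8 R ∧ NoOne T8 R := by
  refine ⟨⟨tw9, v9, x, fun g => ?_, fun g => ?_, fun g => ?_, tw9_v9, conj_ne order_tw9 rfl (Ne.symm hxo),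
    conj_ne order_v9 rfl (Ne.symm hxo)⟩, ⟨tw9, x, miss_of_order order_tw9 h9, hx, ne_of_order order_tw9 rfl (Ne.symm hxo)⟩,
    noOne h2 h3⟩
  · exact fun h => h9 _ h (by rw [orderOf_conj, order_tw9])
  · exact fun h => h9 _ h (by rw [orderOf_conj, order_v9])
  · simpa only [_root_.MulAut.conj_apply] using hx (MulAut.conj g)

/-- order 15 and another element missed -/
theorem fin_fifteen {R : Subgroup T8} (h9 : ∀ y ∈ R, orderOf y ≠ 15) {x : T8} (hx : ∀ φ : T8 ≃* T8, φ x ∉ R)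
    (hxo : orderOf x ≠ 15) (h2 : ¬ 4096 ∣ Nat.card R) (h3 : ¬ 243 ∣ Nat.card R) :
    ThreeT T8 R ∧ Two T8 R ∧ NoOne T8 R := by
  refine ⟨⟨tz1, tz2, x, fun g => ?_, fun g => ?_, fun g => ?_, tz1_tz2, conj_ne order_tz1 rfl (Ne.symm hxo),
    conj_ne order_tz2 rfl (Ne.symm hxo)⟩, ⟨tz1, x, miss_of_order order_tz1 h9, hx, ne_of_order order_tz1 rfl (Ne.symm hxo)⟩,
    noOne h2 h3⟩
  · exact fun h => h9 _ h (by rw [orderOf_conj, order_tz1])
  · exact fun h => h9 _ h (by rw [orderOf_conj, order_tz2])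
  · simpa only [_root_.MulAut.conj_apply] using hx (MulAut.conj g)

/-- elements of odd order in a subgroup of index at most 2 -/
theorem mem_of_index {H : Type*} [Group H] {N : Subgroup H} [N.Normal] (h : N.index ∣ 2) {x : H} (hx : Odd (orderOf x)) :
    x ∈ N := by
  have h1 : x ^ 2 ∈ N := by
    obtain ⟨k, hk⟩ := h
    rw [hk, pow_mul]
    exact N.pow_mem (Subgroup.pow_index_mem N x) k
  obtain ⟨k, hk⟩ := hx
  have h2 : x = x ^ (orderOf x) * (x ^ 2) ^ (-(k : ℤ)) := by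
    rw [hk, ← zpow_natCast x 2, ← zpow_mul, ← zpow_natCast x (2 * k + 1), ← zpow_add]
    push_cast
    rw [show (2 * (k : ℤ) + 1 + 2 * -(k : ℤ)) = 1 by ring, zpow_one]
  rw [h2, pow_orderOf_eq_one, one_mul]
  exact N.zpow_mem h1 _

/-- **subgroups of order divisible by 5, not by 7** -/
theorem T7 (OT : OrdDiv.OrderTable.{0})
    (hS : ∀ (X : Type) [Group X] [Finite X] [IsSimpleGroup X], Cfsg.IsKnownSimple' X)
    {R : Subgroup T8} (h7 : ¬ 7 ∣ Nat.card R) (h5 : 5 ∣ Nat.card R) :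
    Three T8 R ∨ (ThreeT T8 R ∧ Two T8 R ∧ NoOne T8 R) := by
  by_cases hO : pCore 2 R = ⊥
  swap
  · exact Or.inl (TO2 h5 hO)
  by_cases h9 : 9 ∣ Nat.card R
  swap
  · exact Or.inl (T9 h9)
  by_cases h3C : ∀ φ : T8 ≃* T8, φ (tw9 ^ 3) ∉ R
  · exact Or.inl (L3C h3C)
  push Not at h3C
  obtain ⟨φ0, hφ0⟩ := h3C
  have h125 := not_125 R
  obtain ⟨x7, hx7⟩ := exists_seven
  have hx7R : ∀ φ : T8 ≃* T8, φ x7 ∉ R := not_mem_of_dvd h7 (by rw [hx7])
  by_cases hO3 : pCore 3 R = ⊥
  swap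
  · -- a normal 3-subgroup
    have hn := Lib.Cores.pCore_normal (G := R) 3
    have h3p : Fact (Nat.Prime 3) := ⟨Nat.prime_three⟩
    refine Or.inl ⟨x7, tg4, g8, hx7R, fun φ hφ => ?_, fun φ hφ => ?_,
      ne_of_order hx7 order_tg4 (by norm_num), ne_of_order hx7 order_g8 (by norm_num),
      ne_of_order order_tg4 order_g8 (by norm_num)⟩
    · exact octT.no_normal3 (pCore 3 R) (Lib.Cores.pCore_isPGroup 3) hO3 h5 hφ (no_three φ)
    · refine octT.no_normal3 (pCore 3 R) (Lib.Cores.pCore_isPGroup 3) hO3 h5 hφ fun a y ha _ _ hag => ?_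
      refine no_comm_g8 (a := φ.symm a) (by rw [MulEquiv.orderOf_eq, ha]) ?_
      apply φ.injective
      rw [map_mul, map_mul, φ.apply_symm_apply, map_pow, hag]
  have hcard : Nat.card R ∣ 174182400 := by rw [← card_t8]; exact card_subgroup_dvd_card R
  have hcon : ∀ p : ℕ, p.Prime → pCore p R = ⊥ := by
    intro p hp
    by_cases hpR : p ∣ Nat.card R
    · rcases prime_of_dvd hp (hpR.trans hcard) with rfl | rfl | rfl | rfl
      · exact hO
      · exact hO3
      · by_contra h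
        have hn := Lib.Cores.pCore_normal (G := R) 5
        have h5p : Fact (Nat.Prime 5) := ⟨Nat.prime_five⟩
        exact octT.no_normal5' (pCore 5 R) (Lib.Cores.pCore_isPGroup 5) h h125 h9
      · exact absurd hpR h7
    · exact pCore_eq_bot hp hpR
  rw [map_pow] at hφ0
  have hy9 : orderOf (φ0 tw9) = 9 := by rw [MulEquiv.orderOf_eq, order_tw9]
  obtain ⟨N, X, _, _, hN, hs, ⟨e⟩, hd, hT⟩ := octT.simple_case h9 h125 (fun X _ _ hs hna hd =>
      tab_of OT hS X hs hna (hd.trans hcard) fun h => h7 (h.trans hd)) hcon hφ0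
      (by rw [orderOf_pow' _ (by norm_num), hy9]; decide) (octT.cube_nine hy9).1
  rcases hT with ⟨-, h2⟩ | ⟨-, h2⟩ | ⟨h1, h2⟩
  · have h3 := h9.trans (hd.trans h2)
    norm_num at h3
  · have h27 : ¬ 27 ∣ Nat.card R := fun h => by
      have h3 := h.trans (hd.trans h2)
      norm_num at h3
    rcases T27 h27 with h | h
    · exact Or.inl h
    · refine Or.inr (fin_nine h hx7R (by rw [hx7]; norm_num) (fun h => ?_) fun h => ?_)
      · have h3 := h.trans (hd.trans h2)
        norm_num at h3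
      · have h3 := h.trans (hd.trans h2)
        norm_num at h3
  · -- the order 25920
    have hna : ¬ ∀ a b : X, a * b = b * a := by
      intro hab
      let cg : CommGroup X := { (inferInstance : Group X) with mul_comm := hab }
      have h3 : (Nat.card X).Prime := IsSimpleGroup.prime_card (α := X)
      rw [h1] at h3
      norm_num at h3
    have hNi : N.index ∣ 2 := by
      have h3 := N.card_mul_index
      have h4 : Nat.card N = 25920 := by rw [Nat.card_congr e.toEquiv, h1]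
      have h5 := hd.trans h2
      rw [← h3, h4, show 51840 = 25920 * 2 by norm_num] at h5
      exact Nat.dvd_of_mul_dvd_mul_left (by norm_num) h5
    refine Or.inr (fin_fifteen (fun y hy hyo => ?_) hx7R (by rw [hx7]; norm_num) (fun h => ?_) fun h => ?_)
    · have h3 : (⟨y, hy⟩ : R) ∈ N := mem_of_index hNi (by rw [Subgroup.orderOf_mk, hyo]; decide)
      have h4 := H251.Der.ord_25920 OT hS hna h1 (e ⟨⟨y, hy⟩, h3⟩)
      rw [MulEquiv.orderOf_eq, Subgroup.orderOf_mk, Subgroup.orderOf_mk, hyo] at h4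
      exact absurd h4 (by decide)
    · have h3 := h.trans (hd.trans h2)
      norm_num at h3
    · have h3 := h.trans (hd.trans h2)
      norm_num at h3

end Cfsg.Agent.H547.Der.Eight
end
end

-- part: H546/Der/AltSeven_mg
section
prune_inst 0x4104600000000000000000080000000000000000000000081000000080000000000000000003000100000000000000000000000400000000a000000000400001000000000000000000000000000000000000000000000000000000000000000000000000
set_option linter.all false
open scoped Cfsg.Agent.FastGrp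

-- part: H546/Der/Alt
section
/-!
# Three classes of derangements: the alternating groups of degree at least 8 (helper546, S3502, task 2982)
-/

set_option autoImplicit false
set_option linter.unusedSectionVars false

namespace Cfsg.Agent.H546.Der

open Equiv Equiv.Perm MulAction Cfsg.Agent.H439.Der Cfsg.Agent.H548.DerAlt Cfsg.Agent.H394 Cfsg.Agent.H394.SqBasic
open scoped Pointwise

variable {n : ℕ}

theorem three_of_miss (hn : 7 ≤ n) {M : Subgroup (alternatingGroup (Fin n))} {c d e : Multiset ℕ} (hcd : c ≠ d)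
    (hce : c ≠ e) (hde : d ≠ e) (hc : IsAlt n c) (hd : IsAlt n d) (he : IsAlt n e) (h1 : Miss M c) (h2 : Miss M d)
    (h3 : Miss M e) : Three (alternatingGroup (Fin n)) M := by
  obtain ⟨x, hx⟩ := exists_alt hc
  obtain ⟨y, hy⟩ := exists_alt hd
  obtain ⟨z, hz⟩ := exists_alt he
  refine ⟨x, y, z, fun φ hφ => h1 _ hφ ?_, fun φ hφ => h2 _ hφ ?_, fun φ hφ => h3 _ hφ ?_, fun φ hφ => hcd ?_,
    fun φ hφ => hce ?_, fun φ hφ => hde ?_⟩
  · rw [cycleType_aut hn, hx]
  · rw [cycleType_aut hn, hy]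
  · rw [cycleType_aut hn, hz]
  · rw [← hx, ← hy, ← hφ, cycleType_aut hn]
  · rw [← hx, ← hz, ← hφ, cycleType_aut hn]
  · rw [← hy, ← hz, ← hφ, cycleType_aut hn]

theorem alt_one {a : ℕ} (h1 : a ≤ n) (h2 : 2 ≤ a) (h3 : Odd a) : IsAlt n {a} := by
  refine ⟨by rwa [Multiset.sum_singleton], ?_, ?_⟩
  · simp only [Multiset.mem_singleton, forall_eq]; exact h2
  · rw [Multiset.sum_singleton, Multiset.card_singleton]; exact h3.add_one

theorem alt_two {a b : ℕ} (h1 : a + b ≤ n) (h2 : 2 ≤ a) (h2' : 2 ≤ b) (h3 : Even (a + b)) : IsAlt n {a, b} := by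
  refine ⟨?_, ?_, ?_⟩
  · simp only [Multiset.insert_eq_cons, Multiset.sum_cons, Multiset.sum_singleton]
    exact h1
  · simp only [Multiset.insert_eq_cons, Multiset.mem_cons, Multiset.mem_singleton, forall_eq_or_imp, forall_eq]
    exact ⟨h2, h2'⟩
  · simp only [Multiset.insert_eq_cons, Multiset.sum_cons, Multiset.sum_singleton, Multiset.card_cons,
      Multiset.card_singleton]
    exact h3.add even_two

theorem alt_three {a b c : ℕ} (h1 : a + (b + c) ≤ n) (h2 : 2 ≤ a) (h2' : 2 ≤ b) (h2'' : 2 ≤ c)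
    (h3 : Odd (a + (b + c))) : IsAlt n {a, b, c} := by
  refine ⟨?_, ?_, ?_⟩
  · simp only [Multiset.insert_eq_cons, Multiset.sum_cons, Multiset.sum_singleton]
    exact h1
  · simp only [Multiset.insert_eq_cons, Multiset.mem_cons, Multiset.mem_singleton, forall_eq_or_imp, forall_eq]
    exact ⟨h2, h2', h2''⟩
  · simp only [Multiset.insert_eq_cons, Multiset.sum_cons, Multiset.sum_singleton, Multiset.card_cons,
      Multiset.card_singleton]
    exact h3.add_odd (by decide)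

theorem ne_of_card {c d : Multiset ℕ} (h : Multiset.card c ≠ Multiset.card d) : c ≠ d := fun h1 => h (by rw [h1])

theorem ne12 {a b c : ℕ} : ({a} : Multiset ℕ) ≠ {b, c} := ne_of_card (by simp)
theorem ne13 {a b c d : ℕ} : ({a} : Multiset ℕ) ≠ {b, c, d} := ne_of_card (by simp)
theorem ne23 {a b c d e : ℕ} : ({a, b} : Multiset ℕ) ≠ {c, d, e} := ne_of_card (by simp)

theorem ne11 {a b : ℕ} (h : a ≠ b) : ({a} : Multiset ℕ) ≠ {b} := fun h1 => h (Multiset.singleton_inj.1 h1)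

theorem ne22 {a b c d : ℕ} (h1 : a ≠ c) (h2 : a ≠ d) : ({a, b} : Multiset ℕ) ≠ {c, d} := by
  intro h
  have h3 : a ∈ ({c, d} : Multiset ℕ) := by rw [← h]; simp
  simp only [Multiset.insert_eq_cons, Multiset.mem_cons, Multiset.mem_singleton] at h3
  omega

theorem ne33 {a b c d e f : ℕ} (h1 : a ≠ d) (h2 : a ≠ e) (h3 : a ≠ f) : ({a, b, c} : Multiset ℕ) ≠ {d, e, f} := by
  intro h
  have h3 : a ∈ ({d, e, f} : Multiset ℕ) := by rw [← h]; simp
  simp only [Multiset.insert_eq_cons, Multiset.mem_cons, Multiset.mem_singleton] at h3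
  omega

section

variable {M : Subgroup (alternatingGroup (Fin n))} {Δ : Finset (Fin n)}

theorem miss_three {a b c : ℕ} (hinv : ∀ g ∈ M, ∀ x ∈ Δ, (g : Perm (Fin n)) x ∈ Δ)
    (h : ∀ s : ℕ, (s = 0 ∨ s = a ∨ s = b ∨ s = c ∨ s = a + b ∨ s = a + c ∨ s = b + c ∨ s = a + b + c) →
      s ≤ Δ.card → n < Δ.card + (a + (b + c)) - s) : Miss M {a, b, c} := by
  intro g hg hc
  obtain ⟨c₁, hc₁, h4, h5⟩ := sub_type (hinv g hg)
  rw [hc] at hc₁ h5
  have h6 : ({a, b, c} : Multiset ℕ).sum = a + (b + c) := by simp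
  rw [h6] at h5
  have h7 := h c₁.sum (sum_three hc₁) h4
  omega

/-- intransitive groups -/
theorem three_of_intrans (hn : 8 ≤ n) (hinv : ∀ g ∈ M, ∀ x ∈ Δ, (g : Perm (Fin n)) x ∈ Δ) (h1 : 1 ≤ Δ.card)
    (h2 : 2 * Δ.card ≤ n) : Three (alternatingGroup (Fin n)) M := by
  have hn7 : 7 ≤ n := by omega
  rcases Nat.even_or_odd n with he | ho
  · have a1 : IsAlt n {n - 1} := alt_one (by omega) (by omega) (Nat.Even.sub_odd (by omega) he odd_one)
    have a2 : IsAlt n {n - 3, 3} := alt_two (by omega) (by omega) (by omega) (by rwa [Nat.sub_add_cancel (by omega)])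
    have a3 : IsAlt n {n - 2, 2} := alt_two (by omega) (by omega) (by omega) (by rwa [Nat.sub_add_cancel (by omega)])
    have a4 : IsAlt n {n - 4, 4} := alt_two (by omega) (by omega) (by omega) (by rwa [Nat.sub_add_cancel (by omega)])
    by_cases hk1 : Δ.card = 1
    · exact three_of_miss hn7 (ne22 (by omega) (by omega)) (ne22 (by omega) (by omega)) (ne22 (by omega) (by omega)) a3 a2
        a4 (miss_two hinv (by omega) (by omega) (by omega) (by omega))
        (miss_two hinv (by omega) (by omega) (by omega) (by omega))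
        (miss_two hinv (by omega) (by omega) (by omega) (by omega))
    by_cases hk2 : Δ.card = 2
    · exact three_of_miss hn7 ne12 ne12 (ne22 (by omega) (by omega)) a1 a2 a4 (miss_one hinv (by omega) (by omega))
        (miss_two hinv (by omega) (by omega) (by omega) (by omega))
        (miss_two hinv (by omega) (by omega) (by omega) (by omega))
    by_cases hk3 : Δ.card = 3
    · exact three_of_miss hn7 ne12 ne12 (ne22 (by omega) (by omega)) a1 a3 a4 (miss_one hinv (by omega) (by omega))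
        (miss_two hinv (by omega) (by omega) (by omega) (by omega))
        (miss_two hinv (by omega) (by omega) (by omega) (by omega))
    · exact three_of_miss hn7 ne12 ne12 (ne22 (by omega) (by omega)) a1 a3 a2 (miss_one hinv (by omega) (by omega))
        (miss_two hinv (by omega) (by omega) (by omega) (by omega))
        (miss_two hinv (by omega) (by omega) (by omega) (by omega))
  · have hn9 : 9 ≤ n := by
      rcases Nat.lt_or_ge n 9 with h | h
      · have : n = 8 := by omega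
        subst this
        exact absurd ho (by decide)
      · exact h
    have a1 : IsAlt n {n} := alt_one le_rfl (by omega) ho
    have m1 : Miss M {n} := miss_one hinv (by omega) (by omega)
    by_cases hk1 : Δ.card = 1
    · have a2 : IsAlt n {n - 4, 2, 2} := alt_three (by omega) (by omega) (by omega) (by omega)
        (by rwa [Nat.sub_add_cancel (by omega)])
      have a3 : IsAlt n {n - 5, 3, 2} := alt_three (by omega) (by omega) (by omega) (by omega)
        (by rwa [Nat.sub_add_cancel (by omega)])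
      exact three_of_miss hn7 ne13 ne13 (ne33 (by omega) (by omega) (by omega)) a1 a2 a3 m1
        (miss_three hinv (by omega)) (miss_three hinv (by omega))
    by_cases hk2 : Δ.card = 2
    · have a2 : IsAlt n {n - 4, 3} := alt_two (by omega) (by omega) (by omega) (by
        rw [show n - 4 + 3 = n - 1 by omega]; exact Nat.Odd.sub_odd ho odd_one)
      have a3 : IsAlt n {n - 6, 3, 3} := alt_three (by omega) (by omega) (by omega) (by omega)
        (by rwa [Nat.sub_add_cancel (by omega)])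
      exact three_of_miss hn7 ne12 ne13 ne23 a1 a2 a3 m1 (miss_two hinv (by omega) (by omega) (by omega) (by omega))
        (miss_three hinv (by omega))
    have a2 : IsAlt n {n - 2} := alt_one (by omega) (by omega) (Nat.Odd.sub_even (by omega) ho even_two)
    have m2 : Miss M {n - 2} := miss_one hinv (by omega) (by omega)
    by_cases hk3 : Δ.card = 3
    · have a3 : IsAlt n {n - 4, 2, 2} := alt_three (by omega) (by omega) (by omega) (by omega)
        (by rwa [Nat.sub_add_cancel (by omega)])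
      exact three_of_miss hn7 (ne11 (by omega)) ne13 ne13 a1 a2 a3 m1 m2 (miss_three hinv (by omega))
    · have a3 : IsAlt n {n - 3, 2} := alt_two (by omega) (by omega) (by omega) (by
        rw [show n - 3 + 2 = n - 1 by omega]; exact Nat.Odd.sub_odd ho odd_one)
      exact three_of_miss hn7 (ne11 (by omega)) ne12 ne12 a1 a2 a3 m1 m2
        (miss_two hinv (by omega) (by omega) (by omega) (by omega))

end

theorem exists_prime_four {n : ℕ} (hn : 8 ≤ n) : (∃ p : ℕ, p.Prime ∧ n < 2 * p ∧ p + 4 ≤ n) ∨ n = 8 ∨ n = 10 ∨ n = 14 := by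
  rcases Nat.lt_or_ge n 46 with h | h
  · rcases Nat.lt_or_ge n 11 with h1 | h1
    · by_cases h9 : n = 9
      · exact Or.inl ⟨5, by norm_num, by omega, by omega⟩
      · exact Or.inr (by omega)
    rcases Nat.lt_or_ge n 14 with h2 | h2
    · exact Or.inl ⟨7, by norm_num, by omega, by omega⟩
    rcases Nat.lt_or_ge n 15 with h2' | h2'
    · exact Or.inr (by omega)
    rcases Nat.lt_or_ge n 22 with h3 | h3
    · exact Or.inl ⟨11, by norm_num, by omega, by omega⟩
    rcases Nat.lt_or_ge n 34 with h4 | h4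
    · exact Or.inl ⟨17, by norm_num, by omega, by omega⟩
    · exact Or.inl ⟨23, by norm_num, by omega, by omega⟩
  · obtain ⟨r, s, hr, -, h1, h2, h3⟩ := Cfsg.Agent.H357.NT.two_primes (n := n - 4) (by omega)
    exact Or.inl ⟨r, hr, by omega, by omega⟩

section

variable {M : Subgroup (alternatingGroup (Fin n))}

/-- an `(n-1)`-cycle lies in no imprimitive group -/
theorem miss_pred (hn : 7 ≤ n) (htr : IsPretransitive (M.map (alternatingGroup (Fin n)).subtype) (Fin n))
    (hnp : ¬ IsPreprimitive (M.map (alternatingGroup (Fin n)).subtype) (Fin n)) : Miss M {n - 1} := by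
  classical
  intro g hg hc
  apply hnp
  have hne : Nonempty (Fin n) := ⟨⟨0, by omega⟩⟩
  have hgM : (g : Perm (Fin n)) ∈ M.map (alternatingGroup (Fin n)).subtype := ⟨g, hg, rfl⟩
  set M' := M.map (alternatingGroup (Fin n)).subtype with hM'
  refine ⟨fun {B} hB => ?_⟩
  by_contra hnt
  rw [IsTrivialBlock, not_or] at hnt
  obtain ⟨hns, hnu⟩ := hnt
  -- the fixed point
  obtain ⟨x, hx⟩ : ∃ x, (g : Perm (Fin n)) x = x := by
    by_contra hcon
    push Not at hcon
    have h1 : (g : Perm (Fin n)).support = Finset.univ := by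
      ext x
      simp only [Finset.mem_univ, iff_true]
      exact mem_support.2 (hcon x)
    have h2 := sum_cycleType (g : Perm (Fin n))
    rw [hc, h1, Finset.card_univ, Fintype.card_fin, Multiset.sum_singleton] at h2
    omega
  -- move the block to contain `x`
  have hBne : B.Nonempty := by
    by_contra h0
    rw [Set.not_nonempty_iff_eq_empty] at h0
    exact hns (h0 ▸ Set.subsingleton_empty)
  obtain ⟨b, hb⟩ := hBne
  obtain ⟨m, hm⟩ := htr.exists_smul_eq b x
  have hxB : x ∈ m • B := by rw [← hm]; exact Set.smul_mem_smul_set hb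
  have hB' : IsBlock M' (m • B) := hB.translate m
  have hgB : (⟨(g : Perm (Fin n)), hgM⟩ : M') • (m • B) = m • B := by
    have h1 : x ∈ (⟨(g : Perm (Fin n)), hgM⟩ : M') • (m • B) := by
      have h2 : (⟨(g : Perm (Fin n)), hgM⟩ : M') • x = x := hx
      rw [← h2]
      exact Set.smul_mem_smul_set hxB
    rcases hB'.smul_eq_or_disjoint ⟨(g : Perm (Fin n)), hgM⟩ with h2 | h2
    · exact h2
    · exact absurd hxB (Set.disjoint_left.1 h2 h1)
  obtain ⟨c₁, hc₁, h4, h5⟩ := sub_type (g := (g : Perm (Fin n))) (Δ := (m • B).toFinset) (by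
    intro y hy
    rw [Set.mem_toFinset] at hy ⊢
    rw [← hgB]
    exact Set.smul_mem_smul_set hy)
  rw [hc] at hc₁ h5
  rw [Multiset.sum_singleton] at h5
  have h6 : (m • B).toFinset.card = B.ncard := by
    rw [← Set.ncard_eq_toFinset_card', Set.ncard_smul_set]
  rw [h6] at h4 h5
  have hcn : Nat.card (Fin n) = n := by rw [Nat.card_eq_fintype_card, Fintype.card_fin]
  have hBn : B.ncard < n := by
    by_contra hge
    apply hnu
    apply Set.eq_of_subset_of_ncard_le (Set.subset_univ B)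
    rw [Set.ncard_univ, hcn]
    omega
  have hB2 : 2 ≤ B.ncard := by
    rw [Nat.succ_le_iff, Set.one_lt_ncard (Set.toFinite B)]
    rw [Set.not_subsingleton_iff] at hns
    obtain ⟨a, ha, b, hb, hab⟩ := hns
    exact ⟨a, ha, b, hb, hab⟩
  have hdiv : B.ncard ∣ n := by
    have := hB.ncard_block_mul_ncard_orbit_eq ⟨b, hb⟩
    rw [hcn] at this
    exact ⟨_, this.symm⟩
  obtain ⟨k, hk⟩ := hdiv
  rcases sum_one hc₁ with h | h
  · omega
  · -- `n - 1 ≤ |B| < n`, `|B| ∣ n`
    have h7 : B.ncard = n - 1 := by omega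
    have hk2 : 2 ≤ k := by
      by_contra hlt
      have : k = 0 ∨ k = 1 := by omega
      rcases this with rfl | rfl <;> omega
    have h8 : B.ncard * 2 ≤ B.ncard * k := Nat.mul_le_mul_left _ hk2
    omega

/-- transitive groups -/
theorem three_of_trans (hn : 8 ≤ n) (hM : M ≠ ⊤)
    (htr : IsPretransitive (M.map (alternatingGroup (Fin n)).subtype) (Fin n)) : Three (alternatingGroup (Fin n)) M := by
  have hn7 : 7 ≤ n := by omega
  rcases exists_prime_four hn with ⟨p, hp, hp1, hp2⟩ | hn'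
  · have hodd : Odd p := hp.odd_of_ne_two (by omega)
    refine three_of_miss (c := {p}) (d := p ::ₘ {3}) (e := p ::ₘ {2, 2}) hn7 ne12 ne13 ne23 (alt_one (by omega) hp.two_le hodd)
      (alt_two (by omega) hp.two_le (by norm_num) (hodd.add_odd (by decide)))
      (alt_three (by omega) hp.two_le (by norm_num) (by norm_num) (hodd.add_even (by decide))) ?_ ?_ ?_
    · exact miss_of_jordan (s := 0) (k := 1) (by omega) hM hp (by omega) (by norm_num) hp.one_lt
        (by simp) fun h hh h1 h2 => prim_of_mem htr (by omega) hp hp1 hh h1 h2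
    · exact miss_of_jordan (k := 3) (by omega) hM hp (by omega) (by norm_num) (by omega)
        (by simp) fun h hh h1 h2 => prim_of_mem htr (by omega) hp hp1 hh h1 h2
    · exact miss_of_jordan (k := 2) (by omega) hM hp (by omega) (by norm_num) (by omega)
        (by simp) fun h hh h1 h2 => prim_of_mem htr (by omega) hp hp1 hh h1 h2
  · obtain ⟨p, hp, hp1, hp2⟩ := exists_prime_three hn
    have hodd : Odd p := hp.odd_of_ne_two (by omega)
    have m1 : Miss M (p ::ₘ 0) := miss_of_jordan (s := 0) (k := 1) (by omega) hM hp hp2 (by norm_num) hp.one_lt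
      (by simp) fun h hh h1 h2 => prim_of_mem htr (by omega) hp hp1 hh h1 h2
    have m2 : Miss M (p ::ₘ {3}) := miss_of_jordan (k := 3) (by omega) hM hp hp2 (by norm_num) (by omega)
      (by simp) fun h hh h1 h2 => prim_of_mem htr (by omega) hp hp1 hh h1 h2
    have b1 : IsAlt n (p ::ₘ 0) := alt_one (by omega) hp.two_le hodd
    have b2 : IsAlt n (p ::ₘ {3}) := alt_two (by omega) hp.two_le (by norm_num) (hodd.add_odd (by decide))
    by_cases hpr : IsPreprimitive (M.map (alternatingGroup (Fin n)).subtype) (Fin n)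
    · refine three_of_miss (c := p ::ₘ 0) (d := p ::ₘ {3}) (e := {3}) hn7 ne12 (ne11 (by omega)) (Ne.symm ne12) b1 b2
        (alt_one (by omega) (by norm_num) (by decide)) m1 m2 ?_
      exact miss_of_jordan (s := 0) (k := 1) (by omega) hM (by norm_num) (by omega) (by norm_num) (by norm_num)
        (by simp) fun _ _ _ _ => hpr
    · have he : Even n := by rcases hn' with rfl | rfl | rfl <;> decide
      exact three_of_miss (c := p ::ₘ 0) (d := p ::ₘ {3}) (e := {n - 1}) hn7 ne12 (ne11 (by omega)) (Ne.symm ne12) b1 b2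
        (alt_one (by omega) (by omega) (Nat.Even.sub_odd (by omega) he odd_one)) m1 m2 (miss_pred hn7 htr hpr)

/-- the orbits of an intransitive group -/
theorem exists_orbit (h : ¬ IsPretransitive (M.map (alternatingGroup (Fin n)).subtype) (Fin n)) :
    ∃ Δ : Finset (Fin n), (∀ g ∈ M, ∀ x ∈ Δ, (g : Perm (Fin n)) x ∈ Δ) ∧ 1 ≤ Δ.card ∧ 2 * Δ.card ≤ n := by
  classical
  set M' := M.map (alternatingGroup (Fin n)).subtype with hM'
  have hex : ∃ x y : Fin n, y ∉ orbit M' x := by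
    by_contra h1
    push Not at h1
    apply h
    exact ⟨fun x y => h1 x y⟩
  obtain ⟨x, y, hy⟩ := hex
  let Δ : Finset (Fin n) := (orbit M' x).toFinset
  have hinv : ∀ g ∈ M, ∀ z ∈ Δ, (g : Perm (Fin n)) z ∈ Δ := by
    intro g hg z hz
    rw [Set.mem_toFinset] at hz ⊢
    obtain ⟨m, rfl⟩ := hz
    have hgM : (g : Perm (Fin n)) ∈ M' := ⟨g, hg, rfl⟩
    refine ⟨⟨(g : Perm (Fin n)), hgM⟩ * m, ?_⟩
    change ((⟨(g : Perm (Fin n)), hgM⟩ * m : M') • x : Fin n) = _
    rw [mul_smul]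
    rfl
  have hinv' : ∀ g ∈ M, ∀ z ∈ Δᶜ, (g : Perm (Fin n)) z ∈ Δᶜ := by
    intro g hg z hz
    rw [Finset.mem_compl] at hz ⊢
    intro h
    apply hz
    have := hinv g⁻¹ (inv_mem hg) _ h
    rw [Subgroup.coe_inv, Equiv.Perm.inv_def, Equiv.symm_apply_apply] at this
    exact this
  have hx : x ∈ Δ := by rw [Set.mem_toFinset]; exact mem_orbit_self x
  have hy' : y ∈ Δᶜ := by rw [Finset.mem_compl, Set.mem_toFinset]; exact hy
  have hc : Δᶜ.card = n - Δ.card := by rw [Finset.card_compl, Fintype.card_fin]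
  have h1 : 1 ≤ Δ.card := Finset.card_pos.2 ⟨x, hx⟩
  have h2 : 1 ≤ Δᶜ.card := Finset.card_pos.2 ⟨y, hy'⟩
  rcases Nat.lt_or_ge n (2 * Δ.card) with h | h
  · exact ⟨Δᶜ, hinv', h2, by omega⟩
  · exact ⟨Δ, hinv, h1, h⟩

/-- **every proper subgroup of `Alt n`, `n ≥ 8`, misses three cycle types** -/
theorem three_alt (hn : 8 ≤ n) (hM : M ≠ ⊤) : Three (alternatingGroup (Fin n)) M := by
  by_cases htr : IsPretransitive (M.map (alternatingGroup (Fin n)).subtype) (Fin n)
  · exact three_of_trans hn hM htr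
  · obtain ⟨Δ, hinv, h1, h2⟩ := exists_orbit htr
    exact three_of_intrans hn hinv h1 h2

end

end Cfsg.Agent.H546.Der
end

-- part: H546/Der/AltSeven
section
/-!
# Three classes of derangements: the alternating group of degree 7 (helper546, S3502, task 2982)
-/

set_option autoImplicit false
set_option linter.unusedSectionVars false

namespace Cfsg.Agent.H546.Der

open Equiv Equiv.Perm MulAction Cfsg.Agent.H439.Der Cfsg.Agent.H548.DerAlt Cfsg.Agent.H394 Cfsg.Agent.H394.SqBasic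
open scoped Pointwise

variable {n : ℕ}

theorem exists_of_not_miss {R : Subgroup (alternatingGroup (Fin n))} {c : Multiset ℕ} (h : ¬ Miss R c) :
    ∃ g : R, ((g : alternatingGroup (Fin n)) : Perm (Fin n)).cycleType = c := by
  unfold Miss at h
  push Not at h
  obtain ⟨g, hg, hc⟩ := h
  exact ⟨⟨g, hg⟩, hc⟩

theorem orderOf_eq_lcm {R : Subgroup (alternatingGroup (Fin n))} (g : R) :
    orderOf g = (((g : alternatingGroup (Fin n)) : Perm (Fin n)).cycleType).lcm := by
  rw [lcm_cycleType, Subgroup.orderOf_coe, Subgroup.orderOf_coe]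

theorem dvd_of_not_miss {R : Subgroup (alternatingGroup (Fin n))} {c : Multiset ℕ} (h : ¬ Miss R c) :
    c.lcm ∣ Nat.card R := by
  obtain ⟨g, hg⟩ := exists_of_not_miss h
  rw [← hg, ← orderOf_eq_lcm]
  exact orderOf_dvd_natCard g

theorem nine_dvd {R : Subgroup (alternatingGroup (Fin n))} (h1 : ¬ Miss R {3}) (h2 : ¬ Miss R {3, 3}) :
    9 ∣ Nat.card R := by
  classical
  by_contra h9
  have h3F : Fact (Nat.Prime 3) := ⟨by norm_num⟩
  obtain ⟨u, hu⟩ := exists_of_not_miss h1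
  obtain ⟨v, hv⟩ := exists_of_not_miss h2
  have hu3 : orderOf u = 3 := by rw [orderOf_eq_lcm, hu]; rfl
  have hv3 : orderOf v = 3 := by rw [orderOf_eq_lcm, hv]; rfl
  have key : ∀ w : R, orderOf w = 3 → ∃ P : Sylow 3 R, (P : Subgroup R) = Subgroup.zpowers w := by
    intro w hw
    have h4 : IsPGroup 3 (Subgroup.zpowers w) := by
      rw [IsPGroup.iff_card, Nat.card_zpowers, hw]
      exact ⟨1, by norm_num⟩
    obtain ⟨P, hP⟩ := h4.exists_le_sylow
    refine ⟨P, (Subgroup.eq_of_le_of_card_ge hP ?_).symm⟩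
    rw [Nat.card_zpowers, hw]
    obtain ⟨j, hj⟩ := IsPGroup.iff_card.1 P.2
    have hj1 : j ≤ 1 := by
      by_contra hcon
      push Not at hcon
      apply h9
      have h5 : 3 ^ 2 ∣ (Nat.card (P : Subgroup R) :) := by rw [hj]; exact Nat.pow_dvd_pow 3 hcon
      exact h5.trans (Subgroup.card_subgroup_dvd_card _)
    rw [hj]
    calc 3 ^ j ≤ 3 ^ 1 := Nat.pow_le_pow_right (by norm_num) hj1
      _ = 3 := by norm_num
  obtain ⟨P, hP⟩ := key u hu3
  obtain ⟨Q, hQ⟩ := key v hv3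
  obtain ⟨g, hg⟩ := MulAction.exists_smul_eq R Q P
  have h4 : g * v * g⁻¹ ∈ Subgroup.zpowers u := by
    rw [← hP, ← hg]
    have h5 : v ∈ (Q : Subgroup R) := by rw [hQ]; exact Subgroup.mem_zpowers v
    have h6 : MulAut.conj g • v ∈ ((MulAut.conj g • (Q : Subgroup R)) : Subgroup R) :=
      Subgroup.smul_mem_pointwise_smul v (MulAut.conj g) _ h5
    exact h6
  obtain ⟨k, hk⟩ := Subgroup.mem_zpowers_iff.1 h4
  have h5 : (((g * v * g⁻¹ : R) : alternatingGroup (Fin n)) : Perm (Fin n)).cycleType = {3, 3} := by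
    rw [← hv]
    simp only [Subgroup.coe_mul, Subgroup.coe_inv]
    exact cycleType_conj
  have h6 : u ^ k = 1 ∨ u ^ k = u ∨ u ^ k = u⁻¹ := by
    have h7 : u ^ k = u ^ (k % 3) := by
      have := zpow_mod_orderOf u k
      rw [hu3] at this
      exact this.symm
    have h8 : k % 3 = 0 ∨ k % 3 = 1 ∨ k % 3 = 2 := by omega
    rcases h8 with h8 | h8 | h8
    · left; rw [h7, h8, zpow_zero]
    · right; left; rw [h7, h8, zpow_one]
    · right; right
      rw [h7, h8, eq_inv_iff_mul_eq_one]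
      have h9 : u ^ 3 = 1 := by rw [← hu3]; exact pow_orderOf_eq_one u
      rw [← h9]
      rfl
  rw [← hk] at h5
  rcases h6 with h6 | h6 | h6
  · rw [h6] at h5
    simp only [Subgroup.coe_one, cycleType_one] at h5
    have := congrArg Multiset.card h5
    simp at this
  · rw [h6, hu] at h5
    have := congrArg Multiset.card h5
    simp at this
  · rw [h6] at h5
    simp only [Subgroup.coe_inv, cycleType_inv, hu] at h5
    have := congrArg Multiset.card h5
    simp at this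

/-! ### the stabilizer of a set -/

section st

variable {α : Type*} [Fintype α] [DecidableEq α] (p : α → Prop) [DecidablePred p]

/-- the stabilizer of `p` -/
def St : Subgroup (Perm α) where
  carrier := {σ | ∀ x, p (σ x) ↔ p x}
  one_mem' := fun x => Iff.rfl
  mul_mem' := fun {a b} ha hb x => by
    rw [Perm.mul_apply]
    exact (ha (b x)).trans (hb x)
  inv_mem' := fun {a} ha x => by
    have := ha (a⁻¹ x)
    rw [← Perm.mul_apply, mul_inv_cancel, Perm.one_apply] at this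
    exact this.symm

/-- the restriction to `p` -/
def rA : St p →* Perm {x // p x} where
  toFun σ := σ.1.subtypePerm σ.2
  map_one' := by ext x; rfl
  map_mul' := fun σ τ => by ext x; rfl

/-- the restriction to the complement -/
def rB : St p →* Perm {x // ¬ p x} where
  toFun σ := σ.1.subtypePerm (fun x => not_congr (σ.2 x))
  map_one' := by ext x; rfl
  map_mul' := fun σ τ => by ext x; rfl

theorem rA_apply (σ : St p) (x : {x // p x}) : ((rA p σ x : {x // p x}) : α) = σ.1 x := rfl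
theorem rB_apply (σ : St p) (x : {x // ¬ p x}) : ((rB p σ x : {x // ¬ p x}) : α) = σ.1 x := rfl

theorem eq_mul (σ : St p) : (σ : Perm α) = ofSubtype (rA p σ) * ofSubtype (rB p σ) := by
  ext x
  rw [Perm.mul_apply]
  by_cases hx : p x
  · rw [ofSubtype_apply_of_not_mem (rB p σ) (by simpa using hx), ofSubtype_apply_of_mem _ hx, rA_apply]
  · have h1 : ¬ p (σ.1 x) := (not_congr (σ.2 x)).2 hx
    rw [ofSubtype_apply_of_mem (rB p σ) hx, rB_apply, ofSubtype_apply_of_not_mem (rA p σ) h1]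

theorem disj (s : Perm {x // p x}) (t : Perm {x // ¬ p x}) :
    Perm.Disjoint (ofSubtype s) (ofSubtype t) := by
  intro x
  by_cases hx : p x
  · right; exact ofSubtype_apply_of_not_mem t (by simpa using hx)
  · left; exact ofSubtype_apply_of_not_mem s hx

theorem cycleType_eq (σ : St p) : (σ : Perm α).cycleType = (rA p σ).cycleType + (rB p σ).cycleType := by
  conv_lhs => rw [eq_mul p σ]
  rw [(disj p _ _).cycleType_mul, cycleType_ofSubtype, cycleType_ofSubtype]

theorem sign_eq (σ : St p) : sign (σ : Perm α) = sign (rA p σ) * sign (rB p σ) := by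
  conv_lhs => rw [eq_mul p σ]
  rw [Perm.sign_mul, sign_ofSubtype, sign_ofSubtype]

/-- the even elements -/
def Ev : Subgroup (Perm {x // p x} × Perm {x // ¬ p x}) :=
  MonoidHom.ker ((sign.comp (MonoidHom.fst _ _)) * (sign.comp (MonoidHom.snd _ _)))

theorem mem_Ev (x : Perm {x // p x} × Perm {x // ¬ p x}) : x ∈ Ev p ↔ sign x.1 * sign x.2 = 1 := Iff.rfl

theorem card_Ev (hnt : Nontrivial {x // ¬ p x}) :
    2 * Nat.card (Ev p) = (Fintype.card {x // p x}).factorial * (Fintype.card {x // ¬ p x}).factorial := by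
  have h1 : Nat.card (Ev p) * (Ev p).index = Nat.card (Perm {x // p x} × Perm {x // ¬ p x}) := Subgroup.card_mul_index _
  have h2 : (Ev p).index = 2 := by
    rw [Ev, Subgroup.index_ker]
    have h3 : (((sign.comp (MonoidHom.fst (Perm {x // p x}) (Perm {x // ¬ p x}))) *
        (sign.comp (MonoidHom.snd (Perm {x // p x}) (Perm {x // ¬ p x})))).range) = ⊤ := by
      rw [MonoidHom.range_eq_top]
      intro e
      obtain ⟨τ, hτ⟩ := sign_surjective {x // ¬ p x} e
      refine ⟨(1, τ), ?_⟩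
      change sign (1 : Perm {x // p x}) * sign τ = e
      rw [Perm.sign_one, one_mul, hτ]
    rw [h3, Nat.card_congr Subgroup.topEquiv.toEquiv]
    simp
  rw [h2, Nat.card_prod, Nat.card_perm, Nat.card_perm, Nat.card_eq_fintype_card (α := {x // p x}),
    Nat.card_eq_fintype_card (α := {x // ¬ p x})] at h1
  rw [← h1, mul_comm]

end st

/-! ### subgroups of index two of the stabilizer -/

section two

variable {Δ : Finset (Fin 7)} {R K : Subgroup (alternatingGroup (Fin 7))}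

/-- if `R` has index two in `K` and `K` has the order of the full stabilizer of a set, and `R` contains an element which is
odd on this set (if it has at least two elements), then `K ≤ R` -/
theorem le_of_index_two {p : Fin 7 → Prop} [DecidablePred p] {k : ℕ} (hcA : Fintype.card {x // p x} = k)
    (hcB : Fintype.card {x // ¬ p x} = 7 - k) (hK : ∀ g ∈ K, ∀ x, p ((g : Perm (Fin 7)) x) ↔ p x) (hk : k ≤ 3)
    (hcard : k.factorial * (7 - k).factorial ≤ 2 * Nat.card K) (hsq : ∀ g ∈ K, g * g ∈ R)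
    (hx : k = 1 ∨ ∃ x ∈ R, x ∈ K ∧ (x : Perm (Fin 7)).cycleType = {4, 2}) : K ≤ R := by
  have hntB : Nontrivial {x // ¬ p x} := Fintype.one_lt_card_iff_nontrivial.1 (by rw [hcB]; omega)
  let f : K →* Perm {x // p x} × Perm {x // ¬ p x} :=
    ((rA p).prod (rB p)).comp (((alternatingGroup (Fin 7)).subtype.comp K.subtype).codRestrict (St p)
      (fun g => hK g g.2))
  have hf1 : ∀ g : K, (f g).1 = rA p ⟨((g : alternatingGroup (Fin 7)) : Perm (Fin 7)), hK g g.2⟩ := fun g => rfl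
  have hf2 : ∀ g : K, (f g).2 = rB p ⟨((g : alternatingGroup (Fin 7)) : Perm (Fin 7)), hK g g.2⟩ := fun g => rfl
  have hmul : ∀ g : K, ((g : alternatingGroup (Fin 7)) : Perm (Fin 7)) = ofSubtype (f g).1 * ofSubtype (f g).2 :=
    fun g => eq_mul p ⟨_, hK g g.2⟩
  have hfi : Function.Injective f := by
    intro g h hgh
    apply Subtype.ext
    apply Subtype.ext
    rw [hmul g, hmul h, hgh]
  have hfE : ∀ g : K, f g ∈ Ev p := by
    intro g
    rw [mem_Ev, hf1, hf2, ← sign_eq]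
    exact mem_alternatingGroup.1 (g : alternatingGroup (Fin 7)).2
  have hrange : f.range = Ev p := by
    refine Subgroup.eq_of_le_of_card_ge ?_ ?_
    · rintro _ ⟨g, rfl⟩
      exact hfE g
    · have h1 := card_Ev p hntB
      rw [hcA, hcB] at h1
      have h2 : Nat.card f.range = Nat.card K := (Nat.card_congr (MonoidHom.ofInjective hfi).toEquiv).symm
      rw [h2]
      omega
  -- even permutations with square in `R`
  obtain ⟨R', hR'⟩ : ∃ R' : Subgroup (Perm (Fin 7)), R' = R.map (alternatingGroup (Fin 7)).subtype := ⟨_, rfl⟩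
  have hmemR : ∀ g : alternatingGroup (Fin 7), (g : Perm (Fin 7)) ∈ R' ↔ g ∈ R := by
    intro g
    rw [hR']
    exact Subgroup.mem_map_iff_mem (alternatingGroup (Fin 7)).subtype_injective
  have hthree : ∀ g : K, ((g : alternatingGroup (Fin 7)) : Perm (Fin 7)).IsThreeCycle →
      ((g : alternatingGroup (Fin 7)) : Perm (Fin 7)) ∈ R' := by
    intro g hg
    rw [hmemR]
    have h1 : (g : alternatingGroup (Fin 7)) * g * (g * g) = g := by
      apply Subtype.ext
      have h2 := pow_orderOf_eq_one ((g : alternatingGroup (Fin 7)) : Perm (Fin 7))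
      rw [hg.orderOf] at h2
      have h3 : ((g : alternatingGroup (Fin 7)) : Perm (Fin 7)) * g * (g * g) =
          ((g : alternatingGroup (Fin 7)) : Perm (Fin 7)) ^ 3 * g := by
        rw [pow_three]; group
      simp only [Subgroup.coe_mul]
      rw [h3, h2, one_mul]
    rw [← h1]
    exact hsq _ (K.mul_mem g.2 g.2) |> fun h => by
      have h4 := R.mul_mem (hsq g g.2) (hsq g g.2)
      exact h4
  have hlift : ∀ x : Perm {x // p x} × Perm {x // ¬ p x}, x ∈ Ev p → ∃ g : K, f g = x := by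
    intro x hx
    rw [← hrange] at hx
    exact hx
  have hA : ∀ s : Perm {x // p x}, sign s = 1 → ofSubtype s ∈ R' := by
    intro s hs
    have h1 : s ∈ alternatingGroup {x // p x} := mem_alternatingGroup.2 hs
    rw [← closure_three_cycles_eq_alternating] at h1
    have h2 : (alternatingGroup {x // p x}) ≤ R'.comap ofSubtype := by
      rw [← closure_three_cycles_eq_alternating, Subgroup.closure_le]
      intro σ hσ
      obtain ⟨g, hg⟩ := hlift (σ, 1) (by rw [mem_Ev, Perm.sign_one, mul_one]; exact hσ.sign)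
      have h3 := hmul g
      rw [hg] at h3
      simp only [map_one, mul_one] at h3
      change ofSubtype σ ∈ R'
      rw [← h3]
      apply hthree
      rw [h3]
      unfold IsThreeCycle
      rw [cycleType_ofSubtype]
      exact hσ
    rw [closure_three_cycles_eq_alternating] at h1
    exact h2 h1
  have hB : ∀ s : Perm {x // ¬ p x}, sign s = 1 → ofSubtype s ∈ R' := by
    intro s hs
    have h1 : s ∈ alternatingGroup {x // ¬ p x} := mem_alternatingGroup.2 hs
    have h2 : (alternatingGroup {x // ¬ p x}) ≤ R'.comap ofSubtype := by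
      rw [← closure_three_cycles_eq_alternating, Subgroup.closure_le]
      intro σ hσ
      obtain ⟨g, hg⟩ := hlift (1, σ) (by rw [mem_Ev, Perm.sign_one, one_mul]; exact hσ.sign)
      have h3 := hmul g
      rw [hg] at h3
      simp only [map_one, one_mul] at h3
      change ofSubtype σ ∈ R'
      rw [← h3]
      apply hthree
      rw [h3]
      unfold IsThreeCycle
      rw [cycleType_ofSubtype]
      exact hσ
    exact h2 h1
  have hone : ∀ g : K, sign (f g).1 = 1 → (g : alternatingGroup (Fin 7)) ∈ R := by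
    intro g hg
    rw [← hmemR, hmul g]
    have h1 := hfE g
    rw [mem_Ev, hg, one_mul] at h1
    exact R'.mul_mem (hA _ hg) (hB _ h1)
  intro g hg
  rcases hx with hx | ⟨x, hxR, hxK, hxc⟩
  · refine hone ⟨g, hg⟩ ?_
    have : Subsingleton {x // p x} := Fintype.card_le_one_iff_subsingleton.1 (by rw [hcA, hx])
    rw [Subsingleton.elim (f ⟨g, hg⟩).1 1, Perm.sign_one]
  · by_cases hΔ1 : k = 1
    · refine hone ⟨g, hg⟩ ?_
      have : Subsingleton {x // p x} := Fintype.card_le_one_iff_subsingleton.1 (by rw [hcA, hΔ1])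
      rw [Subsingleton.elim (f ⟨g, hg⟩).1 1, Perm.sign_one]
    by_cases hΔ0 : k = 0
    · refine hone ⟨g, hg⟩ ?_
      have : Subsingleton {x // p x} := Fintype.card_le_one_iff_subsingleton.1 (by rw [hcA, hΔ0]; norm_num)
      rw [Subsingleton.elim (f ⟨g, hg⟩).1 1, Perm.sign_one]
    have hxs : sign (f ⟨x, hxK⟩).1 = -1 := by
      have h1 := cycleType_eq p ⟨(x : Perm (Fin 7)), hK x hxK⟩
      rw [hxc] at h1
      have h2 : (f ⟨x, hxK⟩).1.cycleType + (f ⟨x, hxK⟩).2.cycleType = {4, 2} := h1.symm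
      have h3 : (f ⟨x, hxK⟩).1.cycleType ≤ {4, 2} := by rw [← h2]; exact Multiset.le_add_right _ _
      have h4 : (f ⟨x, hxK⟩).1.cycleType.sum ≤ k := by
        rw [sum_cycleType, ← hcA]
        exact Finset.card_le_univ _
      have h5 : (f ⟨x, hxK⟩).2.cycleType.sum ≤ 7 - k := by
        rw [sum_cycleType, ← hcB]
        exact Finset.card_le_univ _
      have h6 : (f ⟨x, hxK⟩).1.cycleType.sum + (f ⟨x, hxK⟩).2.cycleType.sum = 6 := by
        rw [← Multiset.sum_add, h2]; rfl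
      have h7 : (f ⟨x, hxK⟩).1.cycleType = {2} := by
        rcases le_cons_cases h3 with h8 | ⟨t, ht, h8⟩
        · rw [Multiset.le_singleton] at h8
          rcases h8 with h8 | h8
          · rw [h8] at h6
            rw [Multiset.sum_zero] at h6
            omega
          · exact h8
        · rw [h8, Multiset.sum_cons] at h4
          omega
      rw [sign_of_cycleType, h7]
      rfl
    by_cases hg1 : sign (f ⟨g, hg⟩).1 = 1
    · exact hone ⟨g, hg⟩ hg1
    · have hg2 : sign (f ⟨g, hg⟩).1 = -1 := (Int.units_eq_one_or _).resolve_left hg1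
      have h1 : (g * x⁻¹) ∈ R := by
        refine hone ⟨g * x⁻¹, K.mul_mem hg (K.inv_mem hxK)⟩ ?_
        have h2 : (⟨g * x⁻¹, K.mul_mem hg (K.inv_mem hxK)⟩ : K) = ⟨g, hg⟩ * (⟨x, hxK⟩)⁻¹ := rfl
        rw [h2, map_mul, map_inv, Prod.fst_mul, Prod.fst_inv, Perm.sign_mul, Perm.sign_inv, hg2, hxs]
        rfl
      have h2 := R.mul_mem h1 hxR
      rwa [inv_mul_cancel_right] at h2

/-- the order of a group preserving a set -/
theorem card_dvd {p : Fin 7 → Prop} [DecidablePred p] {k : ℕ} (hcA : Fintype.card {x // p x} = k)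
    (hcB : Fintype.card {x // ¬ p x} = 7 - k) (hK : ∀ g ∈ K, ∀ x, p ((g : Perm (Fin 7)) x) ↔ p x) (hk : k ≤ 3) :
    2 * Nat.card K ∣ k.factorial * (7 - k).factorial := by
  classical
  have hntB : Nontrivial {x // ¬ p x} := Fintype.one_lt_card_iff_nontrivial.1 (by rw [hcB]; omega)
  let f : K →* Perm {x // p x} × Perm {x // ¬ p x} :=
    ((rA p).prod (rB p)).comp (((alternatingGroup (Fin 7)).subtype.comp K.subtype).codRestrict (St p)
      (fun g => hK g g.2))
  have hmul : ∀ g : K, ((g : alternatingGroup (Fin 7)) : Perm (Fin 7)) = ofSubtype (f g).1 * ofSubtype (f g).2 :=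
    fun g => eq_mul p ⟨_, hK g g.2⟩
  have hfi : Function.Injective f := by
    intro g h hgh
    apply Subtype.ext
    apply Subtype.ext
    rw [hmul g, hmul h, hgh]
  have hfE : f.range ≤ Ev p := by
    rintro _ ⟨g, rfl⟩
    have h0 : f g = (rA p ⟨((g : alternatingGroup (Fin 7)) : Perm (Fin 7)), hK g g.2⟩,
      rB p ⟨((g : alternatingGroup (Fin 7)) : Perm (Fin 7)), hK g g.2⟩) := rfl
    rw [mem_Ev, h0, ← sign_eq]
    exact mem_alternatingGroup.1 (g : alternatingGroup (Fin 7)).2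
  have h1 := card_Ev p hntB
  rw [hcA, hcB] at h1
  rw [← h1]
  refine Nat.mul_dvd_mul_left 2 ?_
  rw [Nat.card_congr (MonoidHom.ofInjective hfi).toEquiv]
  exact Subgroup.card_dvd_of_le hfE

theorem contra_of_dvd {p : Fin 7 → Prop} [DecidablePred p] {k d : ℕ} (hcA : Fintype.card {x // p x} = k)
    (hcB : Fintype.card {x // ¬ p x} = 7 - k) (hK : ∀ g ∈ K, ∀ x, p ((g : Perm (Fin 7)) x) ↔ p x) (hk : k ≤ 3)
    (hRK : R < K) (hd : d ∣ Nat.card R) (hd4 : k.factorial * (7 - k).factorial = 4 * d) (hd0 : 0 < d)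
    (hx : k = 1 ∨ ¬ Miss R {4, 2}) : False := by
  have h1 := card_dvd hcA hcB hK hk
  rw [hd4] at h1
  have h2 : Nat.card K ∣ 2 * d := by
    have : 2 * Nat.card K ∣ 2 * (2 * d) := by rw [← mul_assoc]; exact h1
    exact Nat.dvd_of_mul_dvd_mul_left (by norm_num) this
  have h3 : (R.subgroupOf K).index * Nat.card R = Nat.card K := by
    rw [mul_comm, ← Nat.card_congr (Subgroup.subgroupOfEquivOfLe hRK.le).toEquiv]
    exact Subgroup.card_mul_index _
  have h4 : (R.subgroupOf K).index ≠ 1 := by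
    rw [Ne, Subgroup.index_eq_one, Subgroup.subgroupOf_eq_top]
    exact not_le_of_gt hRK
  obtain ⟨e, he⟩ := hd
  obtain ⟨i, hi⟩ : ∃ i, i = (R.subgroupOf K).index := ⟨_, rfl⟩
  rw [← hi] at h3 h4
  have h5 : i * e ∣ 2 := by
    rw [← h3, he] at h2
    have : d * (i * e) ∣ d * 2 := by
      rw [show d * (i * e) = i * (d * e) by ring, mul_comm d 2]
      exact h2
    exact Nat.dvd_of_mul_dvd_mul_left hd0 this
  have h6 : i = 2 := by
    have h7 := (Nat.dvd_prime Nat.prime_two).1 ((Dvd.intro _ rfl).trans h5)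
    exact h7.resolve_left h4
  have h7 : e = 1 := by
    rw [h6] at h5
    have := Nat.dvd_of_mul_dvd_mul_left (by norm_num : 0 < 2) (show 2 * e ∣ 2 * 1 by simpa only [_root_.mul_one] using h5)
    exact Nat.dvd_one.1 this
  have h8 : Nat.card K = 2 * d := by rw [← h3, h6, he, h7, mul_one]
  refine not_le_of_gt hRK (le_of_index_two hcA hcB hK hk (by rw [hd4, h8]; omega) ?_ ?_)
  · intro g hg
    have h9 : (R.subgroupOf K).index = 2 := by rw [← hi, h6]
    have h10 := Subgroup.mul_self_mem_of_index_two h9 (⟨g, hg⟩ : K)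
    exact h10
  · rcases hx with hx | hx
    · exact Or.inl hx
    · right
      obtain ⟨x, hx⟩ := exists_of_not_miss hx
      exact ⟨x, x.2, hRK.le x.2, hx⟩

end two

/-! ### the missing types -/

theorem alt7_7 : IsAlt 7 {7} := alt_one (by norm_num) (by norm_num) (by decide)
theorem alt7_5 : IsAlt 7 {5} := alt_one (by norm_num) (by norm_num) (by decide)
theorem alt7_3 : IsAlt 7 {3} := alt_one (by norm_num) (by norm_num) (by decide)
theorem alt7_33 : IsAlt 7 {3, 3} := alt_two (by norm_num) (by norm_num) (by norm_num) (by decide)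
theorem alt7_42 : IsAlt 7 {4, 2} := alt_two (by norm_num) (by norm_num) (by norm_num) (by decide)
theorem alt7_322 : IsAlt 7 {3, 2, 2} := alt_three (by norm_num) (by norm_num) (by norm_num) (by norm_num) (by decide)

theorem seven_intrans {R M : Subgroup (alternatingGroup (Fin 7))} (hRM : R < M) {Δ : Finset (Fin 7)}
    (hinv : ∀ g ∈ M, ∀ x ∈ Δ, (g : Perm (Fin 7)) x ∈ Δ) (h1 : 1 ≤ Δ.card) (h2 : 2 * Δ.card ≤ 7) :
    Three (alternatingGroup (Fin 7)) R := by
  classical
  by_contra hcon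
  have hinvR : ∀ g ∈ R, ∀ x ∈ Δ, (g : Perm (Fin 7)) x ∈ Δ := fun g hg => hinv g (hRM.le hg)
  have hiff : ∀ g ∈ M, ∀ x, (g : Perm (Fin 7)) x ∈ Δ ↔ x ∈ Δ := by
    intro g hg x
    refine ⟨fun h => ?_, hinv g hg x⟩
    have h3 := hinv g⁻¹ (M.inv_mem hg) _ h
    rw [Subgroup.coe_inv, Equiv.Perm.inv_def, Equiv.symm_apply_apply] at h3
    exact h3
  have m7 : Miss R {7} := miss_one hinvR (by omega) (by omega)
  obtain ⟨p, hp⟩ : ∃ p : Fin 7 → Prop, ∀ x, p x ↔ x ∈ Δ := ⟨fun x => x ∈ Δ, fun _ => Iff.rfl⟩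
  have hcA : Fintype.card {x // p x} = Δ.card := by
    rw [Fintype.card_subtype]
    congr 1
    ext x
    simp [hp]
  have hcB : Fintype.card {x // ¬ p x} = 7 - Δ.card := by
    rw [Fintype.card_subtype_compl, Fintype.card_fin, hcA]
  have hKp : ∀ g ∈ M, ∀ x, p ((g : Perm (Fin 7)) x) ↔ p x := by
    intro g hg x
    rw [hp, hp]; exact hiff g hg x
  have hkk : Δ.card = 1 ∨ Δ.card = 2 ∨ Δ.card = 3 := by omega
  rcases hkk with hk | hk | hk
  · have m2 : Miss R {3, 2, 2} := miss_three hinvR (by omega)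
    have key : ∀ c : Multiset ℕ, ({7} : Multiset ℕ) ≠ c → ({3, 2, 2} : Multiset ℕ) ≠ c → IsAlt 7 c → ¬ Miss R c :=
      fun c h3 h4 h5 h6 => hcon (three_of_miss (by norm_num) ne13 h3 h4 alt7_7 alt7_322 h5 m7 m2 h6)
    have n5 := key {5} (ne11 (by norm_num)) (Ne.symm ne13) alt7_5
    have n42 := key {4, 2} ne12 (Ne.symm ne23) alt7_42
    have n3 := key {3} (ne11 (by norm_num)) (Ne.symm ne13) alt7_3
    have n33 := key {3, 3} ne12 (Ne.symm ne23) alt7_33
    have d5 : 5 ∣ Nat.card R := dvd_of_not_miss n5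
    have d4 : 4 ∣ Nat.card R := dvd_of_not_miss n42
    have d9 : 9 ∣ Nat.card R := nine_dvd n3 n33
    refine contra_of_dvd (k := 1) (d := 180) (hcA.trans hk) (by rw [hcB, hk]) hKp (by norm_num) hRM ?_ (by decide)
      (by norm_num) (Or.inl rfl)
    have h3 : 4 * 5 ∣ Nat.card R := Nat.Coprime.mul_dvd_of_dvd_of_dvd (by norm_num) d4 d5
    exact Nat.Coprime.mul_dvd_of_dvd_of_dvd (by norm_num) h3 d9
  · have m2 : Miss R {3, 3} := miss_two hinvR (by omega) (by omega) (by omega) (by omega)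
    have key : ∀ c : Multiset ℕ, ({7} : Multiset ℕ) ≠ c → ({3, 3} : Multiset ℕ) ≠ c → IsAlt 7 c → ¬ Miss R c :=
      fun c h3 h4 h5 h6 => hcon (three_of_miss (by norm_num) ne12 h3 h4 alt7_7 alt7_33 h5 m7 m2 h6)
    have n5 := key {5} (ne11 (by norm_num)) (Ne.symm ne12) alt7_5
    have n42 := key {4, 2} ne12 (ne22 (by norm_num) (by norm_num)) alt7_42
    have n3 := key {3} (ne11 (by norm_num)) (Ne.symm ne12) alt7_3
    have d5 : 5 ∣ Nat.card R := dvd_of_not_miss n5
    have d4 : 4 ∣ Nat.card R := dvd_of_not_miss n42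
    have d3 : 3 ∣ Nat.card R := dvd_of_not_miss n3
    refine contra_of_dvd (k := 2) (d := 60) (hcA.trans hk) (by rw [hcB, hk]) hKp (by norm_num) hRM ?_ (by decide)
      (by norm_num) (Or.inr n42)
    have h3 : 4 * 5 ∣ Nat.card R := Nat.Coprime.mul_dvd_of_dvd_of_dvd (by norm_num) d4 d5
    exact Nat.Coprime.mul_dvd_of_dvd_of_dvd (by norm_num) h3 d3
  · have m2 : Miss R {5} := miss_one hinvR (by omega) (by omega)
    have key : ∀ c : Multiset ℕ, ({7} : Multiset ℕ) ≠ c → ({5} : Multiset ℕ) ≠ c → IsAlt 7 c → ¬ Miss R c :=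
      fun c h3 h4 h5 h6 => hcon (three_of_miss (by norm_num) (ne11 (by norm_num)) h3 h4 alt7_7 alt7_5 h5 m7 m2 h6)
    have n42 := key {4, 2} ne12 ne12 alt7_42
    have n3 := key {3} (ne11 (by norm_num)) (ne11 (by norm_num)) alt7_3
    have n33 := key {3, 3} ne12 ne12 alt7_33
    have d4 : 4 ∣ Nat.card R := dvd_of_not_miss n42
    have d9 : 9 ∣ Nat.card R := nine_dvd n3 n33
    refine contra_of_dvd (k := 3) (d := 36) (hcA.trans hk) (by rw [hcB, hk]) hKp (by norm_num) hRM ?_ (by decide)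
      (by norm_num) (Or.inr n42)
    exact Nat.Coprime.mul_dvd_of_dvd_of_dvd (by norm_num) d4 d9

theorem card_seven : Nat.card (alternatingGroup (Fin 7)) = 2520 := by
  have h1 : 2 * Nat.card (alternatingGroup (Fin 7)) = Nat.factorial 7 := by
    rw [two_mul_nat_card_alternatingGroup, Nat.card_perm, Nat.card_eq_fintype_card, Fintype.card_fin]
  have h2 : Nat.factorial 7 = 5040 := by decide
  omega

/-- no proper subgroup of order divisible by 420 -/
theorem index_seven {M : Subgroup (alternatingGroup (Fin 7))} (hM : M ≠ ⊤) (h : 420 ∣ Nat.card M) : False := by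
  classical
  have hs : IsSimpleGroup (alternatingGroup (Fin 7)) :=
    alternatingGroup.isSimpleGroup (by rw [Nat.card_eq_fintype_card, Fintype.card_fin]; norm_num)
  obtain ⟨e, he⟩ := h
  have h1 := Subgroup.card_mul_index M
  rw [card_seven, he] at h1
  have h2 : M.index ≤ 6 := by
    have he0 : 0 < e := by
      rcases Nat.eq_zero_or_pos e with h0 | h0
      · rw [h0] at h1; omega
      · exact h0
    nlinarith
  let f := MulAction.toPermHom (alternatingGroup (Fin 7)) (alternatingGroup (Fin 7) ⧸ M)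
  have hf : Function.Injective f := by
    rw [← MonoidHom.ker_eq_bot_iff]
    rcases IsSimpleGroup.eq_bot_or_eq_top_of_normal f.ker inferInstance with h3 | h3
    · exact h3
    · exfalso
      apply hM
      have h4 : M.normalCore = ⊤ := by rw [Subgroup.normalCore_eq_ker]; exact h3
      exact top_le_iff.1 (h4 ▸ M.normalCore_le)
  have h3 : Nat.card (alternatingGroup (Fin 7)) ≤ Nat.card (Perm (alternatingGroup (Fin 7) ⧸ M)) :=
    Nat.card_le_card_of_injective f hf
  rw [card_seven, Nat.card_perm, ← Subgroup.index_eq_card] at h3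
  have h4 := Nat.factorial_le h2
  have h5 : Nat.factorial 6 = 720 := by decide
  omega

theorem seven_trans {M : Subgroup (alternatingGroup (Fin 7))} (hM : M ≠ ⊤)
    (htr : IsPretransitive (M.map (alternatingGroup (Fin 7)).subtype) (Fin 7)) : Three (alternatingGroup (Fin 7)) M := by
  have h7F : Fact (Nat.Prime 7) := ⟨by norm_num⟩
  have d7 : 7 ∣ Nat.card ↥(M.map (alternatingGroup (Fin 7)).subtype) := by
    have h2 := MulAction.index_stabilizer_of_transitive (↥(M.map (alternatingGroup (Fin 7)).subtype)) (0 : Fin 7)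
    have h3 := Subgroup.index_dvd_card (stabilizer (↥(M.map (alternatingGroup (Fin 7)).subtype)) (0 : Fin 7))
    rwa [h2, Nat.card_fin] at h3
  have hprim : IsPreprimitive (M.map (alternatingGroup (Fin 7)).subtype) (Fin 7) := by
    obtain ⟨g, hg⟩ := exists_prime_orderOf_dvd_card' 7 d7
    refine prim_of_mem htr (by norm_num) (l := 7) (by norm_num) (by norm_num) g.2 ?_ ?_
    · have := pow_orderOf_eq_one g
      rw [hg] at this
      exact congrArg Subtype.val this
    · intro h1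
      have : g = 1 := Subtype.ext h1
      rw [this, orderOf_one] at hg
      omega
  have hcM : Nat.card ↥(M.map (alternatingGroup (Fin 7)).subtype) = Nat.card M :=
    (Nat.card_congr (M.equivMapOfInjective _ (alternatingGroup (Fin 7)).subtype_injective).toEquiv).symm
  rw [hcM] at d7
  have m1 : Miss M {3} := miss_of_jordan (s := 0) (k := 1) (by norm_num) hM (by norm_num) (by norm_num) (by norm_num)
    (by norm_num) (by simp) fun _ _ _ _ => hprim
  have m2 : Miss M {3, 2, 2} := miss_of_jordan (s := {2, 2}) (k := 2) (by norm_num) hM (by norm_num) (by norm_num)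
    (by norm_num) (by norm_num) (by simp) fun _ _ _ _ => hprim
  by_contra hcon
  have key : ∀ c : Multiset ℕ, ({3} : Multiset ℕ) ≠ c → ({3, 2, 2} : Multiset ℕ) ≠ c → IsAlt 7 c → ¬ Miss M c :=
    fun c h3 h4 h5 h6 => hcon (three_of_miss (by norm_num) ne13 h3 h4 alt7_3 alt7_322 h5 m1 m2 h6)
  have d5 : 5 ∣ Nat.card M := dvd_of_not_miss (key {5} (ne11 (by norm_num)) (Ne.symm ne13) alt7_5)
  have d4 : 4 ∣ Nat.card M := dvd_of_not_miss (key {4, 2} ne12 (Ne.symm ne23) alt7_42)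
  have d3 : 3 ∣ Nat.card M := dvd_of_not_miss (key {3, 3} ne12 (Ne.symm ne23) alt7_33)
  have h3 : 4 * 5 ∣ Nat.card M := Nat.Coprime.mul_dvd_of_dvd_of_dvd (by norm_num) d4 d5
  have h4 : 4 * 5 * 3 ∣ Nat.card M := Nat.Coprime.mul_dvd_of_dvd_of_dvd (by norm_num) h3 d3
  exact index_seven hM (Nat.Coprime.mul_dvd_of_dvd_of_dvd (by norm_num) h4 d7)

/-- **The row of the alternating groups.** -/
theorem rowS_alt {n : ℕ} (hn : 7 ≤ n) : RowS (alternatingGroup (Fin n)) := by
  rcases Nat.lt_or_ge n 8 with h | h8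
  · have h7 : n = 7 := by omega
    subst h7
    refine ⟨fun M hM => two_alt hn hM.1, fun R hR hRc => ?_⟩
    rcases eq_top_or_exists_le_coatom R with h1 | ⟨M, hM, h1⟩
    · exact absurd h1 hR
    · have hlt : R < M := lt_of_le_of_ne h1 fun h3 => hRc (h3 ▸ hM)
      by_cases htr : IsPretransitive (M.map (alternatingGroup (Fin 7)).subtype) (Fin 7)
      · exact (seven_trans hM.1 htr).mono h1
      · obtain ⟨Δ, hinv, h2, h3⟩ := exists_orbit htr
        exact seven_intrans hlt hinv h2 h3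
  · exact RowS.of_three fun M hM => three_alt h8 hM.1

end Cfsg.Agent.H546.Der
end

-- part: H833/RS/Ntc
section
/-!
# `NTC` for `Ω_{2m+1}(q)`, `(m, q) ≠ (3, 3)` (helper833, for S3502)
-/

set_option autoImplicit false
set_option linter.unusedSectionVars false

namespace Cfsg.Agent.H833.RS

open Cfsg Cfsg.Geo Cfsg.Agent.H439.Der Cfsg.Agent.LieClassical.OmegaReindex Cfsg.Agent.H377 Polynomial
open Cfsg.Agent.H265.Der
open scoped MatrixGroups Matrix

/-- the number of `j < N` not divisible by `v` -/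
theorem card_not_dvd {v N : ℕ} : N - N / v ≤ ((Finset.range N).filter fun j => ¬ v ∣ j).card + 1 := by
  have h1 := Finset.card_filter_add_card_filter_not (s := Finset.range N) (fun j => v ∣ j)
  rw [Finset.card_range] at h1
  have h2 : ((Finset.range N).filter fun j => v ∣ j).card ≤ (Finset.range (N / v + 1)).card := by
    refine Finset.card_le_card_of_injOn (fun j => j / v) (fun j hj => ?_) ?_
    · rw [Finset.mem_coe, Finset.mem_filter, Finset.mem_range] at hj
      rw [Finset.mem_coe, Finset.mem_range]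
      exact Nat.lt_succ_of_le (Nat.div_le_div_right hj.1.le)
    · intro a ha b hb hab
      rw [Finset.mem_coe, Finset.mem_filter] at ha hb
      have h3 : a / v = b / v := hab
      rw [← Nat.div_mul_cancel ha.2, ← Nat.div_mul_cancel hb.2, h3]
  rw [Finset.card_range] at h2
  omega

section

variable {ι : Type} [Fintype ι] [DecidableEq ι] {F : Type} [Field F] [Fintype F] {Q : QuadraticForm F (ι → F)}

seal _root_.Finset.sum _root_.dotProduct in
/-- **Eigenvalue bound for two classes.** -/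
theorem scc_bound (hS : SemiAut (⇑Q)) (hc : Subgroup.center (Omega F ⇑Q) = ⊥) {v N : ℕ} (hv : v.Prime)
    (hvN : v ∣ N) {z : Omega F ⇑Q} (hz : orderOf (QuotientGroup.mk z : POmega F ⇑Q) = N) {L : Type}
    [Field L] [Algebra F L] {b : L} (hb : orderOf b = N) (i : L →ₗ[F] (ι → F)) (hi : Function.Injective i)
    (hzi : ∀ x, ac z *ᵥ i x = i (b * x)) (h : SCC (POmega F ⇑Q) v) :
    N - N / v ≤ 2 * (Nat.card (F ≃+* F) * Fintype.card ι) + 1 := by
  classical
  have hinj : Function.Injective (QuotientGroup.mk : Omega F ⇑Q → POmega F ⇑Q) := by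
    intro x y hxy
    have h1 : x⁻¹ * y ∈ Subgroup.center (Omega F ⇑Q) := QuotientGroup.eq.1 hxy
    rw [hc, Subgroup.mem_bot] at h1
    exact (inv_mul_eq_one.1 h1)
  obtain ⟨x₀, y₀, h⟩ := h
  obtain ⟨g₁, rfl⟩ := QuotientGroup.mk_surjective x₀
  obtain ⟨g₂, rfl⟩ := QuotientGroup.mk_surjective y₀
  have : Finite (F ≃+* F) := Finite.of_injective (fun f : F ≃+* F => (f : F → F)) DFunLike.coe_injective
  have := Fintype.ofFinite (F ≃+* F)
  let R : Omega F ⇑Q → (F ≃+* F) → Finset L := fun g σ =>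
    (((ac g).charpoly.map (σ : F →+* F)).map (algebraMap F L)).roots.toFinset
  have hR : ∀ g σ, (R g σ).card ≤ Fintype.card ι := by
    intro g σ
    refine (Multiset.toFinset_card_le _).trans ((card_roots' _).trans ?_)
    refine (natDegree_map_le).trans ((natDegree_map_le).trans ?_)
    rw [Matrix.charpoly_natDegree_eq_dim]
  -- the eigenvalues
  have hzj : ∀ (j : ℕ) (x : L), ac (z ^ j) *ᵥ i x = i (b ^ j * x) := by
    intro j
    induction j with
    | zero => intro x; rw [pow_zero, ac_one, Matrix.one_mulVec, pow_zero, one_mul]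
    | succ j ih =>
      intro x
      rw [pow_succ', ac_mul, ← Matrix.mulVec_mulVec, ih, hzi, pow_succ', mul_assoc]
  have haev : ∀ (j : ℕ) (P : F[X]) (x : L), (aeval (ac (z ^ j)) P) *ᵥ i x = i (aeval (b ^ j) P * x) := by
    intro j P x
    induction P using Polynomial.induction_on' with
    | add p q hp hq => rw [map_add, map_add, Matrix.add_mulVec, hp, hq, add_mul, map_add]
    | monomial n c =>
      rw [aeval_monomial, aeval_monomial, ← Matrix.mulVec_mulVec]
      have h1 : ∀ (n : ℕ) (x : L), (ac (z ^ j)) ^ n *ᵥ i x = i ((b ^ j) ^ n * x) := by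
        intro n
        induction n with
        | zero => intro x; rw [pow_zero, Matrix.one_mulVec, pow_zero, one_mul]
        | succ n ih => intro x; rw [pow_succ', ← Matrix.mulVec_mulVec, ih, hzj, pow_succ', mul_assoc]
      rw [h1, ← Algebra.smul_def, smul_mul_assoc, map_smul, Algebra.algebraMap_eq_smul_one,
        Matrix.smul_mulVec, Matrix.one_mulVec]
  have hroot : ∀ j : ℕ, aeval (b ^ j) (ac (z ^ j)).charpoly = 0 := by
    intro j
    have h1 := haev j (ac (z ^ j)).charpoly 1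
    rw [Matrix.aeval_self_charpoly, Matrix.zero_mulVec, mul_one] at h1
    exact hi (by rw [← h1, map_zero])
  let U : Finset L := Finset.univ.biUnion (R g₁) ∪ Finset.univ.biUnion (R g₂)
  have hU : U.card ≤ 2 * (Nat.card (F ≃+* F) * Fintype.card ι) := by
    have h1 : ∀ g, (Finset.univ.biUnion (R g)).card ≤ Nat.card (F ≃+* F) * Fintype.card ι := by
      intro g
      refine Finset.card_biUnion_le.trans ((Finset.sum_le_card_nsmul _ _ _ fun σ _ => hR g σ).trans ?_)
      rw [Finset.card_univ, smul_eq_mul, Nat.card_eq_fintype_card]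
    refine (Finset.card_union_le _ _).trans ?_
    have := h1 g₁
    have := h1 g₂
    omega
  have hmem : ∀ j ∈ (Finset.range N).filter (fun j => ¬ v ∣ j), b ^ j ∈ U := by
    intro j hj
    rw [Finset.mem_filter, Finset.mem_range] at hj
    have hj0 : 0 < j := Nat.pos_of_ne_zero (by rintro rfl; exact hj.2 (dvd_zero _))
    have hord : v ∣ orderOf (QuotientGroup.mk (z ^ j) : POmega F ⇑Q) := by
      have h1 : (QuotientGroup.mk (z ^ j) : POmega F ⇑Q) = (QuotientGroup.mk z : POmega F ⇑Q) ^ j := rfl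
      rw [h1, orderOf_pow, hz]
      have h3 : ¬ v ∣ N.gcd j := fun h4 => hj.2 (h4.trans (Nat.gcd_dvd_right _ _))
      have h4 : v ∣ N / N.gcd j * N.gcd j := by rw [Nat.div_mul_cancel (Nat.gcd_dvd_left _ _)]; exact hvN
      exact ((Nat.Prime.dvd_mul hv).1 h4).resolve_right h3
    have key : ∀ g : Omega F ⇑Q, (∃ φ : POmega F ⇑Q ≃* POmega F ⇑Q, φ (QuotientGroup.mk g) = QuotientGroup.mk (z ^ j)) →
        b ^ j ∈ Finset.univ.biUnion (R g) := by
      rintro g ⟨φ, hφ⟩
      obtain ⟨σ, μ, T, -, hs, -, hT⟩ := hS φ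
      obtain ⟨g', h1, h2⟩ := hT g
      have h3 : g' = z ^ j := hinj (by rw [← h2, hφ])
      rw [h3] at h1
      have h5 := charpoly_semi hs h1
      rw [Finset.mem_biUnion]
      refine ⟨σ, Finset.mem_univ _, ?_⟩
      change b ^ j ∈ (((ac g).charpoly.map (σ : F →+* F)).map (algebraMap F L)).roots.toFinset
      rw [← h5, Multiset.mem_toFinset, mem_roots']
      refine ⟨((ac (z ^ j)).charpoly_monic.map _).ne_zero, ?_⟩
      rw [IsRoot.def, eval_map_algebraMap]
      exact hroot j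
    rcases h _ hord with h1 | h1
    · exact Finset.mem_union_left _ (key g₁ h1)
    · exact Finset.mem_union_right _ (key g₂ h1)
  have hpinj : Set.InjOn (fun j => b ^ j) ((Finset.range N).filter (fun j => ¬ v ∣ j) : Finset ℕ) := by
    intro x hx y hy hxy
    rw [Finset.mem_coe, Finset.mem_filter, Finset.mem_range] at hx hy
    exact pow_injOn_Iio_orderOf (by rw [Set.mem_Iio, hb]; exact hx.1) (by rw [Set.mem_Iio, hb]; exact hy.1) hxy
  have h1 := Finset.card_le_card_of_injOn (fun j => b ^ j) hmem hpinj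
  have h2 := card_not_dvd (v := v) (N := N)
  omega

end

/-! ### elements of order `v p` -/

section vp

open Module Cfsg.Agent.H150 Cfsg.Agent.LieClassical.OrthCount

variable {F : Type} [Field F]

/-- the form `x² + y z` -/
noncomputable def q3 (F : Type) [Field F] : QuadraticForm F (F × (F × F)) :=
  QuadraticMap.linMulLin (LinearMap.fst F F (F × F)) (LinearMap.fst F F (F × F)) +
  QuadraticMap.linMulLin (LinearMap.fst F F F ∘ₗ LinearMap.snd F F (F × F))
    (LinearMap.snd F F F ∘ₗ LinearMap.snd F F (F × F))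

theorem q3_apply (x : F × (F × F)) : q3 F x = x.1 * x.1 + x.2.1 * x.2.2 := rfl

theorem q3_nd (h2 : (2 : F) ≠ 0) : ND (q3 F) := by
  have hp : ∀ x y : F × (F × F), QuadraticMap.polar (⇑(q3 F)) x y =
      2 * (x.1 * y.1) + x.2.1 * y.2.2 + y.2.1 * x.2.2 := by
    intro x y
    rw [QuadraticMap.polar, q3_apply, q3_apply, q3_apply]
    simp only [Prod.fst_add, Prod.snd_add]
    ring
  intro x hx
  have h1 := hx (1, (0, 0))
  have h3 := hx (0, (1, 0))
  have h4 := hx (0, (0, 1))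
  rw [hp] at h1 h3 h4
  refine Prod.ext ?_ (Prod.ext ?_ ?_)
  · have h5 : 2 * x.1 = 0 := by simpa only [_root_.mul_eq_zero, _root_.mul_one, _root_.MulZeroClass.mul_zero, _root_.add_zero, _root_.MulZeroClass.zero_mul] using h1
    exact (mul_eq_zero.1 h5).resolve_left h2
  · simpa using h4
  · simpa using h3

/-- a unipotent isometry of `q3` -/
def u3 (F : Type) [Field F] : (F × (F × F)) →ₗ[F] (F × (F × F)) where
  toFun x := (x.1 + x.2.2, (x.2.1 - 2 * x.1 - x.2.2, x.2.2))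
  map_add' x y := by
    refine Prod.ext ?_ (Prod.ext ?_ rfl)
    · show x.1 + y.1 + (x.2.2 + y.2.2) = x.1 + x.2.2 + (y.1 + y.2.2)
      ring
    · show x.2.1 + y.2.1 - 2 * (x.1 + y.1) - (x.2.2 + y.2.2) = x.2.1 - 2 * x.1 - x.2.2 + (y.2.1 - 2 * y.1 - y.2.2)
      ring
  map_smul' a x := by
    refine Prod.ext ?_ (Prod.ext ?_ rfl)
    · show a * x.1 + a * x.2.2 = a * (x.1 + x.2.2)
      ring
    · show a * x.2.1 - 2 * (a * x.1) - a * x.2.2 = a * (x.2.1 - 2 * x.1 - x.2.2)
      ring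

theorem u3_pow (j : ℕ) (x : F × (F × F)) :
    ((u3 F) ^ j) x = (x.1 + j * x.2.2, (x.2.1 - 2 * j * x.1 - j ^ 2 * x.2.2, x.2.2)) := by
  induction j with
  | zero => simp only [_root_.pow_zero, _root_.Module.End.one_apply, _root_.Nat.cast_zero, _root_.MulZeroClass.zero_mul, _root_.add_zero, _root_.MulZeroClass.mul_zero, _root_.sub_zero, _root_.ne_eq, _root_.OfNat.ofNat_ne_zero, _root_.not_false_eq_true, _root_.zero_pow, _root_.Prod.mk.eta]
  | succ j ih =>
    rw [pow_succ', Module.End.mul_apply, ih]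
    refine Prod.ext ?_ (Prod.ext ?_ rfl)
    · show x.1 + j * x.2.2 + x.2.2 = x.1 + ((j + 1 : ℕ) : F) * x.2.2
      push_cast; ring
    · show x.2.1 - 2 * j * x.1 - j ^ 2 * x.2.2 - 2 * (x.1 + j * x.2.2) - x.2.2 =
        x.2.1 - 2 * ((j + 1 : ℕ) : F) * x.1 - ((j + 1 : ℕ) : F) ^ 2 * x.2.2
      push_cast; ring

theorem u3_pow_eq_one_iff (p : ℕ) [CharP F p] (j : ℕ) : (u3 F) ^ j = 1 ↔ p ∣ j := by
  rw [← CharP.cast_eq_zero_iff F p]
  constructor
  · intro h
    have h1 := LinearMap.congr_fun h (0, (0, 1))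
    rw [u3_pow] at h1
    have h3 := congrArg (fun z : F × (F × F) => z.1) h1
    simpa only [_root_.mul_one, _root_.zero_add, _root_.Module.End.one_apply] using h3
  · intro h
    apply LinearMap.ext
    intro x
    rw [u3_pow, h]
    simp

theorem exists_mul_p [Fintype F] (p : ℕ) [hp : Fact p.Prime] [CharP F p] (h2 : (2 : F) ≠ 0) {m : ℕ} (hm : 1 ≤ m)
    {ε : ℤ} {v : ℕ} (hv : Odd v) (hvp : Nat.Coprime v p) (h : Elt F m ε v) :
    ∃ g : POmega F (quadFormOdd (m + 1) F), orderOf g = v * p := by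
  obtain ⟨hv0, Q, g, hQ, -, hg, ho⟩ := h
  have hp2 : p ≠ 2 := by
    rintro rfl
    exact h2 (by exact_mod_cast CharP.cast_eq_zero F 2)
  have hpodd : Odd p := hp.out.odd_of_ne_two hp2
  obtain ⟨a, ha⟩ := exists_og Q g hv0 (by rw [← ho]; exact pow_orderOf_eq_one g) hg
  have hao : orderOf a = v := H377.orderOf_eq_of_forall fun j => by
    rw [og_pow_eq_one_iff a _ ha, ← orderOf_dvd_iff_pow_eq_one, ho]
  obtain ⟨t, ht⟩ := exists_og (q3 F) (u3 F) hp.out.pos ((u3_pow_eq_one_iff p p).2 dvd_rfl) (fun v => by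
    rw [q3_apply, q3_apply]
    show (v.1 + v.2.2) * (v.1 + v.2.2) + (v.2.1 - 2 * v.1 - v.2.2) * v.2.2 = _
    ring)
  have hto : orderOf t = p := H377.orderOf_eq_of_forall fun j => by
    rw [og_pow_eq_one_iff t _ ht, u3_pow_eq_one_iff p]
  have hf3 : finrank F (F × (F × F)) = 3 := by
    rw [Module.finrank_prod, Module.finrank_prod, Module.finrank_self]
  have hd : finrank F (Fin (2 * m) → F) + finrank F (F × (F × F)) = 2 * (m + 1) + 1 := by
    rw [Module.finrank_fin_fun, hf3]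
    ring
  have hPnd : ND (Q.prod (q3 F)) := prod_nd _ _ hQ (q3_nd h2)
  have hmem : prodHom Q (q3 F) (a, t) ∈ commutator (OG (Q.prod (q3 F))) := by
    refine odd_mem_commutator h2 (Q.prod (q3 F)) hPnd (by rw [Module.finrank_prod, hd]; omega) _ (hv.mul hpodd) ?_
    have h5 : a ^ (v * p) = 1 := by rw [pow_mul, orderOf_dvd_iff_pow_eq_one.1 (dvd_of_eq hao), one_pow]
    have h6 : t ^ (v * p) = 1 := by rw [mul_comm, pow_mul, orderOf_dvd_iff_pow_eq_one.1 (dvd_of_eq hto), one_pow]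
    rw [← map_pow, Prod.pow_mk, h5, h6]
    exact map_one _
  obtain ⟨g, hg⟩ := exists_pomega_of_prod h2 Q (q3 F) hQ (q3_nd h2) (by omega) hd a t hmem
  exact ⟨g, by rw [hg, hao, hto, hvp.lcm_eq_mul]⟩

end vp

/-! ### `NTC` -/

open Cfsg.Agent.H94.PG

theorem pow_big {n : ℕ} (hn : 4 ≤ n) : 14 * n + 4 < 3 ^ n := by
  induction n, hn using Nat.le_induction with
  | base => norm_num
  | succ n hn ih => rw [pow_succ]; omega

/-- the odd primes different from the characteristic -/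
theorem dvd_cases {F : Type} [Field F] [Fintype F] {m : ℕ} (hm : 3 ≤ m) (hodd : Odd (Fintype.card F)) {v : ℕ}
    (hv : v.Prime) (hv2 : v ≠ 2) (hvF : ¬ v ∣ Nat.card F) (hd : v ∣ Nat.card (POmega F (quadFormOdd m F))) :
    (∃ i, 1 ≤ i ∧ i < m ∧ v ∣ Nat.card F ^ (2 * i) - 1) ∨ v ∣ Nat.card F ^ m - 1 ∨ v ∣ Nat.card F ^ m + 1 := by
  have h1 : v ∣ 2 * Nat.card (POmega F (quadFormOdd m F)) := Dvd.dvd.mul_left hd 2
  rw [Cfsg.Agent.S0292.result (F := F) rfl hodd m hm, ← Nat.card_eq_fintype_card] at h1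
  rcases (Nat.Prime.dvd_mul hv).1 h1 with h2 | h2
  · exact absurd (hv.dvd_of_dvd_pow h2) hvF
  · obtain ⟨i, hi, hi2⟩ := (hv.prime.dvd_finsetProd_iff _).1 h2
    rw [Finset.mem_range] at hi
    rcases Nat.lt_or_ge (i + 1) m with h3 | h3
    · exact Or.inl ⟨i + 1, by omega, h3, hi2⟩
    · rw [show i + 1 = m by omega, mul_comm, pow_mul] at hi2
      have h4 : (Nat.card F ^ m) ^ 2 - 1 = (Nat.card F ^ m + 1) * (Nat.card F ^ m - 1) := by
        rw [← Nat.sq_sub_sq, one_pow]
      rw [h4] at hi2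
      exact Or.inr ((Nat.Prime.dvd_mul hv).1 hi2).symm

/-- the numerical part of the eigenvalue bound -/
theorem num_contra {p f m v N : ℕ} (hp : p.Prime) (hp3 : 3 ≤ p) (hf : 1 ≤ f) (hm : 3 ≤ m)
    (h33 : ¬ (m = 3 ∧ p ^ f = 3)) (hv3 : 3 ≤ v) (hle : (p ^ f) ^ m ≤ 2 * N + 1)
    (h : N - N / v ≤ 2 * (f * (2 * m + 1)) + 1) : False := by
  have h1 : N / v ≤ N / 3 := Nat.div_le_div_left hv3 (by norm_num)
  have h2 : 2 * N ≤ 6 * (f * (2 * m + 1)) + 3 := by omega
  rw [← pow_mul] at hle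
  have h3 : f * (2 * m + 1) = 2 * (f * m) + f := by ring
  have h4 : f * 3 ≤ f * m := Nat.mul_le_mul_left _ hm
  rw [h3] at h2
  have h5 : 3 ^ (f * m) ≤ p ^ (f * m) := Nat.pow_le_pow_left hp3 _
  rcases Nat.lt_or_ge (f * m) 4 with h6 | h6
  · obtain rfl : f = 1 := by omega
    obtain rfl : m = 3 := by omega
    have h7 : p ≠ 3 := fun h7 => h33 ⟨rfl, by rw [h7]; norm_num⟩
    have h8 : p ≠ 4 := by rintro rfl; exact absurd hp (by norm_num)
    have h9 : 5 ≤ p := by omega
    have h10 : 5 ^ 3 ≤ p ^ 3 := Nat.pow_le_pow_left h9 3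
    norm_num only [] at hle h10 h2
    omega
  · have h7 := pow_big h6
    omega

/-- **`NTC` for `Ω_{2m+1}(q)`.** -/
theorem ntc_odd {F : Type} [Field F] [Fintype F] {m : ℕ} (hm : 3 ≤ m) (hodd : Odd (Fintype.card F))
    (h33 : ¬ (m = 3 ∧ Fintype.card F = 3)) : NTC (POmega F (quadFormOdd m F)) := by
  intro v hv hd
  have ho : Odd (Nat.card F) := by rwa [Nat.card_eq_fintype_card]
  have h2 : (2 : F) ≠ 0 := H377.OOdd.two_ne_zero_of_odd ho
  have hfin : Finite (POmega F (quadFormOdd m F)) := Quotient.finite _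
  obtain ⟨p, hp⟩ := CharP.exists F
  have hpp : p.Prime := CharP.char_is_prime F p
  have := Fact.mk hpp
  obtain ⟨f, -, hf⟩ := FiniteField.card F p
  have hpF : p ∣ Nat.card F := by rw [Nat.card_eq_fintype_card, hf]; exact dvd_pow_self p f.ne_zero
  have hp2 : p ≠ 2 := by
    rintro rfl
    rw [hf, Nat.odd_pow_iff f.ne_zero] at hodd
    exact absurd hodd (by decide)
  have hp3 : 3 ≤ p := by
    have := hpp.two_le
    omega
  have hpo : Odd p := hpp.odd_of_ne_two hp2
  have hprod : ∀ {a b : ℕ}, Adj (POmega F (quadFormOdd m F)) a b →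
      ∃ x : POmega F (quadFormOdd m F), orderOf x = a * b := by
    rintro a b ⟨ha, hb, hab, x, y, hx, hy, hxy⟩
    refine ⟨x * y, ?_⟩
    rw [hxy.orderOf_mul_eq_mul_orderOf_of_coprime, hx, hy]
    rw [hx, hy]
    exact (Nat.coprime_primes ha hb).2 hab
  have hq3 : 3 ≤ Nat.card F := hp3.trans (Nat.le_of_dvd Nat.card_pos hpF)
  obtain ⟨w, hw⟩ := exists_prime_orderOf_dvd_card' (hp := Fact.mk hv) v hd
  -- the prime 2
  by_cases hv2 : v = 2
  · subst hv2
    obtain ⟨x, hx⟩ := H372.exists_eight_omegaOdd (F := F) h2 hm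
    obtain ⟨y, hy⟩ := hprod (H377.OOdd.adj_two_of_char ho hm hpp hp2 hpF)
    refine not_SCC_of_orders (x := w) (y := x) (z := y) (by rw [hw]) (by rw [hx]; norm_num)
      (by rw [hy]; exact Dvd.intro_left _ rfl) ?_ ?_ ?_
    · rw [hw, hx]; norm_num
    · rw [hw, hy]; omega
    · rw [hx, hy]
      obtain ⟨c, hc⟩ := hpo
      omega
  have hvo : Odd v := hv.odd_of_ne_two hv2
  have hv3 : 3 ≤ v := by
    have := hv.two_le
    omega
  -- the characteristic
  by_cases hvp : v = p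
  · subst hvp
    obtain ⟨y, hy⟩ := hprod (H377.OOdd.adj_two_of_char ho hm hpp hp2 hpF)
    have h5 : 5 ≤ Nat.card F ^ (m - 2) := by
      rcases Nat.lt_or_ge m 4 with h | h
      · obtain rfl : m = 3 := by omega
        have h6 : Nat.card F ≠ 3 := fun h6 => h33 ⟨rfl, by rw [← Nat.card_eq_fintype_card, h6]⟩
        obtain ⟨c, hc⟩ := ho
        rw [show 3 - 2 = 1 from rfl, pow_one]
        omega
      · calc 5 ≤ 3 ^ 2 := by norm_num
          _ ≤ Nat.card F ^ 2 := Nat.pow_le_pow_left hq3 2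
          _ ≤ Nat.card F ^ (m - 2) := Nat.pow_le_pow_right (by omega) (by omega)
    have ho5 : Odd (Nat.card F ^ (m - 2)) := ho.pow
    obtain ⟨t, ht⟩ := ho5
    have hel := (H377.elt_char (F := F) hpp le_rfl).prod (H377.elt_tor_minus (F := F) (k := m - 2)
      (N := 2 * (t + 1)) (by omega) (by rw [ht]; exact ⟨1, by ring⟩))
    have hco : Nat.Coprime v (2 * (t + 1)) := by
      rw [hv.coprime_iff_not_dvd]
      intro h6
      have h7 : v ∣ Nat.card F ^ (m - 2) := dvd_pow hpF (by omega)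
      have h8 : v ∣ Nat.card F ^ (m - 2) + 1 := by rw [ht]; exact h6.trans ⟨1, by ring⟩
      exact hv.one_lt.ne' (Nat.dvd_one.1 ((Nat.dvd_add_right h7).1 h8))
    rw [show 2 + (m - 2) = m by omega, hco.lcm_eq_mul] at hel
    obtain ⟨x, hx⟩ := H377.exists_odd_of_elt h2 hm hel (N := v * (t + 1)) (fun j => by
      rw [show v * (2 * (t + 1)) = 2 * (v * (t + 1)) by ring]
      exact Nat.mul_dvd_mul_iff_left (by norm_num))
    refine not_SCC_of_orders (x := w) (y := y) (z := x) (by rw [hw]) (by rw [hy]; exact Dvd.intro _ rfl)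
      (by rw [hx]; exact Dvd.intro _ rfl) ?_ ?_ ?_
    · rw [hw, hy]; omega
    · rw [hw, hx]
      intro h6
      have h7 : v * 1 = v * (t + 1) := by rw [mul_one]; exact h6
      have := Nat.eq_of_mul_eq_mul_left hv.pos h7
      omega
    · rw [hy, hx]
      intro h6
      have := Nat.eq_of_mul_eq_mul_left hv.pos h6
      omega
  have hvF : ¬ v ∣ Nat.card F := by
    intro h
    rw [Nat.card_eq_fintype_card, hf] at h
    exact hvp ((Nat.prime_dvd_prime_iff_eq hv hpp).1 (hv.dvd_of_dvd_pow h))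
  have hvpc : Nat.Coprime v p := (Nat.coprime_primes hv hpp).2 hvp
  rcases dvd_cases hm hodd hv hv2 hvF hd with ⟨i, hi, him, hid⟩ | h3
  · -- support smaller than `2m`
    obtain ⟨y, hy⟩ := hprod (H377.OOdd.adj_two_of_dvd ho hm hi him hv hv2 hid)
    have h4 : ∃ ε : ℤ, Elt F (m - 1) ε v := by
      have h5 : ∃ ε : ℤ, Elt F i ε v := by
        rcases H377.OOdd.elt_of_dvd hi hv hid with h | h
        · exact ⟨_, h⟩
        · exact ⟨_, h⟩
      obtain ⟨ε, h5⟩ := h5
      have h6 := h5.prod (H377.elt_one (F := F) (m - 1 - i))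
      rw [show i + (m - 1 - i) = m - 1 by omega, Nat.lcm_one_right] at h6
      exact ⟨_, h6⟩
    obtain ⟨ε, h4⟩ := h4
    obtain ⟨x, hx⟩ : ∃ x : POmega F (quadFormOdd m F), orderOf x = v * p := by
      have h5 := exists_mul_p (F := F) p h2 (m := m - 1) (by omega) hvo hvpc h4
      rwa [show m - 1 + 1 = m by omega] at h5
    refine not_SCC_of_orders (x := w) (y := y) (z := x) (by rw [hw]) (by rw [hy]; exact Dvd.intro _ rfl)
      (by rw [hx]; exact Dvd.intro _ rfl) ?_ ?_ ?_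
    · rw [hw, hy]; omega
    · rw [hw, hx]
      intro h6
      have h7 : v * 1 = v * p := by rw [mul_one]; exact h6
      have := Nat.eq_of_mul_eq_mul_left hv.pos h7
      omega
    · rw [hy, hx]
      intro h6
      have := Nat.eq_of_mul_eq_mul_left hv.pos h6
      omega
  · -- support of dimension `2m`
    intro hscc
    have hS := semiAut_odd (F := F) hm h2
    have hc : Subgroup.center (Omega F ⇑(quadOdd m F)) = ⊥ := by
      refine LieClassical.OrthCenter.center_omega_eq_bot_of_odd h2 (quadOdd_nondegenerate h2)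
        (by rw [H884.El.card_odd]; omega) (by rw [H884.El.card_odd]; exact ⟨m, rfl⟩)
        ⟨Pi.single (.inr (.inl ⟨0, by omega⟩)) 1, ?_, ?_⟩
      · intro h
        have := congrFun h (.inr (.inl ⟨0, by omega⟩))
        rw [Pi.single_eq_same] at this
        exact one_ne_zero this
      · rw [coe_quadOdd]
        unfold Cfsg.quadFormOdd
        simp only [_root_.ne_eq, _root_.reduceCtorEq, _root_.not_false_eq_true, _root_.Pi.single_eq_of_ne, _root_.OfNat.ofNat_ne_zero, _root_.zero_pow, _root_.Sum.inr.injEq, _root_.MulZeroClass.mul_zero, _root_.Finset.sum_const_zero, _root_.add_zero]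
    have hscc' : SCC (POmega F ⇑(quadOdd m F)) v := by rw [coe_quadOdd]; exact hscc
    have hcA : Nat.card (F ≃+* F) = f := Lib.FieldAutCard.card_ringAut f.pos hf
    have hq : Odd (Nat.card F ^ m) := ho.pow
    obtain ⟨t, ht⟩ := hq
    have hco : Nat.Coprime v 2 := (Nat.coprime_primes hv Nat.prime_two).2 hv2
    have hpf : (p ^ (f : ℕ)) ^ m = Nat.card F ^ m := by rw [Nat.card_eq_fintype_card, hf]
    have h33' : ¬ (m = 3 ∧ p ^ (f : ℕ) = 3) := fun h => h33 ⟨h.1, by rw [hf]; exact h.2⟩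
    rcases h3 with h3 | h3
    · have h4 : Nat.card F ^ m - 1 = 2 * t := by omega
      obtain ⟨K, _, _, z, b, i, hz, hb, hi, hzi, -⟩ := exists_plus (F := F) h2 hm (N := t) (by rw [h4])
      rw [h4] at h3
      have h5 := scc_bound hS hc hv (hco.dvd_of_dvd_mul_left h3) hz hb i hi hzi hscc'
      rw [hcA, H884.El.card_odd] at h5
      exact num_contra hpp hp3 f.pos hm h33' hv3 (by rw [hpf]; omega) h5
    · have h4 : Nat.card F ^ m + 1 = 2 * (t + 1) := by omega
      obtain ⟨K, _, _, z, b, i, hz, hb, hi, hzi, -⟩ := exists_minus (F := F) h2 hm (N := t + 1) (by rw [h4])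
      rw [h4] at h3
      have h5 := scc_bound hS hc hv (hco.dvd_of_dvd_mul_left h3) hz hb i hi hzi hscc'
      rw [hcA, H884.El.card_odd] at h5
      exact num_contra hpp hp3 f.pos hm h33' hv3 (by rw [hpf]; omega) h5

end Cfsg.Agent.H833.RS
end

-- part: H833/RS/Type
section
/-!
# Subgroups of `Ω_{4k+1}(q)` missing a type of elements of order `r` (helper833, for S3502)

* `three_of_type`, `special_three`, `cyc_three`
-/

set_option autoImplicit false
set_option linter.unusedSectionVars false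

namespace Cfsg.Agent.H833.RS

open Cfsg Cfsg.Geo Cfsg.Agent.H439.Der Cfsg.Agent.LieClassical.OmegaReindex Cfsg.Agent.H377
open Cfsg.Agent.LieClassical.OrthCore QuadraticMap Module
open Cfsg.Agent.H884.El (PP pre)
open Cfsg.Agent.H955 (IsPlus res perp)
open Cfsg.Agent.H265.Der
open scoped MatrixGroups Matrix

section

variable {ι : Type} [Fintype ι] [DecidableEq ι] {F : Type} [Field F] [Fintype F] {Q : QuadraticForm F (ι → F)}

/-- a subgroup missing a type of elements of order `r` -/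
theorem three_of_type (hS : SemiAut (⇑Q)) {r n : ℕ} (hr : r.Prime) (hr2 : r ≠ 2) {M : Subgroup (POmega F ⇑Q)}
    {z : Omega F ⇑Q} (h1 : orderOf (QuotientGroup.mk z : POmega F ⇑Q) = 4 * r) (h2 : (z ^ 4) ^ r = 1)
    (h3 : fixn (z ^ 4) = n) (hM : ∀ x ∈ M, orderOf x = r → ¬ Ty r x n) : Three (POmega F ⇑Q) M := by
  have hr0 := hr.pos
  have hx : orderOf ((QuotientGroup.mk z : POmega F ⇑Q) ^ 4) = r := by
    rw [orderOf_pow_of_dvd (by norm_num) (by rw [h1]; exact Dvd.intro _ rfl), h1]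
    exact Nat.mul_div_cancel_left _ (by norm_num)
  have hx2 : orderOf ((QuotientGroup.mk z : POmega F ⇑Q) ^ 2) = 2 * r := by
    rw [orderOf_pow_of_dvd (by norm_num) (by rw [h1]; exact ⟨2 * r, by ring⟩), h1]
    omega
  have hty : Ty r ((QuotientGroup.mk z : POmega F ⇑Q) ^ 4) n := ⟨z ^ 4, rfl, h2, h3⟩
  have key : ∀ φ : POmega F ⇑Q ≃* POmega F ⇑Q, φ ((QuotientGroup.mk z : POmega F ⇑Q) ^ 4) ∉ M := by
    intro φ hφ
    refine hM _ hφ ?_ (hty.map hS φ)
    rw [H938.Sax.orderOf_mulEquiv, hx]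
  have hne : ∀ {x y : POmega F ⇑Q}, orderOf x ≠ orderOf y → ∀ φ : POmega F ⇑Q ≃* POmega F ⇑Q, φ x ≠ y := by
    intro x y h φ hφ
    rw [← hφ, H938.Sax.orderOf_mulEquiv] at h
    exact h rfl
  refine ⟨QuotientGroup.mk z, (QuotientGroup.mk z : POmega F ⇑Q) ^ 2, (QuotientGroup.mk z : POmega F ⇑Q) ^ 4,
    fun φ hφ => key φ ?_, fun φ hφ => key φ ?_, key, hne ?_, hne ?_, hne ?_⟩
  · rw [map_pow]
    exact pow_mem hφ _
  · rw [show 4 = 2 * 2 from rfl, pow_mul, map_pow]
    exact pow_mem hφ _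
  · rw [h1, hx2]; omega
  · rw [h1, hx]; omega
  · rw [hx2, hx]; omega

end

section

variable {F : Type} [Field F] [Fintype F] {k r : ℕ}

theorem eight_dvd {n : ℕ} (h : Odd n) : 8 ∣ n ^ 2 - 1 := by
  obtain ⟨j, rfl⟩ := h
  have h1 : (2 * j + 1) ^ 2 - 1 = 4 * (j * (j + 1)) := by
    have : (2 * j + 1) ^ 2 = 4 * (j * (j + 1)) + 1 := by ring
    omega
  obtain ⟨c, hc⟩ := Nat.even_mul_succ_self j
  rw [h1, hc]
  exact ⟨c, by ring⟩

theorem odd_card (h2 : (2 : F) ≠ 0) : Odd (Nat.card F) := by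
  obtain ⟨p, _⟩ := CharP.exists F
  have hpp : p.Prime := CharP.char_is_prime F p
  have := Fact.mk hpp
  obtain ⟨f, -, hf⟩ := FiniteField.card F p
  rw [Nat.card_eq_fintype_card, hf]
  refine (hpp.odd_of_ne_two ?_).pow
  rintro rfl
  apply h2
  have := CharP.cast_eq_zero F 2
  exact_mod_cast this

theorem eight_mul_dvd (h2 : (2 : F) ≠ 0) (hk : 2 ≤ k) (hr : PP (Nat.card F) (2 * k) r) :
    2 * (4 * r) ∣ Nat.card F ^ (2 * k) - 1 := by
  have h8 : 8 ∣ Nat.card F ^ (2 * k) - 1 := by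
    rw [mul_comm 2 k, pow_mul]
    exact eight_dvd ((odd_card h2).pow)
  have hodd := pp_odd hk hr
  have hrd : r ∣ Nat.card F ^ (2 * k) - 1 := by
    have h1 := H938.Sax.dvd_pow_add_one Nat.card_pos (by omega) hr
    refine h1.trans ?_
    rw [mul_comm 2 k, pow_mul]
    refine ⟨Nat.card F ^ k - 1, ?_⟩
    rw [← Nat.sq_sub_sq, one_pow]
  have hco : Nat.Coprime 8 r := by
    rw [show (8 : ℕ) = 2 ^ 3 by norm_num]
    exact Nat.Coprime.pow_left 3 (Nat.coprime_two_left.2 hodd)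
  have h3 := hco.mul_dvd_of_dvd_of_dvd h8 hrd
  rwa [show 2 * (4 * r) = 8 * r by ring]

/-- **type B, order `4r`** -/
theorem exists_B4 (h2 : (2 : F) ≠ 0) (hk : 2 ≤ k) (hr : PP (Nat.card F) (2 * k) r) :
    ∃ z : Omega F ⇑(quadOdd (2 * k) F), orderOf (QuotientGroup.mk z : POmega F ⇑(quadOdd (2 * k) F)) = 4 * r ∧
      (z ^ 4) ^ r = 1 ∧ fixn (z ^ 4) = Nat.card F := by
  obtain ⟨K, _, _, z, b, i, hz, -, -, -, h1, h3⟩ := exists_plus (F := F) h2 (m := 2 * k) (by omega) (N := 4 * r)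
    (eight_mul_dvd h2 hk hr)
  refine ⟨z, hz, ?_, h3 4 ?_⟩
  · rw [← pow_mul]
    exact h1 _ dvd_rfl
  · intro h
    have := Nat.le_of_dvd (by norm_num) h
    have := hr.lt (by omega)
    omega

/-- an isometry of order 8 in dimension `2k` -/
theorem elt_eight (h2 : (2 : F) ≠ 0) (hk : 2 ≤ k) : ∃ ε : ℤ, Elt F k ε 8 := by
  have h := elt_tor_plus (F := F) (k := 2) (N := 8) (by norm_num) (eight_dvd (odd_card h2))
  rcases Nat.lt_or_ge 2 k with h3 | h3
  · have h4 := h.prod (elt_one (F := F) (k - 2))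
    rw [show 2 + (k - 2) = k by omega, Nat.lcm_one_right] at h4
    exact ⟨_, h4⟩
  · obtain rfl : k = 2 := by omega
    exact ⟨_, h⟩

/-- **type A, order `4r`** -/
theorem exists_A4 (h2 : (2 : F) ≠ 0) (hk : 2 ≤ k) (hr : PP (Nat.card F) (2 * k) r) :
    ∃ z : Omega F ⇑(quadOdd (2 * k) F), orderOf (QuotientGroup.mk z : POmega F ⇑(quadOdd (2 * k) F)) = 4 * r ∧
      (z ^ 4) ^ r = 1 ∧ fixn (z ^ 4) = Nat.card F ^ (2 * k) * Nat.card F := by
  have hodd := pp_odd hk hr
  have hlt := hr.lt (show 0 < 2 * k by omega)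
  obtain ⟨Q₁, g, hQ₁, hg, hgo, -⟩ := exists_g hk hr
  obtain ⟨ε, -, Q₂, t, hQ₂, -, ht, hto⟩ := elt_eight (F := F) h2 hk
  have hgr : g ^ r = 1 := by rw [← hgo]; exact pow_orderOf_eq_one g
  have hgf : ∀ v, (g ^ 8) v = v → v = 0 := by
    intro v hv
    refine no_fix (F := F) hr (by rw [Module.finrank_fin_fun]) (hr.ne0 (by omega)) (g := g ^ 8) ?_ ?_ v hv
    · rw [← pow_mul, mul_comm 8 r, pow_mul, hgr, one_pow]
    · intro h
      have h5 := orderOf_dvd_of_pow_eq_one h
      rw [hgo, show (8 : ℕ) = 2 ^ 3 by norm_num] at h5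
      have h6 := hr.prime.dvd_of_dvd_pow h5
      have := Nat.le_of_dvd (by norm_num) h6
      omega
  have hN : ∀ j : ℕ, (g.prodMap t : Module.End F ((Fin (2 * k) → F) × (Fin (2 * k) → F))) ^ (2 * j) = 1 ↔
      4 * r ∣ j := by
    intro j
    rw [prodMap_pow', prodMap_eq_one_iff, ← orderOf_dvd_iff_pow_eq_one, ← orderOf_dvd_iff_pow_eq_one, hgo, hto]
    have hco : Nat.Coprime 2 r := Nat.coprime_two_left.2 hodd
    have hco4 : Nat.Coprime 4 r := by
      rw [show (4 : ℕ) = 2 ^ 2 by norm_num]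
      exact Nat.Coprime.pow_left 2 hco
    constructor
    · rintro ⟨h1, h3⟩
      exact hco4.mul_dvd_of_dvd_of_dvd (by omega) (hco.symm.dvd_of_dvd_mul_left h1)
    · rintro ⟨c, rfl⟩
      exact ⟨⟨8 * c, by ring⟩, ⟨r * c, by ring⟩⟩
  have hV : finrank F ((Fin (2 * k) → F) × (Fin (2 * k) → F)) = 2 * (2 * k) := by
    rw [finrank_prod, finrank_fin_fun]
    ring
  obtain ⟨z, e, h1, h3⟩ := exists_gen h2 (m := 2 * k) (by omega) (sumQ_nondeg hQ₁ hQ₂) hV (g.prodMap t) (fun v => by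
    rw [sumQ_apply, sumQ_apply, LinearMap.prodMap_apply, hg, ht]) hN
  refine ⟨z, h1, ?_, ?_⟩
  · rw [← pow_mul]
    exact pow_eq_one_of_gen (h3 _) ((hN _).2 dvd_rfl)
  · rw [fixn_of_gen (h3 4)]
    congr 1
    have h5 : ∀ v : (Fin (2 * k) → F) × (Fin (2 * k) → F),
        ((g.prodMap t : Module.End F _) ^ (2 * 4)) v = v ↔ v.1 = 0 := by
      intro v
      have h7 : t ^ (2 * 4) = 1 := by
        rw [show 2 * 4 = 8 from rfl, ← hto, pow_orderOf_eq_one]
      rw [prodMap_pow', h7, LinearMap.prodMap_apply]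
      constructor
      · intro h
        exact hgf _ (congrArg Prod.fst h)
      · intro h
        refine Prod.ext ?_ rfl
        change (g ^ 8) v.1 = v.1
        rw [h, map_zero]
    rw [Nat.card_congr (Equiv.subtypeEquivRight h5)]
    have h8 : Nat.card (Fin (2 * k) → F) = Nat.card F ^ (2 * k) := by
      rw [Nat.card_fun, Nat.card_fin]
    rw [← h8]
    exact Nat.card_congr
      { toFun := fun v => v.1.2
        invFun := fun b => ⟨(0, b), rfl⟩
        left_inv := fun v => Subtype.ext (Prod.ext v.2.symm rfl)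
        right_inv := fun _ => rfl }

/-- **the stabiliser of a minus point** -/
theorem special_three (h2 : (2 : F) ≠ 0) (hk : 2 ≤ k) (hr : PP (Nat.card F) (2 * k) r)
    {M : Subgroup (POmega F ⇑(quadOdd (2 * k) F))} {u : Unit ⊕ (Fin (2 * k) ⊕ Fin (2 * k)) → F}
    (hu : quadOdd (2 * k) F u ≠ 0)
    (hM : pre (⇑(quadOdd (2 * k) F)) M ≤ subspaceStabilizer (Submodule.span F {u}))
    (hP : ¬ IsPlus (res (quadOdd (2 * k) F) (perp (quadOdd (2 * k) F) (Submodule.span F {u})))) :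
    Three (POmega F ⇑(quadOdd (2 * k) F)) M := by
  have hS := semiAut_odd (F := F) (m := 2 * k) (by omega) h2
  obtain ⟨z, h1, h3, h4⟩ := exists_B4 h2 hk hr
  have hlt := hr.lt (by omega)
  refine three_of_type hS hr.prime (by omega) h1 h3 h4 fun x hx _ => ?_
  refine not_ty_of_point h2 (H955.nondeg_iff.2 (quadOdd_nondegenerate h2)) (H884.El.card_odd (2 * k)) hr.prime (by omega)
    (hr.not_dvd (by omega)) ?_ hu hM hP x hx
  rw [← hr.ord]
  exact pow_orderOf_eq_one _

/-- **subgroups with cyclic Sylow `r`-subgroups** -/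
theorem cyc_three (h2 : (2 : F) ≠ 0) (hk : 2 ≤ k) (hr : PP (Nat.card F) (2 * k) r)
    {M : Subgroup (POmega F ⇑(quadOdd (2 * k) F))} (hc : H264.FKS.Cyc r M) :
    Three (POmega F ⇑(quadOdd (2 * k) F)) M := by
  have hS := semiAut_odd (F := F) (m := 2 * k) (by omega) h2
  have hD := H884.El.data_odd (F := F) (m := 2 * k) (by omega) h2
  obtain ⟨zA, a1, a2, a3⟩ := exists_A4 h2 hk hr
  obtain ⟨zB, b1, b2, b3⟩ := exists_B4 h2 hk hr
  have hlt := hr.lt (by omega)
  by_cases hA : ∃ x ∈ M, orderOf x = r ∧ Ty r x (Nat.card F ^ (2 * k) * Nat.card F)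
  · obtain ⟨x, hx, hxr, hxA⟩ := hA
    refine three_of_type hS hr.prime (by omega) b1 b2 b3 fun y hy hyr hyB => ?_
    have h5 := cyc_one_type hS hD hr.prime (by omega) hc hx hy hxr hyr hxA hyB
    have h6 : 1 < Nat.card F := Finite.one_lt_card
    have h7 : 1 < Nat.card F ^ (2 * k) := Nat.one_lt_pow (by omega) h6
    nlinarith only [h5, h6, h7]
  · exact three_of_type hS hr.prime (by omega) a1 a2 a3 fun y hy hyr hyA => hA ⟨y, hy, hyr, hyA⟩

end

end Cfsg.Agent.H833.RS
end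

-- part: H833/RS/Row
section
/-!
# The row `Ω_{2m+1}(q)` of S3502, `(m, q) ≠ (3, 3)` (helper833)

The assembly follows helper265's `H265/Der/Row.lean`, with three classes instead of two.
-/

set_option autoImplicit false
set_option linter.unusedSectionVars false

namespace Cfsg.Agent.H833.RS

open Cfsg Cfsg.Geo Cfsg.Agent.H439.Der Cfsg.Agent.LieClassical.OmegaReindex
open Cfsg.Agent.OrdDiv Cfsg.Agent.H436 Cfsg.Agent.H264.FKS Cfsg.Agent.H265.Der
open Cfsg.Agent.H884.El (PP)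
open Cfsg.Agent.H938.Sax (PGap)
open Cfsg.Agent.H278.El.SporNum (IsCl exc)
open Cfsg.Agent.H278.El.AltNum (dimOf surv)
open scoped MatrixGroups

section

variable {F : Type} [Field F] [Fintype F] {m : ℕ}

/-- the geometric part -/
theorem geo_row3 (hm : 3 ≤ m) (hodd : Odd (Fintype.card F)) (M : Subgroup (POmega F (quadFormOdd m F))) :
    PGap _ M ∨ InOrthogonalResidualClass (preO (quadFormOdd m F) M) ∨ Three (POmega F (quadFormOdd m F)) M := by
  have h2 := H390.two_ne_zero_of_odd hodd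
  have h : ∀ M : Subgroup (POmega F (⇑(quadOdd m F))),
      PGap _ M ∨ InOrthogonalResidualClass (preO (⇑(quadOdd m F)) M) ∨ Three (POmega F (⇑(quadOdd m F))) M := by
    intro M
    rcases H884.El.odd_miss h2 hm (H884.El.card_odd m) (H955.nondeg_iff.2 (quadOdd_nondegenerate h2))
      (H884.El.data_odd hm h2) M with h | h | ⟨⟨k, hk⟩, v, hv, hMv, hP⟩
    · exact Or.inl h
    · exact Or.inr (Or.inl h)
    · obtain rfl : m = 2 * k := by omega
      obtain ⟨r, hr⟩ := exists_prim (q := Nat.card F) (e := 2 * k) Finite.one_lt_card (by omega) (by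
        rintro ⟨h3, -⟩
        rw [Nat.card_eq_fintype_card] at h3
        rw [h3] at hodd
        exact absurd hodd (by decide))
      exact Or.inr (Or.inr (special_three h2 (by omega) (prim_pp Nat.card_pos hr) hv hMv hP))
  rw [coe_quadOdd] at h
  exact h M

/-- the subgroups with cyclic Sylow `r`-subgroups -/
theorem cyc_row3 (hm : 3 ≤ m) (hodd : Odd (Fintype.card F)) (he : m % 2 = 0) {r : ℕ} (hr : Prim (Fintype.card F) m r)
    {M : Subgroup (POmega F (quadFormOdd m F))} (hc : Cyc r M) : Three (POmega F (quadFormOdd m F)) M := by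
  have h2 := H390.two_ne_zero_of_odd hodd
  obtain ⟨k, rfl⟩ : ∃ k, m = 2 * k := ⟨m / 2, by omega⟩
  rw [← Nat.card_eq_fintype_card] at hr
  have h : ∀ M : Subgroup (POmega F (⇑(quadOdd (2 * k) F))), Cyc r M → Three (POmega F (⇑(quadOdd (2 * k) F))) M :=
    fun M hM => cyc_three h2 (by omega) (prim_pp Nat.card_pos hr) hM
  rw [coe_quadOdd] at h
  exact h M hc

end

/-- **`Ω_{2m+1}(q)`, `q` odd, `m ≥ 3`, `(m, q) ≠ (3, 3)`.** -/
theorem rowS_oodd_gen (tab : OrderTable.{0}) (hK : ∀ (X : Type) [Group X] [Finite X] [IsSimpleGroup X],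
    Cfsg.IsKnownSimple' X) {F : Type} [Field F] [Fintype F] {m : ℕ} (hm : 3 ≤ m) (hodd : Odd (Fintype.card F))
    (h33 : ¬ (m = 3 ∧ Fintype.card F = 3)) : RowS (POmega F (quadFormOdd m F)) := by
  have hfin : Finite (POmega F (quadFormOdd m F)) := Quotient.finite _
  refine RowS.of_three fun R hR => ?_
  have hT : IsNamed (.oodd m (Fintype.card F)) (POmega F (quadFormOdd m F)) := named_oodd (F := F) hm hodd
  have hntc := ntc_odd (F := F) hm hodd h33
  have hmiss : Miss R → Three (POmega F (quadFormOdd m F)) R := fun h => Three.of_pgap hntc h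
  obtain ⟨p, hchF⟩ := CharP.exists F
  have hp : p.Prime := CharP.char_is_prime F p
  obtain ⟨f, -, hf⟩ := FiniteField.card F p
  rcases geo_row3 hm hodd R with h | ⟨P, hP, -⟩ | h
  · exact hmiss h
  · obtain ⟨S, hSn, hSs, hna, hC, ⟨e⟩⟩ := exists_res_odd hm hodd (M := R) hP
    obtain ⟨g, hg⟩ := named_of tab hK hna
    have hcard : Fintype.card (Unit ⊕ (Fin m ⊕ Fin m)) = dimOf (.oodd m (Fintype.card F)) := by
      rw [Fintype.card_sum, Fintype.card_sum, Fintype.card_fin, Fintype.card_unit]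
      change 1 + (m + m) = 2 * m + 1
      omega
    refine H278.El.Asm.res_kill (p := p) hT trivial ?_ ?_ S hC hg e hcard hmiss ?_ ?_
    · simp only [surv, List.mem_cons, reduceCtorEq, or_false, List.not_mem_nil, not_false_eq_true]
    · intro g' hg'
      simp only [exc, List.mem_cons, Prod.mk.injEq, reduceCtorEq, and_false, or_false, List.not_mem_nil] at hg'
    · intro hch
      by_cases hm0 : Miss R
      · exact hmiss hm0
      have hfull : Full (POmega F (quadFormOdd m F)) R := by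
        intro r hr hd
        by_contra h1
        exact hm0 ⟨r, hr, hd, h1⟩
      rw [hf] at hT
      obtain ⟨he, rfl⟩ := full_oodd hT hp f.pos hm hR.1 hfull S hna hC hg hch
      obtain ⟨r, hr, hlt⟩ := exists_big hp f.pos hm (by
        rintro ⟨rfl, -⟩
        rw [hf, Nat.odd_pow_iff f.ne_zero] at hodd
        exact absurd hodd (by decide))
      exact cyc_row3 hm hodd he (by rw [hf]; exact hr) (cyc_four S hna hC (Or.inl rfl) hg hp f.pos hr hlt hm he)
    · intro s hs hsp hch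
      rcases H884.Cx.cross_row hp hT trivial ⟨f, hf⟩ hcard S hna hC hP.perfect e hs hsp hg hch with h | h
      · exact hmiss h
      · simp only [H884.Cx.excP, List.mem_cons, Prod.mk.injEq, Grp.oodd.injEq, reduceCtorEq, and_false, or_false,
          false_or, List.not_mem_nil] at h
        exact absurd h.2 h33
  · exact h

end Cfsg.Agent.H833.RS
end

-- part: H833/RS/Main
section
/-!
# The row `Ω_{2m+1}(q)` of S3502 (helper833)

`rowS_oodd` : the strong row for all `m ≥ 3`, `q` odd; `rowS_oodd_gen` (`Row.lean`) and `Ω₇(3)` (here).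
-/

set_option autoImplicit false
set_option linter.unusedSectionVars false

namespace Cfsg.Agent.H833.RS.O73

open Cfsg Cfsg.Geo Cfsg.Agent.H439.Der Cfsg.Agent.OrdDiv Cfsg.Agent.LieClassical.OmegaReindex Cfsg.Agent.H377
open Cfsg.Agent.H94.PG
open scoped MatrixGroups

section

variable {F : Type} [Field F] [Fintype F]

theorem exists_15 (hF : Fintype.card F = 3) : ∃ x : POmega F (quadFormOdd 3 F), orderOf x = 15 := by
  have h2 := two_ne hF
  have := Fact.mk Nat.prime_three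
  have hch : CharP F 3 := by
    obtain ⟨p, hp⟩ := CharP.exists F
    have h5 : p ∣ 3 := (CharP.cast_eq_zero_iff F p 3).1 (by exact_mod_cast three_eq hF)
    have h6 : p.Prime := CharP.char_is_prime F p
    have h7 := (Nat.prime_dvd_prime_iff_eq h6 Nat.prime_three).1 h5
    rw [← h7]
    exact hp
  have h4 : ∃ ε : ℤ, Elt F 2 ε 5 := by
    rcases H377.OOdd.elt_of_dvd (F := F) (i := 2) (by norm_num) (u := 5) (by norm_num)
      (by rw [Nat.card_eq_fintype_card, hF]; norm_num) with h | h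
    · exact ⟨_, h⟩
    · exact ⟨_, h⟩
  obtain ⟨ε, h4⟩ := h4
  obtain ⟨g, hg⟩ := exists_mul_p (F := F) 3 h2 (m := 2) (by norm_num) (v := 5) (by decide) (by norm_num) h4
  exact ⟨g, by rw [hg]⟩

/-- the primes 2, 3, 5 -/
theorem not_scc (hF : Fintype.card F = 3) {v : ℕ} (hv : v = 2 ∨ v = 3 ∨ v = 5) :
    ¬ SCC (POmega F (quadFormOdd 3 F)) v := by
  have h2 := two_ne hF
  have ho : Odd (Nat.card F) := by rw [Nat.card_eq_fintype_card, hF]; decide
  have hfin : Finite (POmega F (quadFormOdd 3 F)) := Quotient.finite _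
  have hprod : ∀ {a b : ℕ}, Adj (POmega F (quadFormOdd 3 F)) a b →
      ∃ x : POmega F (quadFormOdd 3 F), orderOf x = a * b := by
    rintro a b ⟨ha, hb, hab, x, y, hx, hy, hxy⟩
    refine ⟨x * y, ?_⟩
    rw [hxy.orderOf_mul_eq_mul_orderOf_of_coprime, hx, hy]
    rw [hx, hy]
    exact (Nat.coprime_primes ha hb).2 hab
  obtain ⟨a, ha⟩ := hprod (H377.OOdd.adj_two_of_char (F := F) ho (m := 3) le_rfl Nat.prime_three (by norm_num)
    (by rw [Nat.card_eq_fintype_card, hF]))
  obtain ⟨b, hb⟩ := exists_15 hF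
  obtain ⟨c, hc⟩ := hprod (H377.OOdd.adj_two_of_dvd (F := F) ho (m := 3) (i := 2) le_rfl (by norm_num) (by norm_num)
    (u := 5) (by norm_num) (by norm_num) (by rw [Nat.card_eq_fintype_card, hF]; norm_num))
  obtain ⟨d, hd⟩ := H372.exists_eight_omegaOdd (F := F) h2 (m := 3) le_rfl
  have hN := card_T hF
  rw [coe_quadOdd] at hN
  rcases hv with rfl | rfl | rfl
  · refine not_SCC_of_orders (x := a) (y := c) (z := d) ?_ ?_ ?_ ?_ ?_ ?_ <;> (try rw [ha]) <;> (try rw [hc]) <;>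
      (try rw [hd]) <;> norm_num
  · have := Fact.mk Nat.prime_three
    obtain ⟨w, hw⟩ := exists_prime_orderOf_dvd_card' (G := POmega F (quadFormOdd 3 F)) 3 (by rw [hN]; norm_num)
    refine not_SCC_of_orders (x := a) (y := b) (z := w) ?_ ?_ ?_ ?_ ?_ ?_ <;> (try rw [ha]) <;> (try rw [hb]) <;>
      (try rw [hw]) <;> norm_num
  · have := Fact.mk (show Nat.Prime 5 by norm_num)
    obtain ⟨w, hw⟩ := exists_prime_orderOf_dvd_card' (G := POmega F (quadFormOdd 3 F)) 5 (by rw [hN]; norm_num)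
    refine not_SCC_of_orders (x := c) (y := b) (z := w) ?_ ?_ ?_ ?_ ?_ ?_ <;> (try rw [hc]) <;> (try rw [hb]) <;>
      (try rw [hw]) <;> norm_num

/-- **The maximal subgroups of `Ω₇(3)`.** -/
theorem three_73 (tab : OrderTable.{0}) (hK : ∀ (X : Type) [Group X] [Finite X] [IsSimpleGroup X],
    Cfsg.IsKnownSimple' X) (hF : Fintype.card F = 3) {M : Subgroup (POmega F ⇑(quadOdd 3 F))} (hM : IsCoatom M) :
    Three (POmega F ⇑(quadOdd 3 F)) M := by
  have h2 := two_ne hF
  have hN := card_T hF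
  have hfin : Finite (POmega F ⇑(quadOdd 3 F)) := Nat.finite_of_card_ne_zero (by rw [hN]; norm_num)
  have hscc : ∀ {v : ℕ}, v = 2 ∨ v = 3 ∨ v = 5 → ¬ SCC (POmega F ⇑(quadOdd 3 F)) v := fun {v} hv => by
    rw [coe_quadOdd]
    exact not_scc hF hv
  have hnsc : NSC (POmega F ⇑(quadOdd 3 F)) := by
    rw [coe_quadOdd]
    exact H265.Der.nsc_odd (F := F) le_rfl (by rw [hF]; decide)
  have hgap : H938.Sax.PGap (POmega F ⇑(quadOdd 3 F)) M := by
    revert hM hfin hN hscc hnsc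
    revert M
    rw [coe_quadOdd]
    intro M hM _ _ _ _
    exact H503.El.pgap_o73 tab hK F hF M hM.1
  have key : ∀ {v : ℕ}, v.Prime → v = 2 ∨ v = 3 ∨ v = 5 → ¬ v ∣ Nat.card M →
      Three (POmega F ⇑(quadOdd 3 F)) M := by
    intro v hvp hv h
    have := Fact.mk hvp
    obtain ⟨x, hx⟩ := exists_prime_orderOf_dvd_card' (G := POmega F ⇑(quadOdd 3 F)) v (by
      rw [hN]
      rcases hv with rfl | rfl | rfl <;> norm_num)
    exact Three.of_not_dvd h (hscc hv) ⟨x, by rw [hx]⟩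
  by_cases h5 : 5 ∣ Nat.card M
  swap
  · exact key (by norm_num) (by simp) h5
  have h713 : ¬ (7 ∣ Nat.card M ∧ 13 ∣ Nat.card M) ∨ Three (POmega F ⇑(quadOdd 3 F)) M := by
    obtain ⟨v, hv, h1, h3⟩ := hgap
    rw [hN] at h1
    have h4 : v ∈ (4585351680 : ℕ).primeFactors := Nat.mem_primeFactors.2 ⟨hv, h1, by norm_num⟩
    have h6 : (4585351680 : ℕ).primeFactors = {2, 3, 5, 7, 13} := by
      rw [show 4585351680 = 2 ^ 9 * 3 ^ 9 * 5 * 7 * 13 by norm_num]
      rw [Nat.primeFactors_mul (by norm_num) (by norm_num), Nat.primeFactors_mul (by norm_num) (by norm_num),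
        Nat.primeFactors_mul (by norm_num) (by norm_num), Nat.primeFactors_mul (by norm_num) (by norm_num),
        Nat.primeFactors_prime_pow (by norm_num) Nat.prime_two,
        Nat.primeFactors_prime_pow (by norm_num) Nat.prime_three, Nat.Prime.primeFactors (by norm_num : Nat.Prime 5),
        Nat.Prime.primeFactors (by norm_num : Nat.Prime 7), Nat.Prime.primeFactors (by norm_num : Nat.Prime 13)]
      decide
    rw [h6] at h4
    simp only [Finset.mem_insert, Finset.mem_singleton] at h4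
    rcases h4 with rfl | rfl | rfl | rfl | rfl
    · exact Or.inr (key hv (by simp) h3)
    · exact Or.inr (key hv (by simp) h3)
    · exact Or.inr (key hv (by simp) h3)
    · exact Or.inl fun h => h3 h.1
    · exact Or.inl fun h => h3 h.2
  rcases h713 with h713 | h
  swap
  · exact h
  have hs7 := hnsc 7 (by norm_num) (by rw [hN]; norm_num)
  have hs13 := hnsc 13 (by norm_num) (by rw [hN]; norm_num)
  obtain ⟨x15, hx15⟩ : ∃ x : POmega F ⇑(quadOdd 3 F), orderOf x = 15 := by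
    rw [coe_quadOdd]
    exact exists_15 hF
  obtain ⟨x18, hx18⟩ : ∃ x : POmega F ⇑(quadOdd 3 F), orderOf x = 18 := by
    rw [coe_quadOdd]
    exact H265.Der.O73.exists_eighteen hF
  obtain ⟨K, _, _, z14, -, -, hx14, -⟩ := exists_minus (F := F) h2 (m := 3) le_rfl (N := 14)
    (by rw [Nat.card_eq_fintype_card, hF]; norm_num)
  have hres : InOrthogonalResidualClass (H884.El.pre (⇑(quadOdd 3 F)) M) →
      ∃ S : Subgroup M, S.Normal ∧ IsSimpleGroup S ∧ (¬ IsMulCommutative S) ∧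
        Subgroup.centralizer (S : Set M) = ⊥ := by
    rintro ⟨P, hP, -⟩
    obtain ⟨S, h1, h3, h4, h6, -⟩ := H264.FKS.exists_res_omega (quadOdd_nondegenerate h2)
      (by rw [H884.El.card_odd]; norm_num) (quadOdd_isotropic (by norm_num)) hP
    exact ⟨S, h1, h3, h4, h6⟩
  by_cases h7 : 7 ∣ Nat.card M
  · have h13 : ¬ 13 ∣ Nat.card M := fun h => h713 ⟨h7, h⟩
    rcases geo_cases hF hM (Or.inl h7) with h | h | h
    · exact Three.of_not_SC_order h13 hs13 hx15 h (by norm_num)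
    · exact Three.of_not_SC_order h13 hs13 hx18 h (by norm_num)
    · obtain ⟨S, _, _, hna, hC⟩ := hres h
      rcases res_c tab hK hF hna hC h5 h7 h13 with h | h | h
      · exact Three.of_not_SC_order h13 hs13 hx15 (fun x hx => by
          rw [← Subgroup.orderOf_mk x hx]; exact h _) (by norm_num)
      · exact Three.of_not_SC_order h13 hs13 hx18 (fun x hx => by
          rw [← Subgroup.orderOf_mk x hx]; exact h _) (by norm_num)
      · exact Three.of_not_SC_order h13 hs13 hx14 (fun x hx => by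
          rw [← Subgroup.orderOf_mk x hx]; exact h _) (by norm_num)
  · by_cases h13 : 13 ∣ Nat.card M
    · rcases geo_cases hF hM (Or.inr ⟨h5, h13⟩) with h | h | h
      · exact Three.of_not_SC_order h7 hs7 hx15 h (by norm_num)
      · exact Three.of_not_SC_order h7 hs7 hx18 h (by norm_num)
      · obtain ⟨S, _, _, hna, hC⟩ := hres h
        exact Three.of_not_SC_order h7 hs7 hx15 (fun x hx => by
          rw [← Subgroup.orderOf_mk x hx]; exact res_d tab hK hF hna hC h5 h13 h7 _) (by norm_num)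
    · exact Three.of_two_primes (v := 13) (w := 7) (by norm_num) (by norm_num) (by norm_num)
        (by rw [hN]; norm_num) h13 h7 hs13

theorem rowS_73 (tab : OrderTable.{0}) (hK : ∀ (X : Type) [Group X] [Finite X] [IsSimpleGroup X],
    Cfsg.IsKnownSimple' X) (hF : Fintype.card F = 3) : RowS (POmega F (quadFormOdd 3 F)) := by
  rw [← coe_quadOdd]
  have hfin : Finite (POmega F ⇑(quadOdd 3 F)) := Quotient.finite _
  exact RowS.of_three fun M hM => three_73 tab hK hF hM

end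

end Cfsg.Agent.H833.RS.O73

namespace Cfsg.Agent.H833.RS

open Cfsg Cfsg.Agent.H439.Der Cfsg.Agent.OrdDiv

/-- **`Ω_{2m+1}(q)`, `q` odd, `m ≥ 3`** (S3502-OODD). -/
theorem rowS_oodd (tab : OrderTable.{0}) (hK : ∀ (X : Type) [Group X] [Finite X] [IsSimpleGroup X],
    Cfsg.IsKnownSimple' X) {F : Type} [Field F] [Fintype F] {m : ℕ} (hm : 3 ≤ m) (hodd : Odd (Fintype.card F)) :
    RowS (POmega F (quadFormOdd m F)) := by
  by_cases h33 : m = 3 ∧ Fintype.card F = 3
  · obtain ⟨rfl, hF⟩ := h33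
    exact O73.rowS_73 tab hK hF
  · exact rowS_oodd_gen tab hK hm hodd h33

end Cfsg.Agent.H833.RS
end

private theorem dce_6b6ac6359994 : _root_.True := by
  try have : _root_.True := by simp only [_root_.Cfsg.Agent.H546.Der.Ev.eq_1]
  exact _root_.True.intro
end
end
end
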